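import Groth.Agent.Lib.ThetaGrp15.Trivial

/-!
# Pulling points of the theta group back along a homomorphism

The canonical arrow `q : (A × T, (f^*M)_T) ⟶ (B × T, M_T)` is cartesian; it produces the canonical lifts of the
kernel of `f`, and pulls commutators back.
-/

universe u

open CategoryTheory CategoryTheory.Limits MonoidalCategory CartesianMonoidalCategory AlgebraicGeometry Opposite
open scoped MonObj

set_option backward.isDefEq.respectTransparency false
set_option maxHeartbeats 400000

noncomputable section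

namespace GrothLib.ThetaGrp15

open ThetaGrp

variable {k : Type u} [Field k] {A B : Over (Spec (CommRingCat.of k))} [GrpObj A] [GrpObj B]
  {L : A.left.Modules} {M : B.left.Modules} {T G : Over (Spec (CommRingCat.of k))}

/-- The arrow to `(A, L)` over the first projection. -/
def eps (A : Over (Spec (CommRingCat.of k))) (L : A.left.Modules) (T : Over (Spec (CommRingCat.of k))) :
    thetaObj A L T ⟶ (⟨A.left, L⟩ : ModSch.{u}) :=
  ⟨(fst A T).left, 𝟙 _⟩

omit [GrpObj A] in
theorem isIso_eps_fiber (T : Over (Spec (CommRingCat.of k))) : IsIso (eps A L T).fiber := by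
  dsimp [eps]; infer_instance

omit [GrpObj A] in
theorem bcLift_eps (g : T ⟶ G) : bcLift A L g ≫ eps A L G = eps A L T := by
  refine Pseudofunctor.CoGrothendieck.Hom.ext _ _ ?_ ?_
  · show (A ◁ g).left ≫ (fst A G).left = (fst A T).left
    rw [← Over.comp_left, whiskerLeft_fst]
  · simp only [bcLift, eps, Pseudofunctor.CoGrothendieck.categoryStruct_comp_fiber]
    simp
    erw [Category.id_comp, Iso.inv_hom_id_app, Category.comp_id]
    simp [Scheme.Modules.pullbackCongr]

omit [GrpObj A] in
theorem isIso_comp_fiber {X Y Z : ModSch.{u}} (f : X ⟶ Y) (g : Y ⟶ Z) (hf : IsIso f.fiber) (hg : IsIso g.fiber) :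
    IsIso (f ≫ g).fiber := by
  rw [Pseudofunctor.CoGrothendieck.categoryStruct_comp_fiber]
  infer_instance

/-- The arrow over `f` given by `f^*M ≅ L`. -/
def fArr (f : A ⟶ B) (e : (Scheme.Modules.pullback f.left).obj M ≅ L) :
    (⟨A.left, L⟩ : ModSch.{u}) ⟶ (⟨B.left, M⟩ : ModSch.{u}) :=
  ⟨f.left, e.inv⟩

/-- The composite `(A × T, L_T) ⟶ (B, M)`. -/
def pArr (f : A ⟶ B) (e : (Scheme.Modules.pullback f.left).obj M ≅ L) (T : Over (Spec (CommRingCat.of k))) :
    thetaObj A L T ⟶ (⟨B.left, M⟩ : ModSch.{u}) :=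
  eps A L T ≫ fArr f e

variable {f : A ⟶ B} (e : (Scheme.Modules.pullback f.left).obj M ≅ L)

theorem isIso_pArr_fiber (T : Over (Spec (CommRingCat.of k))) : IsIso (pArr f e T).fiber :=
  isIso_comp_fiber _ _ (isIso_eps_fiber T) (inferInstanceAs (IsIso e.inv))

theorem bcLift_pArr (g : T ⟶ G) : bcLift A L g ≫ pArr f e G = pArr f e T := by
  rw [pArr, ← Category.assoc, bcLift_eps]; rfl

theorem pArr_base (T : Over (Spec (CommRingCat.of k))) : (pArr f e T).base = (fst A T ≫ f).left := rfl

/-- The arrow `(A × T, L_T) ⟶ (B × T, M_T)` over `f × T`. -/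
theorem exists_qArr (T : Over (Spec (CommRingCat.of k))) :
    ∃ q : thetaObj A L T ⟶ thetaObj B M T, q.base = (f ▷ T).left ∧ q ≫ eps B M T = pArr f e T :=
  exists_lift _ (isIso_eps_fiber T) _ _ (by
    show (f ▷ T).left ≫ (fst B T).left = (fst A T ≫ f).left
    rw [← Over.comp_left, whiskerRight_fst])

theorem isIso_qArr_fiber {q : thetaObj A L T ⟶ thetaObj B M T} (h : q ≫ eps B M T = pArr f e T) :
    IsIso q.fiber := by
  haveI := isIso_pArr_fiber e T
  obtain ⟨e', he'⟩ := (Pseudofunctor.CoGrothendieck.Hom.ext_iff _ _).1 h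
  rw [Pseudofunctor.CoGrothendieck.categoryStruct_comp_fiber] at he'
  haveI := isIso_eps_fiber (A := B) (L := M) T
  haveI hh : IsIso (q.fiber ≫ (modPF.{u}.map q.base.op.toLoc).toFunctor.map (eps B M T).fiber ≫
      (modPF.{u}.mapComp (eps B M T).base.op.toLoc q.base.op.toLoc).inv.toNatTrans.app M) := by
    rw [show q.fiber ≫ _ = _ from he']; infer_instance
  exact IsIso.of_isIso_comp_right q.fiber ((modPF.{u}.map q.base.op.toLoc).toFunctor.map (eps B M T).fiber ≫
      (modPF.{u}.mapComp (eps B M T).base.op.toLoc q.base.op.toLoc).inv.toNatTrans.app M)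

variable [IsMonHom f]

theorem transl_whisker (x : T ⟶ A) : transl A x ≫ (f ▷ T) = (f ▷ T) ≫ transl B (x ≫ f) := by
  apply CartesianMonoidalCategory.hom_ext <;> simp [transl, MonObj.mul_comp, MonObj.comp_mul]

/-- Pulling a point of `G(M)` back. -/
theorem exists_pull {q : thetaObj A L T ⟶ thetaObj B M T} (hqb : q.base = (f ▷ T).left)
    (hq : q ≫ eps B M T = pArr f e T) {x : T ⟶ A} (gam : thetaPts B M T) (hgam : IsOverPt gam (x ≫ f)) :
    ∃ β : thetaPts A L T, IsOverPt β x ∧ β.1.hom ≫ q = q ≫ gam.1.hom := by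
  have hi : gam.1.inv.base = (transl B (x⁻¹ ≫ f)).left := by
    haveI := isIso_transl (A := B) (x ≫ f)
    rw [← cancel_epi (transl B (x ≫ f)).left, ← Over.comp_left, ← transl_mul, GrpObj.inv_comp, mul_inv_cancel,
      transl_one]
    rw [← hgam]
    exact congrArg (·.base) gam.1.hom_inv_id
  have hfib := isIso_qArr_fiber e hq
  obtain ⟨a, ha, ha'⟩ := exists_lift _ hfib (q ≫ gam.1.hom) (transl A x).left
    (by rw [Pseudofunctor.CoGrothendieck.categoryStruct_comp_base, hgam, hqb]
        exact congrArg Over.Hom.left (transl_whisker x))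
  obtain ⟨a', hb, hb'⟩ := exists_lift _ hfib (q ≫ gam.1.inv) (transl A x⁻¹).left
    (by rw [Pseudofunctor.CoGrothendieck.categoryStruct_comp_base, hi, hqb]
        exact congrArg Over.Hom.left (transl_whisker x⁻¹))
  let i : Aut (thetaObj A L T) :=
    ⟨a, a', lift_unique _ hfib _ _ (by
        rw [Pseudofunctor.CoGrothendieck.categoryStruct_comp_base, ha, hb, ← Over.comp_left,
          ← transl_mul, mul_inv_cancel, transl_one]
        rfl) (by rw [Category.assoc, hb', ← Category.assoc, ha', Category.assoc, Iso.hom_inv_id, Category.comp_id,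
          Category.id_comp]),
      lift_unique _ hfib _ _ (by
        rw [Pseudofunctor.CoGrothendieck.categoryStruct_comp_base, ha, hb, ← Over.comp_left,
          ← transl_mul, inv_mul_cancel, transl_one]
        rfl) (by rw [Category.assoc, ha', ← Category.assoc, hb', Category.assoc, Iso.inv_hom_id, Category.comp_id,
          Category.id_comp])⟩
  exact ⟨⟨i, x, ha⟩, ha, ha'⟩

end GrothLib.ThetaGrp15
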