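import Groth.Agent.Lib.ThetaGrp15.HomDesc
import Groth.Agent.Lib.ThetaGrp15.Pullback

/-!
# Arrows descend along cartesian arrows over flat coverings
-/

universe u

open CategoryTheory CategoryTheory.Limits AlgebraicGeometry Opposite TopologicalSpace

set_option backward.isDefEq.respectTransparency false
set_option maxHeartbeats 800000

noncomputable section

namespace GrothLib.ThetaGrp15

open ThetaGrp

variable {X Y Z : ModSch.{u}} (q : X ⟶ Y) [Flat q.base] [Surjective q.base] [QuasiCompact q.base]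

/-- Two arrows out of the target of such an arrow are equal if their composites are. -/
theorem arrow_epi (hq : IsIso q.fiber) (hR : PicF.IsInvertible (Y := Z.base) Z.fiber)
    (d d' : Y ⟶ Z) (hb : d.base = d'.base) (h : q ≫ d = q ≫ d') : d = d' := by
  obtain ⟨b, f⟩ := d
  obtain ⟨b', f'⟩ := d'
  obtain rfl : b = b' := hb
  have h' := Pseudofunctor.CoGrothendieck.Hom.congr h
  simp only [Pseudofunctor.CoGrothendieck.categoryStruct_comp_fiber, eqToHom_refl, Category.comp_id] at h'
  rw [← Category.assoc, ← Category.assoc, cancel_mono, cancel_epi] at h'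
  suffices f = f' by rw [this]
  refine Scheme.Modules.hom_ext (X := Y.base) _ _ fun U => ConcreteCategory.hom_ext _ _ fun s => ?_
  refine qs_injective q.base (Ample.isInvertible_pullback b hR) U ?_
  refine (QCoh.pullSec_natural q.base f (le_refl _) s).symm.trans (Eq.trans ?_ (QCoh.pullSec_natural q.base f' (le_refl _) s))
  exact congrArg (fun m : (Scheme.Modules.pullback q.base).obj Y.fiber ⟶ _ =>
    m.app (q.base ⁻¹ᵁ U) (qs q.base Y.fiber U s)) h'

/-- An arrow agreeing on all pairs of arrows equalised by `q` factors through `q`. -/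
theorem exists_arrow_descend (hq : IsIso q.fiber) (hR : PicF.IsInvertible (Y := Z.base) Z.fiber) (φ : X ⟶ Z)
    (d : Y.base ⟶ Z.base) (hd : q.base ≫ d = φ.base)
    (hφ : ∀ (W : ModSch.{u}) (a b : W ⟶ X), IsIso a.fiber → IsIso b.fiber → a ≫ q = b ≫ q → a ≫ φ = b ≫ φ) :
    ∃ δ : Y ⟶ Z, δ.base = d ∧ q ≫ δ = φ := by
  let R := (modPF.{u}.map d.op.toLoc).toFunctor.obj Z.fiber
  let c : (⟨Y.base, R⟩ : ModSch.{u}) ⟶ Z := ⟨d, 𝟙 _⟩
  have hc : IsIso c.fiber := by dsimp [c]; infer_instance
  obtain ⟨φ', hb', hφ'⟩ := exists_lift c hc φ q.base hd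
  obtain ⟨b', φf⟩ := φ'
  obtain rfl : b' = q.base := hb'
  haveI := hq
  let ψ : (Scheme.Modules.pullback q.base).obj Y.fiber ⟶ (Scheme.Modules.pullback q.base).obj R :=
    inv q.fiber ≫ φf
  obtain ⟨h, hh⟩ := exists_descend_hom q.base (Ample.isInvertible_pullback d hR) ψ fun W i j e => by
    let W' : ModSch.{u} := ⟨W, (Scheme.Modules.pullback (i ≫ q.base)).obj Y.fiber⟩
    let a : W' ⟶ X := ⟨i, (Scheme.Modules.pullbackComp i q.base).inv.app Y.fiber ≫
      (Scheme.Modules.pullback i).map (inv q.fiber)⟩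
    let b : W' ⟶ X := ⟨j, eqToHom (congrArg (fun m : W ⟶ Y.base => (Scheme.Modules.pullback m).obj Y.fiber) e) ≫
      (Scheme.Modules.pullbackComp j q.base).inv.app Y.fiber ≫ (Scheme.Modules.pullback j).map (inv q.fiber)⟩
    have ha : IsIso a.fiber := by dsimp [a]; infer_instance
    have hb : IsIso b.fiber := by dsimp [b]; infer_instance
    have hab : a ≫ q = b ≫ q := by
      refine Pseudofunctor.CoGrothendieck.Hom.ext _ _ e ?_
      simp [a, b, ← Functor.map_comp_assoc]
      erw [IsIso.inv_hom_id_assoc, IsIso.inv_hom_id_assoc, Category.id_comp, Category.id_comp, Iso.inv_hom_id_app,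
        Iso.inv_hom_id_app_assoc]
      simp
      rfl
    have h1 : a ≫ (⟨q.base, φf⟩ : X ⟶ ⟨Y.base, R⟩) = b ≫ (⟨q.base, φf⟩ : X ⟶ ⟨Y.base, R⟩) :=
      lift_unique c hc _ _ e (by rw [Category.assoc, Category.assoc, hφ']; exact hφ W' a b ha hb hab)
    have h2 := Pseudofunctor.CoGrothendieck.Hom.congr h1
    simp [a, b] at h2
    simp [ψ]
    erw [Category.id_comp, Category.id_comp] at h2
    rw [← cancel_mono (eqToHom (congrArg (fun m : W ⟶ Y.base => (Scheme.Modules.pullback m).obj R) e.symm))]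
    simp
    exact h2
  refine ⟨⟨d, h⟩, rfl, ?_⟩
  rw [← hφ']
  refine Pseudofunctor.CoGrothendieck.Hom.ext _ _ rfl ?_
  simp only [Pseudofunctor.CoGrothendieck.categoryStruct_comp_fiber, eqToHom_refl, Category.comp_id, c]
  simp
  erw [Category.id_comp, hh]
  simp [ψ]

end GrothLib.ThetaGrp15
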