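import Groth.Agent.Lib.ThetaGrp15.Pullback
import Groth.Prelude.Def_AlgGrp

/-!
# The canonical level subgroup over the kernel of a homomorphism along which the module descends
-/

universe u

open CategoryTheory CategoryTheory.Limits MonoidalCategory CartesianMonoidalCategory AlgebraicGeometry Opposite
open scoped MonObj

set_option backward.isDefEq.respectTransparency false
set_option maxHeartbeats 400000

noncomputable section

namespace GrothLib.ThetaGrp15

open ThetaGrp

variable {k : Type u} [Field k] {A B : Over (Spec (CommRingCat.of k))} [GrpObj A] [GrpObj B]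
  {L : A.left.Modules} {M : B.left.Modules} {T G : Over (Spec (CommRingCat.of k))}

omit [GrpObj B] in
theorem eq_of_transl_eq {x y : T ⟶ A} (h : (transl A x).left = (transl A y).left) : x = y := by
  have h' : transl A x = transl A y := Over.OverMorphism.ext h
  have h2 := congrArg (fun m => lift (1 : T ⟶ A) (𝟙 T) ≫ m ≫ fst A T) h'
  simpa [transl, MonObj.comp_mul] using h2

variable {f : A ⟶ B} [IsMonHom f] (e : (Scheme.Modules.pullback f.left).obj M ≅ L)

theorem transl_pArr {x : T ⟶ A} (hx : x ≫ f = 1) :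
    (transl A x).left ≫ (fst A T ≫ f).left = (fst A T ≫ f).left := by
  rw [← Over.comp_left]
  congr 1
  rw [← Category.assoc, transl_fst, MonObj.mul_comp, Category.assoc, hx, MonObj.comp_one, _root_.mul_one]

/-- `β` is the canonical lift of a point of the kernel. -/
def IsCanon (β : thetaPts A L T) (x : T ⟶ A) : Prop :=
  IsOverPt β x ∧ β.1.hom ≫ pArr f e T = pArr f e T

theorem isCanon_unique {β β' : thetaPts A L T} {x : T ⟶ A} (h : IsCanon e β x) (h' : IsCanon e β' x) :
    β = β' :=
  Subtype.ext (Iso.ext (lift_unique _ (isIso_pArr_fiber e T) _ _ (h.1.trans h'.1.symm) (h.2.trans h'.2.symm)))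

theorem exists_isCanon {x : T ⟶ A} (hx : x ≫ f = 1) : ∃ β : thetaPts A L T, IsCanon e β x := by
  have hfib := isIso_pArr_fiber e T
  obtain ⟨a, ha, ha'⟩ := exists_lift _ hfib (pArr f e T) (transl A x).left (transl_pArr hx)
  obtain ⟨a', hb, hb'⟩ := exists_lift _ hfib (pArr f e T) (transl A x⁻¹).left
    (transl_pArr (by rw [GrpObj.inv_comp, hx, inv_one]))
  let i : Aut (thetaObj A L T) :=
    ⟨a, a', lift_unique _ hfib _ _ (by
        rw [Pseudofunctor.CoGrothendieck.categoryStruct_comp_base, ha, hb, ← Over.comp_left,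
          ← transl_mul, mul_inv_cancel, transl_one]
        rfl) (by rw [Category.assoc, hb', ha', Category.id_comp]),
      lift_unique _ hfib _ _ (by
        rw [Pseudofunctor.CoGrothendieck.categoryStruct_comp_base, ha, hb, ← Over.comp_left,
          ← transl_mul, inv_mul_cancel, transl_one]
        rfl) (by rw [Category.assoc, ha', hb', Category.id_comp])⟩
  exact ⟨⟨i, x, ha⟩, ha, ha'⟩

theorem isCanon_mul {β β' : thetaPts A L T} {x y : T ⟶ A} (h : IsCanon e β x) (h' : IsCanon e β' y) :
    IsCanon e (β * β') (y * x) := by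
  refine ⟨?_, ?_⟩
  · show (β'.1.hom ≫ β.1.hom).base = _
    rw [Pseudofunctor.CoGrothendieck.categoryStruct_comp_base, h'.1, h.1, transl_mul, Over.comp_left]
  · show (β'.1.hom ≫ β.1.hom) ≫ pArr f e T = _
    rw [Category.assoc, h.2, h'.2]

theorem isBaseChange_isCanon (g : T ⟶ G) {β : thetaPts A L T} {b : thetaPts A L G} {x : G ⟶ A}
    (h : IsCanon e β (g ≫ x)) (h' : IsCanon e b x) : IsBaseChange β g b := by
  refine lift_unique _ (isIso_pArr_fiber e G) _ _ ?_ ?_
  · rw [Pseudofunctor.CoGrothendieck.categoryStruct_comp_base, Pseudofunctor.CoGrothendieck.categoryStruct_comp_base,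
      h.1, h'.1]
    exact congrArg Over.Hom.left (whisker_transl g x)
  · rw [Category.assoc, Category.assoc, h'.2, bcLift_pArr, h.2]

omit [IsMonHom f] in
theorem isBaseChange_trans {H : Over (Spec (CommRingCat.of k))} {g : T ⟶ H} {j : H ⟶ G} {β : thetaPts A L T}
    {b : thetaPts A L H} {u : thetaPts A L G} (h : IsBaseChange β g b) (h' : IsBaseChange b j u) :
    IsBaseChange β (g ≫ j) u := by
  have hc : bcLift A L g ≫ bcLift A L j = bcLift A L (g ≫ j) :=
    lift_unique _ (isIso_eps_fiber G) _ _ (congrArg Over.Hom.left (MonoidalCategory.whiskerLeft_comp A g j).symm)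
      (by rw [Category.assoc, bcLift_eps, bcLift_eps, bcLift_eps])
  rw [ThetaGrp.IsBaseChange, ← hc, ← Category.assoc, h, Category.assoc, h', Category.assoc]

include e in
theorem exists_levelSubgrp [IsCommMonObj A] [IsProper A.hom] [GeometricallyIntegral A.hom] [IsSeparated B.hom] {N : Over (Spec (CommRingCat.of k))} [GrpObj N]
    (i : N ⟶ A) [IsMonHom i] (hN : AlgGrp.IsKernel i f) [GrpObj G] (u : thetaPts A L G)
    (hG : IsThetaGrpSch A L G u) :
    ∃ j : N ⟶ G, IsMonHom j ∧ IsLevelSubgrp u j ∧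
      ∀ (T : Over (Spec (CommRingCat.of k))) (n : T ⟶ N) (β : thetaPts A L T),
        IsBaseChange β (n ≫ j) u → IsOverPt β (n ≫ i) := by
  have hker : ∀ {T : Over (Spec (CommRingCat.of k))} (n : T ⟶ N), (n ≫ i) ≫ f = 1 := fun n => by
    rw [Category.assoc, show i ≫ f = toUnit N ≫ η[B] from hN.w, ← Category.assoc, comp_toUnit]
    rfl
  obtain ⟨bN, hbN⟩ := exists_isCanon e (x := i) (by simpa using hker (𝟙 N))
  obtain ⟨j, hj, -⟩ := hG.univ N bN
  have hcanon : ∀ {T : Over (Spec (CommRingCat.of k))} (n : T ⟶ N) (β : thetaPts A L T),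
      IsCanon e β (n ≫ i) → IsBaseChange β (n ≫ j) u :=
    fun n β h => isBaseChange_trans (isBaseChange_isCanon e n h hbN) hj
  have hover : ∀ (T : Over (Spec (CommRingCat.of k))) (n : T ⟶ N) (β : thetaPts A L T),
      IsBaseChange β (n ≫ j) u → IsOverPt β (n ≫ i) := fun T n β hβ => by
    obtain ⟨β', h'⟩ := exists_isCanon e (hker n)
    rw [(hG.exists_bc T (n ≫ j)).unique hβ (hcanon n β' h')]
    exact h'.1
  have hmul : ∀ {T : Over (Spec (CommRingCat.of k))} (n m : T ⟶ N), (n * m) ≫ j = (n ≫ j) * (m ≫ j) := by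
    intro T n m
    obtain ⟨β, hβ⟩ := exists_isCanon e (hker n)
    obtain ⟨γ', hγ⟩ := exists_isCanon e (hker m)
    have h1 := hG.mul T _ _ β γ' (hcanon n β hβ) (hcanon m γ' hγ)
    have h2 : IsCanon e (β * γ') ((n * m) ≫ i) := by
      rw [MonObj.mul_comp, Cube.hom_mul_comm (n ≫ i)]; exact isCanon_mul e hβ hγ
    exact (hG.univ T (β * γ')).unique (hcanon _ _ h2) h1
  have hone : (1 : 𝟙_ _ ⟶ N) ≫ j = 1 := left_eq_mul.1 (by rw [← hmul, _root_.one_mul] : (1 : 𝟙_ _ ⟶ N) ≫ j = ((1 : 𝟙_ _ ⟶ N) ≫ j) * ((1 : 𝟙_ _ ⟶ N) ≫ j))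
  have hmon : IsMonHom j := by
    constructor
    · simpa [Hom.one_def] using hone
    · rw [show μ[N] = fst N N * snd N N by rw [Hom.mul_def]; simp, hmul, Hom.mul_def]
      congr 1
  refine ⟨j, hmon, ⟨?_, hmon, fun T h β hβ h1 => ?_⟩, hover⟩
  · obtain ⟨xu, hxu⟩ := u.2
    have hi : i = j ≫ xu := eq_of_transl_eq (hbN.1.symm.trans (by
      obtain ⟨b', hb', hb''⟩ := exists_baseChange j u hxu
      rw [(hG.exists_bc N j).unique hj hb'']; exact hb'))
    haveI : IsClosedImmersion (CategoryTheory.Over.Hom.left η[B]) :=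
      isClosedImmersion_of_comp_eq_id B.hom _ (Over.w η[B])
    haveI : IsClosedImmersion i.left :=
      MorphismProperty.of_isPullback (P := @IsClosedImmersion) (hN.map (Over.forget _)).flip ‹_›
    haveI : IsImmersion (j.left ≫ xu.left) := by
      rw [← Over.comp_left, ← hi]; infer_instance
    exact IsImmersion.of_comp j.left xu.left
  · have hni : h ≫ i = 1 := eq_of_transl_eq ((hover T h β hβ).symm.trans h1)
    refine hN.hom_ext ?_ (toUnit_unique _ _)
    rw [hni, MonObj.one_comp]

end GrothLib.ThetaGrp15
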