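import Groth.Agent.Lib.ThetaGrp15.Perp

/-!
# `f⁻¹ K(M)` is the orthogonal of the kernel in `K(f^*M)`
-/

universe u

open CategoryTheory CategoryTheory.Limits MonoidalCategory CartesianMonoidalCategory AlgebraicGeometry Opposite
open scoped MonObj

set_option backward.isDefEq.respectTransparency false
set_option maxHeartbeats 800000

noncomputable section

namespace GrothLib.ThetaGrp15

open ThetaGrp

variable {k : Type u} [Field k] {A B : Over (Spec (CommRingCat.of k))} [GrpObj A] [GrpObj B]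
  [IsProper A.hom] [GeometricallyIntegral A.hom] [IsProper B.hom] [GeometricallyIntegral B.hom]
  [IsCommMonObj A] {M : B.left.Modules} {T : Over (Spec (CommRingCat.of k))} {f : A ⟶ B} [IsMonHom f]
  {N : Over (Spec (CommRingCat.of k))} {i : N ⟶ A}

omit [GrpObj A] [IsProper A.hom] [GeometricallyIntegral A.hom] [GrpObj B] [IsProper B.hom]
  [GeometricallyIntegral B.hom] [IsCommMonObj A] [IsMonHom f] in
theorem eq_one_of_cover {c : Γ(T.left, ⊤)}
    (h : ∀ t : T.left, ∃ W : T.left.Opens, t ∈ W ∧ W.ι.appTop c = 1) : c = 1 := by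
  choose W htW hW using h
  refine T.left.sheaf.eq_of_locally_eq' W ⊤ (fun t => homOfLE le_top)
    (fun t _ => TopologicalSpace.Opens.mem_iSup.2 ⟨t, htW t⟩) c 1 fun t => ?_
  show T.left.presheaf.map (homOfLE le_top).op c = T.left.presheaf.map (homOfLE le_top).op 1
  have h1 := congrArg (W t).topIso.hom (hW t)
  rw [map_one] at h1
  rw [map_one, ← h1, ← ConcreteCategory.comp_apply]
  refine congrArg (fun φ : Γ(T.left, ⊤) ⟶ Γ(T.left, W t) => φ c) ?_
  simp only [Scheme.Opens.ι_appTop, Scheme.Opens.topIso_hom, ← Functor.map_comp]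
  rfl

omit [IsProper A.hom] [GeometricallyIntegral A.hom] [IsProper B.hom] [GeometricallyIntegral B.hom]
  [IsCommMonObj A] in
theorem kernel_comp (hN : AlgGrp.IsKernel i f) {T : Over (Spec (CommRingCat.of k))} (y : T ⟶ N) :
    (y ≫ i) ≫ f = 1 := by
  rw [Category.assoc, show i ≫ f = toUnit N ≫ η[B] from hN.w, ← Category.assoc, comp_toUnit]
  rfl

omit [IsProper A.hom] [GeometricallyIntegral A.hom] [IsProper B.hom] [GeometricallyIntegral B.hom]
  [IsCommMonObj A] [IsMonHom f] [GrpObj A] in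
theorem exists_kernel_lift (hN : AlgGrp.IsKernel i f) {T : Over (Spec (CommRingCat.of k))} {n : T ⟶ A}
    (hn : n ≫ f = 1) : ∃ y : T ⟶ N, y ≫ i = n :=
  ⟨hN.lift n (toUnit T) (by rw [hn]; rfl), hN.lift_fst _ _ _⟩

theorem flat_left (f : A ⟶ B) [IsMonHom f] [Surjective f.left] : Flat f.left ∧ QuasiCompact f.left := by
  haveI := Cube.smooth_abVar B
  haveI : IsIntegral B.left := GeometricallyIntegral.isIntegral_of_subsingleton B.hom
  haveI : QuasiCompact (f.left ≫ B.hom) := by rw [Over.w f]; infer_instance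
  haveI : QuasiCompact f.left := QuasiCompact.of_comp f.left B.hom
  exact ⟨GrothLib.GrpSchField.flat_hom f, inferInstance⟩

theorem factors_iff_perp [Surjective f.left] (hN : AlgGrp.IsKernel i f) (hM : PicF.IsInvertible M)
    {KL : Over (Spec (CommRingCat.of k))} {iL : KL ⟶ A}
    (hKL : IsKL A ((Scheme.Modules.pullback f.left).obj M) iL)
    {KM : Over (Spec (CommRingCat.of k))} {iM : KM ⟶ B} (hKM : IsKL B M iM) (x : T ⟶ A) :
    (∃ y : T ⟶ KM, y ≫ iM = x ≫ f) ↔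
      ((∃ y : T ⟶ KL, y ≫ iL = x) ∧ IsPerpPt ((Scheme.Modules.pullback f.left).obj M) i x) := by
  have hL : PicF.IsInvertible ((Scheme.Modules.pullback f.left).obj M) := Ample.isInvertible_pullback f.left hM
  let e := Iso.refl ((Scheme.Modules.pullback f.left).obj M)
  constructor
  · rintro ⟨z, hz⟩
    refine ⟨(factors_iff_locally_lift hL hKL x).2 fun t => ?_, fun T' g y β₁ β₂ h₁ h₂ => ?_⟩
    · obtain ⟨U, htU, d, hd⟩ := (factors_iff_locally_lift hM hKM (x ≫ f)).1 ⟨z, hz⟩ t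
      rw [← Category.assoc] at hd
      obtain ⟨q, hqb, hq⟩ := exists_qArr e (Over.mk (U.ι ≫ T.hom))
      obtain ⟨β, hβ, -⟩ := exists_pull e hqb hq d hd
      exact ⟨U, htU, β, hβ⟩
    · obtain ⟨c, hc⟩ := exists_isComm hL β₁ β₂
      refine (commute_iff hL hc).2 (eq_one_of_cover fun t => ?_)
      obtain ⟨W, htW, d, hd⟩ := (factors_iff_locally_lift hM hKM (g ≫ x ≫ f)).1
        ⟨g ≫ z, by rw [Category.assoc, hz]⟩ t
      have hd' : IsOverPt d ((inc T' W ≫ g ≫ x) ≫ f) := by simpa [Category.assoc] using hd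
      obtain ⟨q, hqb, hq⟩ := exists_qArr e (opn T' W)
      obtain ⟨β, hβ, hβq⟩ := exists_pull e hqb hq d hd'
      have hn : (inc T' W ≫ y ≫ i) ≫ f = 1 := by
        rw [← Category.assoc (inc T' W) y i]; exact kernel_comp hN _
      obtain ⟨β', hβ'⟩ := exists_isCanon e hn
      obtain ⟨c', hc'⟩ := exists_isComm hL β β'
      have h1 : c' = 1 := (commute_iff hL hc').1 (pull_commute e hqb hq hβ hn hβ' hβq)
      exact ⟨W, htW, (isCommPts_unique hL (isCommPts_pull ⟨β₁, β₂, h₁, h₂, hc⟩ (inc T' W))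
        ⟨β, β', hβ, hβ'.1, hc'⟩).trans h1⟩
  · rintro ⟨hx, hperp⟩
    obtain ⟨hflat, hqc⟩ := flat_left f
    refine (factors_iff_locally_lift hM hKM (x ≫ f)).2 fun t => ?_
    obtain ⟨U, htU, β, hβ⟩ := (factors_iff_locally_lift hL hKL x).1 hx t
    obtain ⟨d, hd⟩ := exists_thetaPt_below e hM hβ (fun T' s n hn β₁ β₂ h₁ h₂ => by
      obtain ⟨y, hy⟩ := exists_kernel_lift hN hn
      exact hperp T' (s ≫ Over.homMk U.ι rfl) y β₁ β₂ (by simpa [Category.assoc] using h₁) (hy ▸ h₂.1))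
    exact ⟨U, htU, d, by simpa [Category.assoc] using hd⟩

theorem forall_commute_iff [Surjective f.left] (hN : AlgGrp.IsKernel i f) (hM : PicF.IsInvertible M)
    {G : Over (Spec (CommRingCat.of k))} [GrpObj G]
    {u : thetaPts A ((Scheme.Modules.pullback f.left).obj M) G}
    (hG : IsThetaGrpSch A ((Scheme.Modules.pullback f.left).obj M) G u) (j : N ⟶ G)
    (hover : ∀ (T : Over (Spec (CommRingCat.of k))) (n : T ⟶ N)
      (β : thetaPts A ((Scheme.Modules.pullback f.left).obj M) T),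
      IsBaseChange β (n ≫ j) u → IsOverPt β (n ≫ i))
    {KM : Over (Spec (CommRingCat.of k))} {iM : KM ⟶ B} (hKM : IsKL B M iM)
    (g : T ⟶ G) (x : T ⟶ A) (β : thetaPts A ((Scheme.Modules.pullback f.left).obj M) T)
    (hβ : IsBaseChange β g u) (hx : IsOverPt β x) :
    (∀ (T' : Over (Spec (CommRingCat.of k))) (t : T' ⟶ T) (n : T' ⟶ N),
        (t ≫ g) * (n ≫ j) = (n ≫ j) * (t ≫ g)) ↔
      ∃ y : T ⟶ KM, y ≫ iM = x ≫ f := by
  have hL : PicF.IsInvertible ((Scheme.Modules.pullback f.left).obj M) := Ample.isInvertible_pullback f.left hM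
  let e := Iso.refl ((Scheme.Modules.pullback f.left).obj M)
  constructor
  · intro h
    obtain ⟨hflat, hqc⟩ := flat_left f
    obtain ⟨d, hd⟩ := exists_thetaPt_below e hM hx (fun T' s n hn β₁ β₂ h₁ h₂ => by
      obtain ⟨y, hy⟩ := exists_kernel_lift hN hn
      obtain ⟨γ₁, g₁, b₁⟩ := exists_baseChange s β hx
      obtain ⟨γ₂, b₂, -⟩ := hG.exists_bc T' (y ≫ j)
      have g₂ : IsOverPt γ₂ n := hy ▸ hover T' y γ₂ b₂
      have e₁ := hG.mul T' _ _ γ₁ γ₂ (isBaseChange_trans b₁ hβ) b₂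
      have e₂ := hG.mul T' _ _ γ₂ γ₁ b₂ (isBaseChange_trans b₁ hβ)
      rw [← h T' s y] at e₂
      obtain ⟨c, hc⟩ := exists_isComm hL γ₁ γ₂
      have hc1 : c = 1 := (commute_iff hL hc).1 ((hG.exists_bc T' _).unique e₁ e₂)
      subst hc1
      exact (commute_iff hL (isComm_congr hL g₁ g₂ h₁ h₂.1 hc)).2 rfl)
    refine (factors_iff_locally_lift hM hKM (x ≫ f)).2 fun t => ?_
    obtain ⟨d', hd', -⟩ := exists_baseChange (inc T ⊤) d hd
    exact ⟨⊤, trivial, d', hd'⟩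
  · rintro ⟨z, hz⟩ T' s n
    obtain ⟨γ₁, g₁, b₁⟩ := exists_baseChange s β hx
    obtain ⟨γ₂, b₂, -⟩ := hG.exists_bc T' (n ≫ j)
    have g₂ := hover T' n γ₂ b₂
    have hcomm : γ₁ * γ₂ = γ₂ * γ₁ := by
      obtain ⟨c, hc⟩ := exists_isComm hL γ₁ γ₂
      refine (commute_iff hL hc).2 (eq_one_of_cover fun t => ?_)
      obtain ⟨W, htW, d, hd⟩ := (factors_iff_locally_lift hM hKM (s ≫ x ≫ f)).1
        ⟨s ≫ z, by rw [Category.assoc, hz]⟩ t
      have hd' : IsOverPt d ((inc T' W ≫ s ≫ x) ≫ f) := by simpa [Category.assoc] using hd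
      obtain ⟨q, hqb, hq⟩ := exists_qArr e (opn T' W)
      obtain ⟨β₀, hβ₀, hβq⟩ := exists_pull e hqb hq d hd'
      have hn : (inc T' W ≫ n ≫ i) ≫ f = 1 := by
        rw [← Category.assoc (inc T' W) n i]; exact kernel_comp hN _
      obtain ⟨β', hβ'⟩ := exists_isCanon e hn
      obtain ⟨c', hc'⟩ := exists_isComm hL β₀ β'
      have h1 : c' = 1 := (commute_iff hL hc').1 (pull_commute e hqb hq hβ₀ hn hβ' hβq)
      exact ⟨W, htW, (isCommPts_unique hL (isCommPts_pull ⟨γ₁, γ₂, g₁, g₂, hc⟩ (inc T' W))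
        ⟨β₀, β', hβ₀, hβ'.1, hc'⟩).trans h1⟩
    have e₁ := hG.mul T' _ _ γ₁ γ₂ (isBaseChange_trans b₁ hβ) b₂
    have e₂ := hG.mul T' _ _ γ₂ γ₁ b₂ (isBaseChange_trans b₁ hβ)
    rw [← hcomm] at e₂
    exact (hG.univ T' _).unique e₁ e₂

end GrothLib.ThetaGrp15
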