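import Groth.Agent.Lib.ThetaGrp15.UnivArrow
import Groth.Agent.Lib.ThetaGrp15.Level
import Groth.Agent.Lib.ThetaGrp15.PerpMain

/-!
# The descent datum of a lifting of the kernel to the theta group
-/

universe u

open CategoryTheory CategoryTheory.Limits MonoidalCategory CartesianMonoidalCategory AlgebraicGeometry Opposite
open scoped MonObj

set_option backward.isDefEq.respectTransparency false
set_option maxHeartbeats 400000

noncomputable section

namespace GrothLib.ThetaGrp15

open ThetaGrp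
open Formal (smulModΓ)

theorem isIso_fiber_act {X Y : ModSch.{u}} {a : Γ(X.base, ⊤)} (ha : IsUnit a) {f : X ⟶ Y} (hf : IsIso f.fiber) :
    IsIso (act a f).fiber := by
  obtain ⟨b, hb⟩ := ha.exists_right_inv
  haveI : IsIso (smulModΓ (X := X.base) X.fiber a) := by
    refine ⟨smulModΓ (X := X.base) X.fiber b, ?_, ?_⟩ <;> rw [smulModΓ_mul]
    · rw [mul_comm, hb, smulModΓ_one]
    · rw [hb, smulModΓ_one]
  show IsIso (smulModΓ (X := X.base) X.fiber a ≫ f.fiber)
  infer_instance

theorem act_inj {X Y : ModSch.{u}} {a b : Γ(X.base, ⊤)} {f : X ⟶ Y} (hf : IsIso f.fiber)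
    (hL : PicF.IsInvertible (Y := X.base) X.fiber) (h : act a f = act b f) : a = b := by
  obtain ⟨e, h'⟩ := (Pseudofunctor.CoGrothendieck.Hom.ext_iff _ _).1 h
  refine eq_smulModΓ_injective hL ?_
  haveI := hf
  rw [← cancel_mono f.fiber]
  rw [eqToHom_refl, Category.comp_id] at h'
  exact h'

variable {k : Type u} [Field k] {A : Over (Spec (CommRingCat.of k))} [GrpObj A] {L : A.left.Modules}
  {T T' : Over (Spec (CommRingCat.of k))}

theorem exists_pointArr {a : T ⟶ A} (α : triv T.left ⟶ (⟨A.left, L⟩ : ModSch.{u})) (hα : α.base = a.left) :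
    ∃ s : triv T.left ⟶ thetaObj A L T, s.base = (lift a (𝟙 T)).left ∧ s ≫ eps A L T = α :=
  exists_lift _ (isIso_eps_fiber T) α _ (by
    show (lift a (𝟙 T)).left ≫ (fst A T).left = α.base
    rw [hα, ← Over.comp_left, lift_fst])

/-- An arrow over a point, as an arrow to `A × T`. -/
def pointArr {a : T ⟶ A} (α : triv T.left ⟶ (⟨A.left, L⟩ : ModSch.{u})) (hα : α.base = a.left) :
    triv T.left ⟶ thetaObj A L T :=
  (exists_pointArr α hα).choose

theorem pointArr_base {a : T ⟶ A} (α : triv T.left ⟶ (⟨A.left, L⟩ : ModSch.{u})) (hα : α.base = a.left) :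
    (pointArr α hα).base = (lift a (𝟙 T)).left :=
  (exists_pointArr α hα).choose_spec.1

theorem pointArr_eps {a : T ⟶ A} (α : triv T.left ⟶ (⟨A.left, L⟩ : ModSch.{u})) (hα : α.base = a.left) :
    pointArr α hα ≫ eps A L T = α :=
  (exists_pointArr α hα).choose_spec.2

/-- The action of a point of the theta group on arrows over a point of `A`. -/
def move (β : thetaPts A L T) {a : T ⟶ A} (α : triv T.left ⟶ (⟨A.left, L⟩ : ModSch.{u})) (hα : α.base = a.left) :
    triv T.left ⟶ (⟨A.left, L⟩ : ModSch.{u}) :=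
  pointArr α hα ≫ β.1.hom ≫ eps A L T

theorem move_base {β : thetaPts A L T} {x : T ⟶ A} (hβ : IsOverPt β x) {a : T ⟶ A}
    (α : triv T.left ⟶ (⟨A.left, L⟩ : ModSch.{u})) (hα : α.base = a.left) :
    (move β α hα).base = (a * x).left := by
  rw [move, Pseudofunctor.CoGrothendieck.categoryStruct_comp_base,
    Pseudofunctor.CoGrothendieck.categoryStruct_comp_base, pointArr_base, hβ]
  show (lift a (𝟙 T)).left ≫ (transl A x).left ≫ (fst A T).left = _
  rw [← Over.comp_left, ← Over.comp_left, transl_fst, MonObj.comp_mul, lift_fst, lift_snd_assoc, Category.id_comp]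

theorem isIso_move_fiber (β : thetaPts A L T) {a : T ⟶ A} (α : triv T.left ⟶ (⟨A.left, L⟩ : ModSch.{u}))
    (hα : α.base = a.left) (hi : IsIso α.fiber) : IsIso (move β α hα).fiber := by
  refine isIso_comp_fiber _ _ ?_ (isIso_comp_fiber _ _ (isIso_fiber β.1) (isIso_eps_fiber T))
  have h := pointArr_eps α hα
  generalize pointArr α hα = q at h ⊢
  obtain ⟨e', he'⟩ := (Pseudofunctor.CoGrothendieck.Hom.ext_iff _ _).1 h
  rw [Pseudofunctor.CoGrothendieck.categoryStruct_comp_fiber] at he'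
  haveI := isIso_eps_fiber (A := A) (L := L) T
  haveI : IsIso (q.fiber ≫ (modPF.{u}.map q.base.op.toLoc).toFunctor.map (eps A L T).fiber ≫
      (modPF.{u}.mapComp (eps A L T).base.op.toLoc q.base.op.toLoc).inv.toNatTrans.app L) := by
    rw [show q.fiber ≫ _ = _ from he']; infer_instance
  exact IsIso.of_isIso_comp_right q.fiber ((modPF.{u}.map q.base.op.toLoc).toFunctor.map (eps A L T).fiber ≫
      (modPF.{u}.mapComp (eps A L T).base.op.toLoc q.base.op.toLoc).inv.toNatTrans.app L)

theorem move_congr (β : thetaPts A L T) {a a' : T ⟶ A} {α α' : triv T.left ⟶ (⟨A.left, L⟩ : ModSch.{u})}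
    (hα : α.base = a.left) (hα' : α'.base = a'.left) (h : α = α') : move β α hα = move β α' hα' := by
  subst h
  obtain rfl : a = a' := Over.OverMorphism.ext (hα.symm.trans hα')
  rfl

theorem move_natural (g : T' ⟶ T) {β : thetaPts A L T} {β' : thetaPts A L T'} (h : IsBaseChange β' g β)
    {a : T ⟶ A} (α : triv T.left ⟶ (⟨A.left, L⟩ : ModSch.{u})) (hα : α.base = a.left)
    {a' : T' ⟶ A} (hα' : (hat g.left ≫ α).base = a'.left) :
    hat g.left ≫ move β α hα = move β' (hat g.left ≫ α) hα' := by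
  obtain rfl : a' = g ≫ a := Over.OverMorphism.ext (hα'.symm.trans
    ((congrArg (g.left ≫ ·) hα).trans rfl))
  have hl : hat g.left ≫ pointArr α hα = pointArr (hat g.left ≫ α) hα' ≫ bcLift A L g := by
    refine lift_unique _ (isIso_eps_fiber T) _ _ ?_ ?_
    · rw [Pseudofunctor.CoGrothendieck.categoryStruct_comp_base, Pseudofunctor.CoGrothendieck.categoryStruct_comp_base,
        pointArr_base, pointArr_base]
      show g.left ≫ (lift a (𝟙 T)).left = (lift (g ≫ a) (𝟙 T')).left ≫ (A ◁ g).left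
      rw [← Over.comp_left, ← Over.comp_left]
      congr 1
      apply CartesianMonoidalCategory.hom_ext <;> simp
    · rw [Category.assoc, Category.assoc, bcLift_eps, pointArr_eps, pointArr_eps]
  rw [move, move, ← Category.assoc (hat g.left), hl, ← bcLift_eps g]
  simp only [Category.assoc]
  rw [← Category.assoc β'.1.hom, h, Category.assoc]

theorem pointArr_act {a : T ⟶ A} (c : Γ(T.left, ⊤)) (α : triv T.left ⟶ (⟨A.left, L⟩ : ModSch.{u}))
    (hα : α.base = a.left) :
    pointArr (act (X := triv T.left) c α) hα = act (X := triv T.left) c (pointArr α hα) := by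
  refine lift_unique _ (isIso_eps_fiber T) _ _ ?_ ?_
  · rw [pointArr_base, act_base, pointArr_base]
  · rw [act_comp, pointArr_eps, pointArr_eps]

theorem move_act (β : thetaPts A L T) {a : T ⟶ A} (c : Γ(T.left, ⊤))
    (α : triv T.left ⟶ (⟨A.left, L⟩ : ModSch.{u})) (hα : α.base = a.left) :
    move β (act (X := triv T.left) c α) hα = act (X := triv T.left) c (move β α hα) := by
  rw [move, move, pointArr_act, act_comp]

theorem move_move {β₁ β₂ : thetaPts A L T} {x : T ⟶ A} (hβ₂ : IsOverPt β₂ x) {a a' : T ⟶ A}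
    (α : triv T.left ⟶ (⟨A.left, L⟩ : ModSch.{u})) (hα : α.base = a.left)
    (h' : (move β₂ α hα).base = a'.left) :
    move β₁ (move β₂ α hα) h' = move (β₁ * β₂) α hα := by
  obtain rfl : a' = a * x := Over.OverMorphism.ext (h'.symm.trans (move_base hβ₂ α hα))
  have hl : pointArr (move β₂ α hα) h' = pointArr α hα ≫ β₂.1.hom := by
    refine lift_unique _ (isIso_eps_fiber T) _ _ ?_ ?_
    · rw [pointArr_base, Pseudofunctor.CoGrothendieck.categoryStruct_comp_base, pointArr_base, hβ₂]
      show (lift (a * x) (𝟙 T)).left = (lift a (𝟙 T)).left ≫ (transl A x).left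
      rw [← Over.comp_left]
      congr 1
      apply CartesianMonoidalCategory.hom_ext <;> simp [transl, MonObj.comp_mul]
    · rw [pointArr_eps, Category.assoc]; rfl
  rw [move, hl, move]
  show _ = pointArr α hα ≫ (β₂.1.hom ≫ β₁.1.hom) ≫ eps A L T
  simp only [Category.assoc]

section Datum

variable {B N G : Over (Spec (CommRingCat.of k))} [GrpObj B] [GrpObj N] [GrpObj G]

/-- The data: a lifting of the kernel of `f` to the theta group. -/
structure KerLift (f : A ⟶ B) (i : N ⟶ A) (j : N ⟶ G) (u : thetaPts A L G) : Prop where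
  homf : IsMonHom f
  homi : IsMonHom i
  homj : IsMonHom j
  ker : AlgGrp.IsKernel i f
  rep : IsThetaGrpSch A L G u
  lies : ∀ (T : Over (Spec (CommRingCat.of k))) (n : T ⟶ N) (β : thetaPts A L T),
    IsBaseChange β (n ≫ j) u → IsOverPt β (n ≫ i)

variable {f : A ⟶ B} {i : N ⟶ A} {j : N ⟶ G} {u : thetaPts A L G}

theorem exists_ker (D : KerLift f i j u) {a b : T ⟶ A} (h : a ≫ f = b ≫ f) :
    ∃ n : T ⟶ N, n ≫ i = a⁻¹ * b := by
  haveI := D.homf
  exact exists_kernel_lift D.ker (by rw [MonObj.mul_comp, GrpObj.inv_comp, h, inv_mul_cancel])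

/-- The point of the kernel between two points with the same image. -/
def kpt (D : KerLift f i j u) {a b : T ⟶ A} (h : a ≫ f = b ≫ f) : T ⟶ N := (exists_ker D h).choose

theorem kpt_spec (D : KerLift f i j u) {a b : T ⟶ A} (h : a ≫ f = b ≫ f) : kpt D h ≫ i = a⁻¹ * b :=
  (exists_ker D h).choose_spec

theorem eq_kpt (D : KerLift f i j u) {a b : T ⟶ A} (h : a ≫ f = b ≫ f) {n : T ⟶ N} (hn : n ≫ i = a⁻¹ * b) :
    n = kpt D h :=
  D.ker.hom_ext (hn.trans (kpt_spec D h).symm) (toUnit_unique _ _)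

/-- The point of the theta group between two points with the same image. -/
def kBeta (D : KerLift f i j u) {a b : T ⟶ A} (h : a ≫ f = b ≫ f) : thetaPts A L T :=
  (D.rep.exists_bc T (kpt D h ≫ j)).choose

theorem kBeta_spec (D : KerLift f i j u) {a b : T ⟶ A} (h : a ≫ f = b ≫ f) :
    IsBaseChange (kBeta D h) (kpt D h ≫ j) u :=
  (D.rep.exists_bc T (kpt D h ≫ j)).choose_spec.1

theorem kBeta_over (D : KerLift f i j u) {a b : T ⟶ A} (h : a ≫ f = b ≫ f) :
    IsOverPt (kBeta D h) (a⁻¹ * b) :=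
  kpt_spec D h ▸ D.lies T _ _ (kBeta_spec D h)

/-- Moving an arrow over `a` to `b`. -/
def mv (D : KerLift f i j u) {a b : T ⟶ A} (h : a ≫ f = b ≫ f) (α : triv T.left ⟶ (⟨A.left, L⟩ : ModSch.{u}))
    (hα : α.base = a.left) : triv T.left ⟶ (⟨A.left, L⟩ : ModSch.{u}) :=
  move (kBeta D h) α hα

variable (D : KerLift f i j u)

theorem mv_base {a b : T ⟶ A} (h : a ≫ f = b ≫ f) (α : triv T.left ⟶ (⟨A.left, L⟩ : ModSch.{u}))
    (hα : α.base = a.left) : (mv D h α hα).base = b.left := by
  rw [mv, move_base (kBeta_over D h), ← _root_.mul_assoc, mul_inv_cancel, _root_.one_mul]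

theorem isIso_mv_fiber {a b : T ⟶ A} (h : a ≫ f = b ≫ f) (α : triv T.left ⟶ (⟨A.left, L⟩ : ModSch.{u}))
    (hα : α.base = a.left) (hi : IsIso α.fiber) : IsIso (mv D h α hα).fiber :=
  isIso_move_fiber _ α hα hi

theorem mv_congr {a b a' b' : T ⟶ A} (h : a ≫ f = b ≫ f) (h' : a' ≫ f = b' ≫ f) (hb : b = b')
    {α α' : triv T.left ⟶ (⟨A.left, L⟩ : ModSch.{u})} (hα : α.base = a.left) (hα' : α'.base = a'.left)
    (e : α = α') : mv D h α hα = mv D h' α' hα' := by
  subst e
  obtain rfl : a = a' := Over.OverMorphism.ext (hα.symm.trans hα')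
  subst hb
  rfl

theorem mv_act {a b : T ⟶ A} (h : a ≫ f = b ≫ f) (c : Γ(T.left, ⊤))
    (α : triv T.left ⟶ (⟨A.left, L⟩ : ModSch.{u})) (hα : α.base = a.left) :
    mv D h (act (X := triv T.left) c α) hα = act (X := triv T.left) c (mv D h α hα) :=
  move_act _ c α hα

include D in
theorem mv_natural (g : T' ⟶ T) {a b : T ⟶ A} (h : a ≫ f = b ≫ f) {a' b' : T' ⟶ A} (h' : a' ≫ f = b' ≫ f)
    (ha : g ≫ a = a') (hb : g ≫ b = b') (α : triv T.left ⟶ (⟨A.left, L⟩ : ModSch.{u})) (hα : α.base = a.left)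
    (hα' : (hat g.left ≫ α).base = a'.left) :
    hat g.left ≫ mv D h α hα = mv D h' (hat g.left ≫ α) hα' := by
  subst ha; subst hb
  have hn : g ≫ kpt D h = kpt D h' := eq_kpt D h' (by
    rw [Category.assoc, kpt_spec, MonObj.comp_mul, GrpObj.comp_inv])
  obtain ⟨β, -, hβ⟩ := exists_baseChange g (kBeta D h) (kBeta_over D h)
  have hβu : IsBaseChange β (kpt D h' ≫ j) u := by
    rw [← hn, Category.assoc]
    have hc : bcLift A L g ≫ bcLift A L (kpt D h ≫ j) = bcLift A L (g ≫ kpt D h ≫ j) :=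
      lift_unique _ (isIso_eps_fiber G) _ _
        (congrArg Over.Hom.left (MonoidalCategory.whiskerLeft_comp A g (kpt D h ≫ j)).symm)
        (by rw [Category.assoc, bcLift_eps, bcLift_eps, bcLift_eps])
    rw [ThetaGrp.IsBaseChange, ← hc, ← Category.assoc, hβ, Category.assoc, kBeta_spec D h, Category.assoc]
  have e : β = kBeta D h' := (D.rep.exists_bc T' _).unique hβu (kBeta_spec D h')
  exact move_natural g (e ▸ hβ) α hα hα'

theorem mv_mv [IsCommMonObj A] {a b c : T ⟶ A} (h : a ≫ f = b ≫ f) (h' : b ≫ f = c ≫ f)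
    (α : triv T.left ⟶ (⟨A.left, L⟩ : ModSch.{u})) (hα : α.base = a.left) :
    mv D h' (mv D h α hα) (mv_base D h α hα) = mv D (h.trans h') α hα := by
  haveI := D.homi
  haveI := D.homj
  refine (move_move (kBeta_over D h) α hα (mv_base D h α hα)).trans ?_
  have hn : kpt D h' * kpt D h = kpt D (h.trans h') := eq_kpt D _ (by
    rw [MonObj.mul_comp, kpt_spec, kpt_spec]
    calc b⁻¹ * c * (a⁻¹ * b) = a⁻¹ * c * (b⁻¹ * b) := by ac_rfl
      _ = a⁻¹ * c := by rw [inv_mul_cancel, _root_.mul_one])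
  have e : kBeta D h' * kBeta D h = kBeta D (h.trans h') := by
    refine (D.rep.exists_bc T _).unique ?_ (kBeta_spec D (h.trans h'))
    rw [← hn, MonObj.mul_comp]
    exact D.rep.mul T _ _ _ _ (kBeta_spec D h') (kBeta_spec D h)
  rw [e]
  rfl

end Datum

end GrothLib.ThetaGrp15
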