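import Groth.Agent.Lib.ThetaGrp15.UnivArrow
import Groth.Agent.Lib.ThetaGrp15.Move
import Groth.Agent.Lib.EtQc13.AssocComp
import Groth.Agent.Lib.EtQc13.AssocRes
import Groth.Agent.Lib.PicDirect26.Basic

/-!
# The value of an arrow at the unit section
-/

universe u

open CategoryTheory CategoryTheory.Limits AlgebraicGeometry Opposite TopologicalSpace
open GrothLib.InvExt (mres IsGen)

set_option backward.isDefEq.respectTransparency false
set_option maxHeartbeats 800000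

noncomputable section

namespace GrothLib.ThetaGrp15

open GrothLib.PBDeg (unitI isIso_unitI homEquiv_unitI cMap cMap_app)
open ThetaGrp
open Formal (smulModΓ)

variable {X T P : Scheme.{u}} {L : X.Modules}

/-- The value at `1`. -/
def val (α : triv T ⟶ (⟨X, L⟩ : ModSch.{u})) : Γ((Scheme.Modules.pullback α.base).obj L, ⊤) :=
  Scheme.Modules.Hom.app (X := T) α.fiber ⊤ (1 : Γ(T, ⊤))

theorem hom_ext_one {M : T.Modules} (φ ψ : Coh.structureModule T ⟶ M)
    (h : φ.app ⊤ (1 : Γ(T, ⊤)) = ψ.app ⊤ (1 : Γ(T, ⊤))) : φ = ψ := by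
  refine Scheme.Modules.hom_ext _ _ fun U => ConcreteCategory.hom_ext _ _ fun a => ?_
  have key : ∀ χ : Coh.structureModule T ⟶ M,
      χ.app U a = (show Γ(T, U) from a) • mres M le_top (χ.app ⊤ (1 : Γ(T, ⊤))) := fun χ => by
    rw [← Ample.app_mres χ (le_top : U ≤ ⊤), ← Scheme.Modules.Hom.app_smul]
    refine congrArg (χ.app U) ?_
    show (show Γ(T, U) from a) = (show Γ(T, U) from a) * T.presheaf.map _ 1
    rw [map_one, mul_one]
  rw [key φ, key ψ, h]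

theorem unitI_pullSec_one (x : T ⟶ P) :
    (unitI x).app ⊤ (QCoh.pullSec x (Coh.structureModule P) (le_top : (⊤ : T.Opens) ≤ x ⁻¹ᵁ ⊤) (1 : Γ(P, ⊤))) =
      (1 : Γ(T, ⊤)) := by
  have h := congrArg (fun m => Scheme.Modules.Hom.app m (⊤ : P.Opens) (1 : Γ(P, ⊤))) (homEquiv_unitI x)
  rw [Adjunction.homEquiv_unit] at h
  refine Eq.trans ?_ (map_one (x.app ⊤).hom)
  refine Eq.trans ?_ h
  exact congrArg ((unitI x).app ⊤) (CohPullLib.map_sec_self ((Scheme.Modules.pullback x).obj (Coh.structureModule P)) _ _)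

theorem hat_val (x : T ⟶ P) :
    Scheme.Modules.Hom.app (X := T) (hat x).fiber ⊤ (1 : Γ(T, ⊤)) =
      QCoh.pullSec x (Coh.structureModule P) (le_top : (⊤ : T.Opens) ≤ x ⁻¹ᵁ ⊤) (1 : Γ(P, ⊤)) := by
  haveI := isIso_unitI x
  rw [← unitI_pullSec_one x]
  show (inv (unitI x)).app ⊤ ((unitI x).app ⊤ _) = _
  rw [← ConcreteCategory.comp_apply, ← Scheme.Modules.Hom.comp_app, IsIso.hom_inv_id]
  rfl

/-- An arrow has the value of the section `e`. -/
def HasVal (α : triv T ⟶ (⟨X, L⟩ : ModSch.{u})) {U : X.Opens} (e : Γ(L, U)) : Prop :=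
  ∀ h : (⊤ : T.Opens) ≤ α.base ⁻¹ᵁ U, val α = QCoh.pullSec α.base L h e

theorem hasVal_hat_comp (x : T ⟶ P) (α : triv P ⟶ (⟨X, L⟩ : ModSch.{u})) {U : X.Opens} {e : Γ(L, U)}
    (h : HasVal α e) (hU : (⊤ : P.Opens) ≤ α.base ⁻¹ᵁ U) : HasVal (hat x ≫ α) e := by
  intro h'
  refine Eq.trans ?_ (EtQc13.pullSec_pullSec x α.base L hU le_top h' e)
  rw [← h hU]
  show ((Scheme.Modules.pullbackComp x α.base).hom.app L).app ⊤
    (((Scheme.Modules.pullback x).map α.fiber).app ⊤ (Scheme.Modules.Hom.app (X := T) (hat x).fiber ⊤ (1 : Γ(T, ⊤)))) = _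
  rw [hat_val]
  exact congrArg (((Scheme.Modules.pullbackComp x α.base).hom.app L).app ⊤)
    (QCoh.pullSec_natural x α.fiber le_top (1 : Γ(P, ⊤)))

theorem val_act (a : Γ(T, ⊤)) (α : triv T ⟶ (⟨X, L⟩ : ModSch.{u})) : val (act (X := triv T) a α) = a • val α := by
  show Scheme.Modules.Hom.app (X := T) (smulModΓ (Coh.structureModule T) a ≫ α.fiber) ⊤ (1 : Γ(T, ⊤)) = _
  rw [Scheme.Modules.Hom.comp_app, ConcreteCategory.comp_apply, FunMor20.smulModΓ_app]
  refine (Scheme.Modules.Hom.app_smul α.fiber _ _).trans (congrArg (fun z : Γ(T, ⊤) => z • val α) ?_)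
  exact InvExt.fres_self a

theorem hasVal_act {U : X.Opens} (a : Γ(X, U)) (α : triv T ⟶ (⟨X, L⟩ : ModSch.{u})) {e : Γ(L, U)}
    (h : HasVal α e) (hU : (⊤ : T.Opens) ≤ α.base ⁻¹ᵁ U) :
    HasVal (act (X := triv T) (α.base.appLE U ⊤ hU a) α) (a • e) := by
  intro h'
  rw [val_act, h h']
  exact (QCoh.pullSec_smul α.base L h' a e).symm

/-- The arrows with the same base and the same value are equal. -/
theorem eq_of_hasVal {α β : triv T ⟶ (⟨X, L⟩ : ModSch.{u})} (hb : α.base = β.base) {U : X.Opens} {e : Γ(L, U)}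
    (hU : (⊤ : T.Opens) ≤ α.base ⁻¹ᵁ U) (h₁ : HasVal α e) (h₂ : HasVal β e) : α = β := by
  obtain ⟨b, φ⟩ := α
  obtain ⟨b', ψ⟩ := β
  obtain rfl : b = b' := hb
  have e' : φ = ψ := hom_ext_one (M := (Scheme.Modules.pullback b).obj L) φ ψ ((h₁ hU).trans (h₂ hU).symm)
  rw [e']

/-- The value of an invertible arrow over an open immersion comes from a generator. -/
theorem exists_gen_hasVal (hL : PicF.IsInvertible L) {V : X.Opens} (ω : triv V.toScheme ⟶ (⟨X, L⟩ : ModSch.{u}))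
    (hb : ω.base = V.ι) (hi : IsIso ω.fiber) : ∃ e : Γ(L, V), IsGen L V e ∧ HasVal ω e := by
  obtain ⟨b, φ⟩ := ω
  obtain rfl : b = V.ι := hb
  haveI : IsIso φ := hi
  let ψ : (Scheme.Modules.pullback V.ι).obj L ≅ Coh.structureModule V := (asIso φ).symm
  have hle : (⊤ : V.toScheme.Opens) ≤ V.ι ⁻¹ᵁ V := V.ι_preimage_self.ge
  obtain ⟨e', he'⟩ := PicDirect26.exists_gen_of_pullback_ι (L := L) (U := V) ⟨ψ⟩
  obtain ⟨e, he⟩ := (EtQc13.bijective_pullSec_ι L V hle).2 (φ.app ⊤ (1 : Γ(V.toScheme, ⊤)))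
  refine ⟨e, ?_, fun h => he.symm⟩
  obtain ⟨c, hc⟩ := he'.exists_smul_eq le_rfl e
  rw [InvExt.mres_self] at hc
  have hg : IsGen ((Scheme.Modules.pullback V.ι).obj L) ⊤ (φ.app ⊤ (1 : Γ(V.toScheme, ⊤))) :=
    InvExt.IsGen.map φ (InvExt.isGen_one ⊤) fun W _ => ConcreteCategory.bijective_of_isIso (φ.app W)
  obtain ⟨d, hd⟩ := hg.exists_smul_eq le_rfl (QCoh.pullSec V.ι L hle e')
  rw [InvExt.mres_self, ← he, hc, QCoh.pullSec_smul, smul_smul] at hd
  have hge : IsGen ((Scheme.Modules.pullback V.ι).obj L) ⊤ (QCoh.pullSec V.ι L hle e') :=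
    PicAff28.isGen_pullRes V.ι hL he' ⊤ hle
  have h1 : d * V.ι.appLE V ⊤ hle c = 1 := hge.smul_left_injective le_rfl (by
    rw [InvExt.mres_self, one_smul]; exact hd.symm)
  rw [hc]
  refine he'.smul_unit ?_
  have hu : IsUnit (V.ι.appLE V ⊤ hle c) := IsUnit.of_mul_eq_one_right d h1
  haveI : IsIso (V.ι.appLE V ⊤ hle) := by
    rw [Scheme.Opens.ι_appLE]
    haveI : IsIso (homOfLE (show V.ι ''ᵁ ⊤ ≤ V from V.ι_image_top.le)) :=
      ⟨homOfLE V.ι_image_top.ge, Subsingleton.elim _ _, Subsingleton.elim _ _⟩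
    infer_instance
  exact (isUnit_map_iff (asIso (V.ι.appLE V ⊤ hle)).commRingCatIsoToRingEquiv c).1 hu

end GrothLib.ThetaGrp15
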