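import Groth.Agent.Lib.GmExt15.Basic
import Groth.Agent.Lib.SerrePn27.ExtHH
import Groth.Agent.Lib.FMTrans15.Main
import Groth.Agent.Lib.CBExt28.Vanish
import Groth.Agent.Lib.Cube.AbVar

/-!
# Endomorphisms of invertible modules are functions; functions on `A × T` come from `T`
-/

universe u

open CategoryTheory CategoryTheory.Limits MonoidalCategory CartesianMonoidalCategory AlgebraicGeometry Opposite

set_option backward.isDefEq.respectTransparency false

noncomputable section

namespace GrothLib.ThetaGrp15

open Formal (smulModΓ)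

variable {X : Scheme.{u}}

/-- Multiplication by a function commutes with every map of modules. -/
theorem smulModΓ_natural {M N : X.Modules} (f : M ⟶ N) (r : Γ(X, ⊤)) :
    smulModΓ M r ≫ f = f ≫ smulModΓ N r := by
  refine Scheme.Modules.hom_ext _ _ fun U => ?_
  ext m
  show f.app U ((smulModΓ M r).app U m) = (smulModΓ N r).app U (f.app U m)
  rw [FunMor20.smulModΓ_app, FunMor20.smulModΓ_app]
  exact Scheme.Modules.Hom.app_smul f _ _

theorem smulModΓ_mul (M : X.Modules) (r s : Γ(X, ⊤)) :
    smulModΓ M r ≫ smulModΓ M s = smulModΓ M (s * r) := by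
  refine Scheme.Modules.hom_ext _ _ fun U => ?_
  ext m
  show (smulModΓ M s).app U ((smulModΓ M r).app U m) = _
  rw [FunMor20.smulModΓ_app, FunMor20.smulModΓ_app, FunMor20.smulModΓ_app, map_mul, mul_smul]

/-- An endomorphism of an invertible module is multiplication by a function. -/
theorem exists_eq_smulModΓ_invertible {L : X.Modules} (hL : PicF.IsInvertible L) (φ : L ⟶ L) :
    ∃ r : Γ(X, ⊤), φ = smulModΓ L r := by
  obtain ⟨N, hN, -, ⟨e⟩⟩ := FMTrans15.exists_tensor_inverse hL
  let F := (DCoh.tensorBi (X := X)).obj N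
  haveI : F.IsEquivalence := CBExt28.isEquivalence_Tw hN
  refine ⟨(e.inv ≫ F.map φ ≫ e.hom).app ⊤ (FinCov.one X ⊤), F.map_injective ?_⟩
  rw [show F.map (smulModΓ L _) = _ from SerrePn27.tensor_map_smulModΓ_right N L _]
  rw [← cancel_mono e.hom, ← cancel_epi e.inv, smulModΓ_natural,
    ← FunMor20.exists_eq_smulModΓ]
  simp

theorem eq_smulModΓ_injective {L : X.Modules} (hL : PicF.IsInvertible L) {r s : Γ(X, ⊤)}
    (h : smulModΓ L r = smulModΓ L s) : r = s := by
  obtain ⟨N, hN, -, ⟨e⟩⟩ := FMTrans15.exists_tensor_inverse hL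
  let F := (DCoh.tensorBi (X := X)).obj N
  have h1 := congrArg F.map h
  rw [show F.map (smulModΓ L r) = _ from SerrePn27.tensor_map_smulModΓ_right N L r,
    show F.map (smulModΓ L s) = _ from SerrePn27.tensor_map_smulModΓ_right N L s] at h1
  have h2 : smulModΓ (Coh.structureModule X) r = smulModΓ (Coh.structureModule X) s := by
    rw [← cancel_epi e.hom, ← smulModΓ_natural, ← smulModΓ_natural, h1]
  have h3 := congrArg (fun f : Coh.structureModule X ⟶ Coh.structureModule X => f.app ⊤ (FinCov.one X ⊤)) h2
  simp only [FunMor20.smulModΓ_app] at h3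
  simpa [FinCov.one] using h3

variable {k : Type u} [Field k] (A : Over (Spec (CommRingCat.of k))) [GrpObj A] [IsProper A.hom]
  [GeometricallyIntegral A.hom]

/-- Functions on `A × T` come from `T`. -/
theorem bijective_appTop_snd (T : Over (Spec (CommRingCat.of k))) :
    Function.Bijective (snd A T).left.appTop := by
  haveI := Cube.smooth_abVar A
  haveI : GeometricallyReduced A.hom := GrothLib.Rigidity.geometricallyReduced_of_smooth' A.hom
  haveI : GeometricallyConnected A.hom := Rigidity.geometricallyConnected_of_geometricallyIrreducible A.hom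
  show Function.Bijective (pullback.snd A.hom T.hom).appTop
  exact GmExt15.bijective_app_of_proper_flat (pullback.snd A.hom T.hom) ⊤

end GrothLib.ThetaGrp15
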