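import Groth.Agent.Lib.ThetaGrp15.Local
import Groth.Agent.Lib.ThetaGrp15.Scalars

/-!
# Multiplying arrows by functions, and base change of points of the theta group
-/

universe u

open CategoryTheory CategoryTheory.Limits MonoidalCategory CartesianMonoidalCategory AlgebraicGeometry
open scoped MonObj

set_option backward.isDefEq.respectTransparency false
set_option maxHeartbeats 400000

noncomputable section

namespace GrothLib.ThetaGrp15

open ThetaGrp
open Formal (smulModΓ)

/-- Modules with a scheme below, with their morphisms. -/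
abbrev ModSch := Pseudofunctor.CoGrothendieck (modPF.{u})

/-- An arrow multiplied by a function on its source. -/
def act {X Y : ModSch.{u}} (a : Γ(X.base, ⊤)) (f : X ⟶ Y) : X ⟶ Y :=
  ⟨f.base, smulModΓ (X := X.base) X.fiber a ≫ f.fiber⟩

@[simp] theorem act_base {X Y : ModSch.{u}} (a : Γ(X.base, ⊤)) (f : X ⟶ Y) : (act a f).base = f.base := rfl

theorem smulModΓ_one {X : Scheme.{u}} (M : X.Modules) : smulModΓ M (1 : Γ(X, ⊤)) = 𝟙 M := by
  refine Scheme.Modules.hom_ext _ _ fun U => ?_
  ext m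
  rw [FunMor20.smulModΓ_app, map_one, one_smul]
  rfl

theorem act_one {X Y : ModSch.{u}} (f : X ⟶ Y) : act 1 f = f := by
  refine Pseudofunctor.CoGrothendieck.Hom.ext _ _ rfl ?_
  show smulModΓ (X := X.base) X.fiber 1 ≫ f.fiber = f.fiber ≫ eqToHom _
  rw [smulModΓ_one, eqToHom_refl, Category.comp_id]
  exact Category.id_comp _

theorem act_act {X Y : ModSch.{u}} (a b : Γ(X.base, ⊤)) (f : X ⟶ Y) : act a (act b f) = act (b * a) f := by
  refine Pseudofunctor.CoGrothendieck.Hom.ext _ _ rfl ?_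
  show smulModΓ (X := X.base) X.fiber a ≫ smulModΓ (X := X.base) X.fiber b ≫ f.fiber = _ ≫ eqToHom _
  rw [← Category.assoc, smulModΓ_mul, eqToHom_refl, Category.comp_id]
  rfl

theorem act_comp {X Y Z : ModSch.{u}} (a : Γ(X.base, ⊤)) (f : X ⟶ Y) (g : Y ⟶ Z) :
    act a f ≫ g = act a (f ≫ g) := by
  refine Pseudofunctor.CoGrothendieck.Hom.ext _ _ rfl ?_
  simp only [act, Pseudofunctor.CoGrothendieck.categoryStruct_comp_fiber, eqToHom_refl, Category.comp_id,
    Category.assoc]

theorem comp_act {X Y Z : ModSch.{u}} (f : X ⟶ Y) (a : Γ(Y.base, ⊤)) (g : Y ⟶ Z) :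
    f ≫ act a g = act (f.base.appTop a) (f ≫ g) := by
  refine Pseudofunctor.CoGrothendieck.Hom.ext _ _ rfl ?_
  simp only [act, Pseudofunctor.CoGrothendieck.categoryStruct_comp_fiber, eqToHom_refl, Category.comp_id,
    Functor.map_comp, Category.assoc]
  have h := smulModΓ_natural (X := X.base) f.fiber (f.base.appTop a)
  have h2 := FunMor20.pullback_map_smulModΓ f.base Y.fiber a
  erw [← Category.assoc (smulModΓ (X := X.base) X.fiber _), h, Category.assoc]
  erw [h2]
  rfl

theorem isIso_fiber_act_iff {X Y : ModSch.{u}} {a : Γ(X.base, ⊤)} {f : X ⟶ Y} (hf : IsIso f.fiber)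
    (hL : PicF.IsInvertible (Y := X.base) X.fiber) (h : act a f = f) : a = 1 := by
  obtain ⟨e, h'⟩ := (Pseudofunctor.CoGrothendieck.Hom.ext_iff _ _).1 h
  refine eq_smulModΓ_injective hL ?_
  rw [smulModΓ_one]
  haveI := hf
  rw [← cancel_mono f.fiber]
  rw [eqToHom_refl, Category.comp_id] at h'
  exact h'.trans (Category.id_comp _).symm

theorem exists_eq_act {X Y : ModSch.{u}} (f g : X ⟶ Y) (hb : g.base = f.base) (hf : IsIso f.fiber)
    (hL : PicF.IsInvertible (Y := X.base) X.fiber) : ∃ a, g = act a f := by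
  obtain ⟨a, ha⟩ := exists_eq_smulModΓ_invertible hL (g.fiber ≫ eqToHom (by rw [hb]) ≫ inv f.fiber)
  refine ⟨a, (Pseudofunctor.CoGrothendieck.Hom.ext (act a f) g hb.symm ?_).symm⟩
  show smulModΓ (X := X.base) X.fiber a ≫ f.fiber = g.fiber ≫ eqToHom _
  rw [← ha]
  simp

/-- Arrows with invertible module part are cartesian. -/
theorem exists_lift {X Y Z : ModSch.{u}} (f : X ⟶ Y) (hf : IsIso f.fiber) (h : Z ⟶ Y) (b : Z.base ⟶ X.base)
    (hb : b ≫ f.base = h.base) : ∃ g : Z ⟶ X, g.base = b ∧ g ≫ f = h := by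
  refine ⟨⟨b, h.fiber ≫ eqToHom (congrArg (fun c : Z.base ⟶ Y.base => (modPF.{u}.map c.op.toLoc).toFunctor.obj Y.fiber) hb.symm) ≫
    (modPF.{u}.mapComp f.base.op.toLoc b.op.toLoc).hom.toNatTrans.app Y.fiber ≫
      (modPF.{u}.map b.op.toLoc).toFunctor.map (inv f.fiber)⟩, rfl, ?_⟩
  refine Pseudofunctor.CoGrothendieck.Hom.ext _ _ hb ?_
  simp only [Pseudofunctor.CoGrothendieck.categoryStruct_comp_fiber, Category.assoc]
  congr 1
  simp [← Functor.map_comp_assoc]
  erw [Category.id_comp, Category.id_comp, Iso.inv_hom_id_app, Category.comp_id]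

theorem lift_unique {X Y Z : ModSch.{u}} (f : X ⟶ Y) (hf : IsIso f.fiber) (g g' : Z ⟶ X) (hb : g.base = g'.base)
    (h : g ≫ f = g' ≫ f) : g = g' := by
  obtain ⟨b, φ⟩ := g
  obtain ⟨b', φ'⟩ := g'
  obtain rfl : b = b' := hb
  have h' := Pseudofunctor.CoGrothendieck.Hom.congr h
  simp only [Pseudofunctor.CoGrothendieck.categoryStruct_comp_fiber, eqToHom_refl, Category.comp_id] at h'
  rw [← Category.assoc, ← Category.assoc, cancel_mono, cancel_mono] at h'
  rw [h']

section

variable {S : Scheme.{u}} {A : Over S} [GrpObj A] {L : A.left.Modules} {T G : Over S}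

theorem isIso_bcLift_fiber (g : T ⟶ G) : IsIso (bcLift A L g).fiber :=
  inferInstanceAs (IsIso (_ ≫ _))

theorem whisker_transl (g : T ⟶ G) (x : G ⟶ A) : transl A (g ≫ x) ≫ (A ◁ g) = (A ◁ g) ≫ transl A x := by
  apply CartesianMonoidalCategory.hom_ext <;> simp [transl, MonObj.comp_mul]

theorem exists_baseChange (g : T ⟶ G) {x : G ⟶ A} (u : thetaPts A L G) (hu : IsOverPt u x) :
    ∃ β : thetaPts A L T, IsOverPt β (g ≫ x) ∧ IsBaseChange β g u := by
  have hi : u.1.inv.base = (transl A x⁻¹).left := by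
    haveI := isIso_transl (A := A) x
    rw [← cancel_epi (transl A x).left, ← Over.comp_left, ← transl_mul, mul_inv_cancel, transl_one]
    rw [← hu]
    exact congrArg (·.base) u.1.hom_inv_id
  obtain ⟨a, ha, ha'⟩ := exists_lift _ (isIso_bcLift_fiber g) (bcLift A L g ≫ u.1.hom) (transl A (g ≫ x)).left
    (by rw [Pseudofunctor.CoGrothendieck.categoryStruct_comp_base, hu]
        exact congrArg Over.Hom.left (whisker_transl g x))
  obtain ⟨a', hb, hb'⟩ := exists_lift _ (isIso_bcLift_fiber g) (bcLift A L g ≫ u.1.inv) (transl A (g ≫ x⁻¹)).left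
    (by rw [Pseudofunctor.CoGrothendieck.categoryStruct_comp_base, hi]
        exact congrArg Over.Hom.left (whisker_transl g x⁻¹))
  let i : Aut (thetaObj A L T) :=
    ⟨a, a', lift_unique _ (isIso_bcLift_fiber g) _ _ (by
        rw [Pseudofunctor.CoGrothendieck.categoryStruct_comp_base, ha, hb, GrpObj.comp_inv, ← Over.comp_left,
          ← transl_mul, mul_inv_cancel, transl_one]
        rfl) (by rw [Category.assoc, hb', ← Category.assoc, ha', Category.assoc, Iso.hom_inv_id, Category.comp_id,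
          Category.id_comp]),
      lift_unique _ (isIso_bcLift_fiber g) _ _ (by
        rw [Pseudofunctor.CoGrothendieck.categoryStruct_comp_base, ha, hb, GrpObj.comp_inv, ← Over.comp_left,
          ← transl_mul, inv_mul_cancel, transl_one]
        rfl) (by rw [Category.assoc, ha', ← Category.assoc, hb', Category.assoc, Iso.inv_hom_id, Category.comp_id,
          Category.id_comp])⟩
  exact ⟨⟨i, g ≫ x, ha⟩, ha, ha'⟩

end

end GrothLib.ThetaGrp15
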