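import Groth.Agent.Lib.ThetaGrp15.Repr
import Groth.Agent.Lib.ThetaGrp15.Move

/-!
# The cocycle of a family of lifts
-/

universe u

open CategoryTheory CategoryTheory.Limits MonoidalCategory CartesianMonoidalCategory AlgebraicGeometry Opposite
open scoped MonObj

set_option backward.isDefEq.respectTransparency false
set_option maxHeartbeats 400000

noncomputable section

namespace GrothLib.ThetaGrp15

open ThetaGrp GrothLib.Cube

variable {k : Type u} [Field k] {A P : Over (Spec (CommRingCat.of k))} [GrpObj A] [GrpObj P]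
  {L : A.left.Modules} {i : P ⟶ A}

theorem bc_unique {T G : Over (Spec (CommRingCat.of k))} {g : T ⟶ G} {β β' : thetaPts A L T} {b : thetaPts A L G}
    {x : T ⟶ A} (h : IsBaseChange β g b) (h' : IsBaseChange β' g b) (hx : IsOverPt β x) (hx' : IsOverPt β' x) :
    β = β' :=
  Subtype.ext (Iso.ext (lift_unique _ (isIso_bcLift_fiber g) _ _ (hx.trans hx'.symm) (h.trans h'.symm)))

theorem transl_snd_appTop {T : Over (Spec (CommRingCat.of k))} {β : thetaPts A L T} {x : T ⟶ A} (h : IsOverPt β x)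
    (c : Γ(T.left, ⊤)) : β.1.hom.base.appTop ((snd A T).left.appTop c) = (snd A T).left.appTop c := by
  rw [h]
  show (transl A x).left.appTop ((snd A T).left.appTop c) = _
  rw [← ConcreteCategory.comp_apply, ← Scheme.Hom.comp_appTop, ← Over.comp_left, transl_snd]

variable (b₀ : thetaPts A L P) (hb₀ : IsOverPt b₀ i)

/-- The base changes of a family of lifts. -/
def Bc {T : Over (Spec (CommRingCat.of k))} (x : T ⟶ P) : thetaPts A L T :=
  (exists_baseChange x b₀ hb₀).choose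

theorem Bc_over {T : Over (Spec (CommRingCat.of k))} (x : T ⟶ P) : IsOverPt (Bc b₀ hb₀ x) (x ≫ i) :=
  (exists_baseChange x b₀ hb₀).choose_spec.1

theorem Bc_spec {T : Over (Spec (CommRingCat.of k))} (x : T ⟶ P) : IsBaseChange (Bc b₀ hb₀ x) x b₀ :=
  (exists_baseChange x b₀ hb₀).choose_spec.2

theorem Bc_comp {T' T : Over (Spec (CommRingCat.of k))} (g : T' ⟶ T) (x : T ⟶ P) :
    IsBaseChange (Bc b₀ hb₀ (g ≫ x)) g (Bc b₀ hb₀ x) := by
  obtain ⟨β, hβx, hβ⟩ := exists_baseChange g (Bc b₀ hb₀ x) (Bc_over b₀ hb₀ x)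
  rw [← bc_unique (isBaseChange_comp hβ (Bc_spec b₀ hb₀ x)) (Bc_spec b₀ hb₀ (g ≫ x))
    (by rw [← Category.assoc] at hβx; exact hβx) (Bc_over b₀ hb₀ (g ≫ x))]
  exact hβ

variable [IsMonHom i] [IsCommMonObj A] [IsCommMonObj P] [IsProper A.hom] [GeometricallyIntegral A.hom]

theorem exists_K (hL : PicF.IsInvertible L) {T : Over (Spec (CommRingCat.of k))} (x y : T ⟶ P) :
    ∃ c : Γ(T.left, ⊤), IsUnit c ∧ (Bc b₀ hb₀ x * Bc b₀ hb₀ y).1.hom =
      act (X := thetaObj A L T) ((snd A T).left.appTop c) (Bc b₀ hb₀ (x * y)).1.hom := by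
  have hb : (Bc b₀ hb₀ x * Bc b₀ hb₀ y).1.hom.base = (Bc b₀ hb₀ (x * y)).1.hom.base := by
    show ((Bc b₀ hb₀ y).1.hom ≫ (Bc b₀ hb₀ x).1.hom).base = _
    rw [Pseudofunctor.CoGrothendieck.categoryStruct_comp_base, Bc_over b₀ hb₀ x, Bc_over b₀ hb₀ y,
      Bc_over b₀ hb₀ (x * y), MonObj.mul_comp, mul_comm, transl_mul, Over.comp_left]
  have hI := ((hasCls_clsMod hL).pullback (fst A T).left).1
  obtain ⟨a, ha⟩ := exists_eq_act (Bc b₀ hb₀ (x * y)).1.hom (Bc b₀ hb₀ x * Bc b₀ hb₀ y).1.hom hb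
    (isIso_fiber _) hI
  obtain ⟨a', ha'⟩ := exists_eq_act (Bc b₀ hb₀ x * Bc b₀ hb₀ y).1.hom (Bc b₀ hb₀ (x * y)).1.hom hb.symm
    (isIso_fiber _) hI
  obtain ⟨c, rfl⟩ := (bijective_appTop_snd (A := A) T).2 a
  obtain ⟨c', rfl⟩ := (bijective_appTop_snd (A := A) T).2 a'
  refine ⟨c, IsUnit.of_mul_eq_one c' ((bijective_appTop_snd (A := A) T).1 ?_), ha⟩
  rw [map_one, map_mul, mul_comm]
  refine isIso_fiber_act_iff (isIso_fiber (Bc b₀ hb₀ x * Bc b₀ hb₀ y).1) hI ?_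
  rw [← act_act, ← ha', ← ha]

/-- The cocycle. -/
def Kc (hL : PicF.IsInvertible L) {T : Over (Spec (CommRingCat.of k))} (x y : T ⟶ P) : Γ(T.left, ⊤) :=
  (exists_K b₀ hb₀ hL x y).choose

theorem Kc_unit (hL : PicF.IsInvertible L) {T : Over (Spec (CommRingCat.of k))} (x y : T ⟶ P) :
    IsUnit (Kc b₀ hb₀ hL x y) :=
  (exists_K b₀ hb₀ hL x y).choose_spec.1

theorem Kc_spec (hL : PicF.IsInvertible L) {T : Over (Spec (CommRingCat.of k))} (x y : T ⟶ P) :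
    (Bc b₀ hb₀ x * Bc b₀ hb₀ y).1.hom =
      act (X := thetaObj A L T) ((snd A T).left.appTop (Kc b₀ hb₀ hL x y)) (Bc b₀ hb₀ (x * y)).1.hom :=
  (exists_K b₀ hb₀ hL x y).choose_spec.2

theorem eq_of_act_eq (hL : PicF.IsInvertible L) {T : Over (Spec (CommRingCat.of k))} {a b : Γ(T.left, ⊤)}
    (β : thetaPts A L T)
    (h : act (X := thetaObj A L T) ((snd A T).left.appTop a) β.1.hom =
      act (X := thetaObj A L T) ((snd A T).left.appTop b) β.1.hom) : a = b :=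
  (bijective_appTop_snd (A := A) T).1 (act_inj (isIso_fiber β.1) ((hasCls_clsMod hL).pullback (fst A T).left).1 h)

theorem Kc_natural (hL : PicF.IsInvertible L) {T' T : Over (Spec (CommRingCat.of k))} (g : T' ⟶ T) (x y : T ⟶ P) :
    Kc b₀ hb₀ hL (g ≫ x) (g ≫ y) = g.left.appTop (Kc b₀ hb₀ hL x y) := by
  have hm := isBaseChange_mul (Bc_comp b₀ hb₀ g x) (Bc_comp b₀ hb₀ g y)
  have hp : IsBaseChange (Bc b₀ hb₀ ((g ≫ x) * (g ≫ y))) g (Bc b₀ hb₀ (x * y)) := by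
    rw [← MonObj.comp_mul]; exact Bc_comp b₀ hb₀ g (x * y)
  refine eq_of_act_eq hL (Bc b₀ hb₀ ((g ≫ x) * (g ≫ y))) ?_
  rw [← Kc_spec]
  refine lift_unique _ (isIso_bcLift_fiber g) _ _ ?_ ?_
  · rw [Kc_spec b₀ hb₀ hL, act_base, act_base]
  · rw [hm, Kc_spec b₀ hb₀ hL, act_comp, hp, comp_act]
    congr 1
    show (A ◁ g).left.appTop ((snd A T).left.appTop _) = (snd A T').left.appTop (g.left.appTop _)
    rw [← ConcreteCategory.comp_apply, ← ConcreteCategory.comp_apply, ← Scheme.Hom.comp_appTop,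
      ← Scheme.Hom.comp_appTop, ← Over.comp_left, ← Over.comp_left, whiskerLeft_snd]

theorem Kc_assoc (hL : PicF.IsInvertible L) {T : Over (Spec (CommRingCat.of k))} (x y z : T ⟶ P) :
    Kc b₀ hb₀ hL x y * Kc b₀ hb₀ hL (x * y) z = Kc b₀ hb₀ hL y z * Kc b₀ hb₀ hL x (y * z) := by
  have h1 : (Bc b₀ hb₀ x * Bc b₀ hb₀ y * Bc b₀ hb₀ z).1.hom = act (X := thetaObj A L T)
      ((snd A T).left.appTop (Kc b₀ hb₀ hL x y * Kc b₀ hb₀ hL (x * y) z)) (Bc b₀ hb₀ (x * y * z)).1.hom := by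
    show (Bc b₀ hb₀ z).1.hom ≫ (Bc b₀ hb₀ x * Bc b₀ hb₀ y).1.hom = _
    rw [Kc_spec b₀ hb₀ hL x y, comp_act, transl_snd_appTop (Bc_over b₀ hb₀ z),
      show (Bc b₀ hb₀ z).1.hom ≫ (Bc b₀ hb₀ (x * y)).1.hom = _ from Kc_spec b₀ hb₀ hL (x * y) z, act_act, map_mul,
      mul_comm]
  have h2 : (Bc b₀ hb₀ x * (Bc b₀ hb₀ y * Bc b₀ hb₀ z)).1.hom = act (X := thetaObj A L T)
      ((snd A T).left.appTop (Kc b₀ hb₀ hL y z * Kc b₀ hb₀ hL x (y * z))) (Bc b₀ hb₀ (x * (y * z))).1.hom := by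
    show (Bc b₀ hb₀ y * Bc b₀ hb₀ z).1.hom ≫ (Bc b₀ hb₀ x).1.hom = _
    rw [Kc_spec b₀ hb₀ hL y z, act_comp,
      show (Bc b₀ hb₀ (y * z)).1.hom ≫ (Bc b₀ hb₀ x).1.hom = _ from Kc_spec b₀ hb₀ hL x (y * z), act_act, map_mul,
      mul_comm]
  rw [_root_.mul_assoc x y z, _root_.mul_assoc, h2] at h1
  exact (eq_of_act_eq hL _ h1).symm

theorem Kc_symm (hL : PicF.IsInvertible L) (hiso : IsIsotropic L i) {T : Over (Spec (CommRingCat.of k))}
    (x y : T ⟶ P) : Kc b₀ hb₀ hL x y = Kc b₀ hb₀ hL y x := by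
  refine eq_of_act_eq hL (Bc b₀ hb₀ (x * y)) ?_
  rw [← Kc_spec, hiso T x y _ _ (Bc_over b₀ hb₀ x) (Bc_over b₀ hb₀ y), Kc_spec b₀ hb₀ hL y x, mul_comm y x]

end GrothLib.ThetaGrp15
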