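import Groth.Agent.Lib.ThetaGrp15.BaseChange

/-!
# The commutator of two points of the theta group

It is a function on the base, independent of the lifts and compatible with base change; when `K(L)` is
everything it is `1`, being constant on `A × A` and trivial at the origin.
-/

universe u

open CategoryTheory CategoryTheory.Limits MonoidalCategory CartesianMonoidalCategory AlgebraicGeometry Opposite
open scoped MonObj
open Formal (smulModΓ)

set_option backward.isDefEq.respectTransparency false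
set_option maxHeartbeats 400000

noncomputable section

namespace GrothLib.ThetaGrp15

open ThetaGrp

variable {k : Type u} [Field k] {A : Over (Spec (CommRingCat.of k))} [GrpObj A] [IsProper A.hom]
  [GeometricallyIntegral A.hom] {L : A.left.Modules} {T G : Over (Spec (CommRingCat.of k))}

omit [IsProper A.hom] [GeometricallyIntegral A.hom] in
theorem appTop_snd_invariant {T G : Over (Spec (CommRingCat.of k))} (m : A ⊗ T ⟶ A ⊗ G) (g : T ⟶ G)
    (h : m ≫ snd A G = snd A T ≫ g) (c : Γ(G.left, ⊤)) :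
    m.left.appTop ((snd A G).left.appTop c) = (snd A T).left.appTop (g.left.appTop c) := by
  have h' := congrArg (fun q : A ⊗ T ⟶ G => q.left.appTop c) h
  simpa using h'

theorem isInvertible_fiber (hL : PicF.IsInvertible L) (T : Over (Spec (CommRingCat.of k))) :
    PicF.IsInvertible (Y := (A ⊗ T).left) (thetaObj A L T).fiber :=
  Ample.isInvertible_pullback _ hL

theorem isIso_fiber_comp {X Y Z : ModSch.{u}} (f : X ≅ Y) (g : Y ≅ Z) : IsIso (f.hom ≫ g.hom).fiber :=
  isIso_fiber (f ≪≫ g)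

omit [IsProper A.hom] [GeometricallyIntegral A.hom] in
theorem transl_appTop (x : T ⟶ A) (c : Γ(T.left, ⊤)) :
    (transl A x).left.appTop ((snd A T).left.appTop c) = (snd A T).left.appTop c := by
  rw [appTop_snd_invariant (transl A x) (𝟙 T) (by simp) c]
  simp

omit [IsProper A.hom] [GeometricallyIntegral A.hom] in
theorem whisker_appTop (g : T ⟶ G) (c : Γ(G.left, ⊤)) :
    (A ◁ g).left.appTop ((snd A G).left.appTop c) = (snd A T).left.appTop (g.left.appTop c) :=
  appTop_snd_invariant (A ◁ g) g (by simp) c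

/-- Any two lifts of the same point differ by a function on the base. -/
theorem exists_eq_act_pr (hL : PicF.IsInvertible L) (f g : thetaObj A L T ⟶ thetaObj A L T)
    (hb : g.base = f.base) (hf : IsIso f.fiber) :
    ∃ c : Γ(T.left, ⊤), g = act ((snd A T).left.appTop c) f := by
  obtain ⟨a, ha⟩ := exists_eq_act f g hb hf (isInvertible_fiber hL T)
  obtain ⟨c, hc⟩ := (bijective_appTop_snd A T).2 a
  exact ⟨c, by rw [hc]; exact ha⟩

theorem act_pr_injective (hL : PicF.IsInvertible L) {f : thetaObj A L T ⟶ thetaObj A L T} (hf : IsIso f.fiber)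
    {c : Γ(T.left, ⊤)} (h : act ((snd A T).left.appTop c) f = f) : c = 1 :=
  (bijective_appTop_snd A T).1 (by rw [map_one]; exact isIso_fiber_act_iff hf (isInvertible_fiber hL T) h)

/-- `c` is the commutator of `β₁` and `β₂`. -/
def IsComm (β₁ β₂ : thetaPts A L T) (c : Γ(T.left, ⊤)) : Prop :=
  β₂.1.hom ≫ β₁.1.hom = act ((snd A T).left.appTop c) (β₁.1.hom ≫ β₂.1.hom)

variable [IsCommMonObj A]

theorem exists_isComm (hL : PicF.IsInvertible L) (β₁ β₂ : thetaPts A L T) : ∃ c, IsComm β₁ β₂ c := by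
  obtain ⟨x, hx⟩ := β₁.2
  obtain ⟨y, hy⟩ := β₂.2
  refine exists_eq_act_pr hL _ _ ?_ (isIso_fiber_comp _ _)
  rw [Pseudofunctor.CoGrothendieck.categoryStruct_comp_base, Pseudofunctor.CoGrothendieck.categoryStruct_comp_base,
    hx, hy, ← Over.comp_left, ← Over.comp_left, ← transl_mul, ← transl_mul]
  congr 2
  exact Cube.hom_mul_comm y x

theorem isComm_unique (hL : PicF.IsInvertible L) {β₁ β₂ : thetaPts A L T} {c c' : Γ(T.left, ⊤)}
    (h : IsComm β₁ β₂ c) (h' : IsComm β₁ β₂ c') : c = c' := by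
  have hu := isInvertible_fiber (A := A) hL T
  refine (bijective_appTop_snd A T).1 (eq_smulModΓ_injective hu ?_)
  haveI := isIso_fiber_comp β₁.1 β₂.1
  obtain ⟨e, he⟩ := (Pseudofunctor.CoGrothendieck.Hom.ext_iff _ _).1 (h.symm.trans h')
  rw [← cancel_mono (β₁.1.hom ≫ β₂.1.hom).fiber]
  refine he.trans ?_
  rw [eqToHom_refl, Category.comp_id]
  rfl

theorem commute_iff (hL : PicF.IsInvertible L) {β₁ β₂ : thetaPts A L T} {c : Γ(T.left, ⊤)}
    (h : IsComm β₁ β₂ c) : β₁ * β₂ = β₂ * β₁ ↔ c = 1 := by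
  constructor
  · intro e
    refine act_pr_injective hL (isIso_fiber_comp β₁.1 β₂.1) (h.symm.trans ?_)
    exact congrArg (fun β : thetaPts A L T => β.1.hom) e
  · rintro rfl
    refine Subtype.ext (Iso.ext ?_)
    show β₂.1.hom ≫ β₁.1.hom = β₁.1.hom ≫ β₂.1.hom
    rw [show β₂.1.hom ≫ β₁.1.hom = _ from h, map_one, act_one]

omit [IsCommMonObj A] in
/-- Changing the lifts does not change the commutator. -/
theorem isComm_congr (hL : PicF.IsInvertible L) {β₁ β₂ γ₁ γ₂ : thetaPts A L T} {c : Γ(T.left, ⊤)} {x y : T ⟶ A}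
    (h₁ : IsOverPt β₁ x) (h₂ : IsOverPt β₂ y) (h₁' : IsOverPt γ₁ x) (h₂' : IsOverPt γ₂ y)
    (h : IsComm β₁ β₂ c) : IsComm γ₁ γ₂ c := by
  obtain ⟨a, ha⟩ := exists_eq_act_pr hL β₁.1.hom γ₁.1.hom (h₁'.trans h₁.symm) (isIso_fiber β₁.1)
  obtain ⟨b, hb⟩ := exists_eq_act_pr hL β₂.1.hom γ₂.1.hom (h₂'.trans h₂.symm) (isIso_fiber β₂.1)
  show γ₂.1.hom ≫ γ₁.1.hom = act _ (γ₁.1.hom ≫ γ₂.1.hom)
  rw [ha, hb, act_comp, comp_act, act_act, act_comp, comp_act, act_act,
    show β₂.1.hom ≫ β₁.1.hom = _ from h, act_act, act_act]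
  congr 1
  have e1 : β₁.1.hom.base.appTop ((snd A T).left.appTop b) = (snd A T).left.appTop b := by
    rw [h₁]; exact transl_appTop x b
  have e2 : β₂.1.hom.base.appTop ((snd A T).left.appTop a) = (snd A T).left.appTop a := by
    rw [h₂]; exact transl_appTop y a
  rw [e1, e2]
  ring

theorem isComm_baseChange {g : T ⟶ G} {u₁ u₂ : thetaPts A L G} {β₁ β₂ : thetaPts A L T} {c : Γ(G.left, ⊤)}
    (hb₁ : IsBaseChange β₁ g u₁) (hb₂ : IsBaseChange β₂ g u₂) (h : IsComm u₁ u₂ c) :
    IsComm β₁ β₂ (g.left.appTop c) := by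
  obtain ⟨x, hx⟩ := β₁.2
  obtain ⟨y, hy⟩ := β₂.2
  have p12 : (β₁.1.hom ≫ β₂.1.hom) ≫ bcLift A L g = bcLift A L g ≫ u₁.1.hom ≫ u₂.1.hom := by
    rw [Category.assoc, hb₂, ← Category.assoc, hb₁, Category.assoc]
  have p21 : (β₂.1.hom ≫ β₁.1.hom) ≫ bcLift A L g =
      act ((snd A T).left.appTop (g.left.appTop c)) ((β₁.1.hom ≫ β₂.1.hom) ≫ bcLift A L g) := by
    rw [p12, Category.assoc, hb₁, ← Category.assoc, hb₂, Category.assoc,
      show u₂.1.hom ≫ u₁.1.hom = _ from h, comp_act]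
    congr 1
    exact whisker_appTop g c
  refine lift_unique _ (isIso_bcLift_fiber g) _ _ ?_ (p21.trans (act_comp _ _ _).symm)
  rw [act_base, Pseudofunctor.CoGrothendieck.categoryStruct_comp_base,
    Pseudofunctor.CoGrothendieck.categoryStruct_comp_base, hx, hy, ← Over.comp_left, ← Over.comp_left,
    ← transl_mul, ← transl_mul]
  congr 2
  exact Cube.hom_mul_comm y x

end GrothLib.ThetaGrp15
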