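import Groth.Agent.Lib.ThetaGrp15.InvOpen
import Groth.Agent.Lib.ThetaGrp15.ArrowVal

/-!
# An invertible module with a lifting of the kernel descends
-/

universe u

open CategoryTheory CategoryTheory.Limits MonoidalCategory CartesianMonoidalCategory AlgebraicGeometry Opposite
open TopologicalSpace (Opens)
open GrothLib.InvExt (mres IsGen)
open GrothLib.Ample

set_option backward.isDefEq.respectTransparency false
set_option maxHeartbeats 800000

noncomputable section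

namespace GrothLib.ThetaGrp15

open ThetaGrp

variable {k : Type u} [Field k] {A B N G : Over (Spec (CommRingCat.of k))} [GrpObj A] [GrpObj B] [GrpObj N] [GrpObj G]
  {L : A.left.Modules} {f : A ⟶ B} {i : N ⟶ A} {j : N ⟶ G} {u : thetaPts A L G} [IsCommMonObj A]
  [IsProper A.hom] [IsProper B.hom]

/-- A transition function between invariant frames is constant along the fibres. -/
theorem transition_invariant (D : KerLift f i j u) {V₁ V₂ W : A.left.Opens} (h₁ : W ≤ V₁) (h₂ : W ≤ V₂)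
    {ω₁ : triv V₁.toScheme ⟶ (⟨A.left, L⟩ : ModSch.{u})} {ω₂ : triv V₂.toScheme ⟶ (⟨A.left, L⟩ : ModSch.{u})}
    (hω₁ : IsInv D V₁.ι ω₁) (hω₂ : IsInv D V₂.ι ω₂) {e₁ : Γ(L, V₁)} {e₂ : Γ(L, V₂)} (he₁ : HasVal ω₁ e₁)
    (he₂ : HasVal ω₂ e₂) {c : Γ(A.left, W)} (hc : mres L h₂ e₂ = c • mres L h₁ e₁)
    {Z : Scheme.{u}} (p q : Z ⟶ A.left) (ep : ⊤ ≤ p ⁻¹ᵁ W) (eq : ⊤ ≤ q ⁻¹ᵁ W) (h : p ≫ f.left = q ≫ f.left) :
    p.appLE W ⊤ ep c = q.appLE W ⊤ eq c := by
  have hr : ∀ {V : A.left.Opens} (hV : W ≤ V) (r : Z ⟶ A.left) (er : ⊤ ≤ r ⁻¹ᵁ W),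
      ∃ r' : Z ⟶ V.toScheme, r' ≫ V.ι = r := fun {V} hV r er =>
    ⟨IsOpenImmersion.lift V.ι r (by
      rw [Scheme.Opens.range_ι]; rintro _ ⟨z, rfl⟩; exact hV (er trivial)), IsOpenImmersion.lift_fac _ _ _⟩
  obtain ⟨p₁, hp₁⟩ := hr h₁ p ep
  obtain ⟨p₂, hp₂⟩ := hr h₂ p ep
  obtain ⟨q₁, hq₁⟩ := hr h₁ q eq
  obtain ⟨q₂, hq₂⟩ := hr h₂ q eq
  -- the transition along a point
  have key : ∀ (r : Z ⟶ A.left) (er : ⊤ ≤ r ⁻¹ᵁ W) (r₁ : Z ⟶ V₁.toScheme) (r₂ : Z ⟶ V₂.toScheme),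
      r₁ ≫ V₁.ι = r → r₂ ≫ V₂.ι = r →
      hat r₂ ≫ ω₂ = act (X := triv Z) (r.appLE W ⊤ er c) (hat r₁ ≫ ω₁) := by
    intro r er r₁ r₂ e₁' e₂'
    have hb₁ : (hat r₁ ≫ ω₁).base = r := (congrArg (r₁ ≫ ·) hω₁.base).trans e₁'
    have hb₂ : (hat r₂ ≫ ω₂).base = r := (congrArg (r₂ ≫ ·) hω₂.base).trans e₂'
    have hv₁ := hasVal_hat_comp r₁ ω₁ he₁ (by rw [hω₁.base, Scheme.Opens.ι_preimage_self])
    have hv₂ := hasVal_hat_comp r₂ ω₂ he₂ (by rw [hω₂.base, Scheme.Opens.ι_preimage_self])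
    generalize hat r₁ ≫ ω₁ = α₁ at hb₁ hv₁ ⊢
    generalize hat r₂ ≫ ω₂ = α₂ at hb₂ hv₂ ⊢
    subst hb₁
    have hres : ∀ {V : A.left.Opens} (hV : W ≤ V) (α : triv Z ⟶ (⟨A.left, L⟩ : ModSch.{u})) {e : Γ(L, V)},
        HasVal α e → ⊤ ≤ α.base ⁻¹ᵁ W → HasVal α (mres L hV e) := fun {V} hV α e hv hW h' => by
      rw [hv (hW.trans (α.base.preimage_mono hV))]
      exact (InvExt.mres_self _ _).symm.trans
        (FundIso27.pullSec_mres α.base L (hW.trans (α.base.preimage_mono hV)) h' hV le_rfl _)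
    refine eq_of_hasVal hb₂ (U := W) (e := mres L h₂ e₂) (hb₂ ▸ er) (hres h₂ α₂ hv₂ (hb₂ ▸ er)) ?_
    rw [hc]
    exact hasVal_act c α₁ (hres h₁ α₁ hv₁ er) er
  let T : Over (Spec (CommRingCat.of k)) := Over.mk (p ≫ A.hom)
  let a : T ⟶ A := Over.homMk p rfl
  let b : T ⟶ A := Over.homMk q (by
    show q ≫ A.hom = p ≫ A.hom
    rw [← Over.w f, ← Category.assoc, ← Category.assoc, h])
  have hab : a ≫ f = b ≫ f := Over.OverMorphism.ext h
  have hα₁ : (hat p₁ ≫ ω₁).base = a.left := (congrArg (p₁ ≫ ·) hω₁.base).trans hp₁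
  have hα₂ : (hat p₂ ≫ ω₂).base = a.left := (congrArg (p₂ ≫ ·) hω₂.base).trans hp₂
  have i₁ := hω₁.inv T a b p₁ q₁ hp₁ hq₁ hab hα₁
  have i₂ := hω₂.inv T a b p₂ q₂ hp₂ hq₂ hab hα₂
  have k₁ := key p ep p₁ p₂ hp₁ hp₂
  rw [mv_congr D hab hab rfl hα₂ (show (act (X := triv T.left) (p.appLE W ⊤ ep c) (hat p₁ ≫ ω₁)).base = a.left
    from hα₁) k₁, mv_act D hab _ _ hα₁, i₁, key q eq q₁ q₂ hq₁ hq₂] at i₂
  exact act_inj (X := triv Z) (isIso_comp_fiber' _ _ (isIso_hat q₁) hω₁.iso) Euler.isInvertible_structure i₂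

/-- An invertible module with a lifting of the kernel of a flat surjection to its theta group comes from the target. -/
theorem exists_descent (D : KerLift f i j u) [Flat f.left] [Surjective f.left] [QuasiCompact f.left]
    (hL : PicF.IsInvertible L) :
    ∃ M : B.left.Modules, PicF.IsInvertible M ∧ Nonempty ((Scheme.Modules.pullback f.left).obj M ≅ L) := by
  haveI : IsNoetherianRing (CommRingCat.of k) := inferInstanceAs (IsNoetherianRing k)
  haveI : IsLocallyNoetherian B.left := LocallyOfFiniteType.isLocallyNoetherian B.hom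
  have hlocal : ∀ P : B.left, ∃ (E : B.left.Opens) (ω : triv (f.left ⁻¹ᵁ E).toScheme ⟶ (⟨A.left, L⟩ : ModSch.{u}))
      (e : Γ(L, f.left ⁻¹ᵁ E)), P ∈ E ∧ IsGen L (f.left ⁻¹ᵁ E) e ∧ IsInv D (f.left ⁻¹ᵁ E).ι ω ∧ HasVal ω e := by
    intro P
    obtain ⟨O, x, α, E, hO, hα, hfl, -, hE, hP⟩ := exists_local D hL P
    obtain ⟨ω, hω⟩ := exists_descend_inv D hL x α hα hE
    obtain ⟨e, he, hev⟩ := exists_gen_hasVal hL ω hω.base hω.iso
    exact ⟨E, ω, e, hP, he, hω, hev⟩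
  choose U ω e hU he hω hev using hlocal
  choose a ha using fun s t : B.left =>
    (he s).exists_smul_eq (f.left.preimage_mono (inf_le_left : U s ⊓ U t ≤ U s))
      (mres L (f.left.preimage_mono (inf_le_right : U s ⊓ U t ≤ U t)) (e t))
  choose g hg using fun s t : B.left => exists_app_eq f.left (U s ⊓ U t) (a s t) fun W p q ep eq h =>
    transition_invariant D _ _ (hω s) (hω t) (hev s) (hev t) (ha s t) p q ep eq h
  have hinj : ∀ V : B.left.Opens, Function.Injective (f.left.appLE V (f.left ⁻¹ᵁ V) le_rfl) := fun V => by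
    rw [← Scheme.Hom.app_eq_appLE]; exact app_injective f.left V
  have key : ∀ (s t : B.left) (V : B.left.Opens) (hs : V ≤ U s) (ht : V ≤ U t),
      mres L (f.left.preimage_mono ht) (e t) =
        (f.left.appLE V (f.left ⁻¹ᵁ V) le_rfl).hom (res (le_inf hs ht) (g s t)) •
          mres L (f.left.preimage_mono hs) (e s) := by
    intro s t V hs ht
    have h := congrArg (mres L (f.left.preimage_mono (le_inf hs ht : V ≤ U s ⊓ U t))) (ha s t)
    rw [InvExt.mres_mres, InvExt.mres_smul, InvExt.mres_mres, ← hg s t] at h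
    rw [appLE_res]
    refine h.trans (congrArg (fun r : Γ(A.left, f.left ⁻¹ᵁ V) => r • mres L (f.left.preimage_mono hs) (e s)) ?_)
    rw [Scheme.Hom.app_eq_appLE]
    exact res_appLE f.left _ _ _
  let c : Cocycle B.left :=
    { ι := B.left
      D := U
      g := g
      cover := top_le_iff.1 fun s _ => Opens.mem_iSup.2 ⟨s, hU s⟩
      self := fun s W h => by
        refine hinj W ((he s).smul_left_injective (f.left.preimage_mono h) ?_)
        rw [← key s s W h h, map_one, one_smul]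
      change := fun s t r W hs ht hr => by
        refine hinj W ((he s).smul_left_injective (f.left.preimage_mono hs) ?_)
        rw [← key s r W hs hr, map_mul, mul_comm, ← smul_smul, ← key s t W hs ht, ← key t r W ht hr]
      }
  refine ⟨c.twist 1, c.isInvertible_twist 1, ?_⟩
  obtain ⟨p⟩ := c.nonempty_pullback_twist f.left 1
  have hm : (c.comap f.left).IsFamily 1 (M := L) e := fun s t W hs ht => by
    rw [pow_one, c.comap_G f.left s t hs ht]
    have hle : W ≤ f.left ⁻¹ᵁ (U s ⊓ U t) := le_inf hs ht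
    have h := congrArg (mres L hle) (key s t _ inf_le_left inf_le_right)
    rw [InvExt.mres_mres, InvExt.mres_smul, InvExt.mres_mres, res_self] at h
    refine h.trans (congrArg (fun r : Γ(A.left, W) => r • mres L hs (e s)) ?_)
    exact res_appLE f.left _ _ _
  haveI := (c.comap f.left).isIso_homOfFamily hm he
  exact ⟨p ≪≫ asIso ((c.comap f.left).homOfFamily hm)⟩

end GrothLib.ThetaGrp15
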