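import Mathlib

/-!
# Functions descend along flat surjective quasi-compact morphisms
-/

universe u

open CategoryTheory CategoryTheory.Limits AlgebraicGeometry Opposite

noncomputable section

namespace GrothLib.ThetaGrp15

variable {X Y : Scheme.{u}}

/-- The polynomial ring in one variable, as an object of the universe. -/
abbrev PolyU : CommRingCat.{u} := CommRingCat.of (MvPolynomial PUnit.{u + 1} (ULift.{u} ℤ))

/-- The ring map sending the variable to `a`. -/
def evalHom (a : Γ(X, ⊤)) : PolyU.{u} ⟶ Γ(X, ⊤) :=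
  CommRingCat.ofHom (MvPolynomial.eval₂Hom ((Int.castRingHom _).comp (ULift.ringEquiv.{0, u}.toRingHom)) fun _ => a)

/-- The morphism to the affine line given by a function. -/
def funMor (a : Γ(X, ⊤)) : X ⟶ Spec PolyU.{u} := X.toSpecΓ ≫ Spec.map (evalHom a)

/-- The function given by a morphism to the affine line. -/
def morFun (f : X ⟶ Spec PolyU.{u}) : Γ(X, ⊤) :=
  f.appTop ((Scheme.ΓSpecIso PolyU.{u}).inv (MvPolynomial.X PUnit.unit))

theorem morFun_comp {W : Scheme.{u}} (i : W ⟶ X) (f : X ⟶ Spec PolyU.{u}) :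
    morFun (i ≫ f) = i.appTop (morFun f) := by
  simp [morFun]

theorem morFun_funMor (a : Γ(X, ⊤)) : morFun (funMor a) = a := by
  have h : (Scheme.ΓSpecIso PolyU.{u}).inv ≫ (funMor a).appTop = evalHom a := by
    simp [funMor]
  have h' := congrArg (fun φ : PolyU.{u} ⟶ Γ(X, ⊤) => φ (MvPolynomial.X PUnit.unit)) h
  simpa [morFun, evalHom] using h'

theorem morFun_injective {f g : X ⟶ Spec PolyU.{u}} (h : morFun f = morFun g) : f = g := by
  refine ext_of_isAffine ?_
  rw [← cancel_epi (Scheme.ΓSpecIso PolyU.{u}).inv]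
  refine CommRingCat.hom_ext (MvPolynomial.ringHom_ext (fun r => ?_) fun _ => h)
  exact RingHom.congr_fun (Subsingleton.elim
    (((((Scheme.ΓSpecIso PolyU.{u}).inv ≫ f.appTop).hom.comp MvPolynomial.C).comp
      ULift.ringEquiv.{0, u}.symm.toRingHom))
    (((((Scheme.ΓSpecIso PolyU.{u}).inv ≫ g.appTop).hom.comp MvPolynomial.C).comp
      ULift.ringEquiv.{0, u}.symm.toRingHom))) r.down

variable (q : X ⟶ Y) [Flat q] [Surjective q] [QuasiCompact q]

theorem appTop_injective : Function.Injective q.appTop := fun a b h => by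
  haveI : Epi q := Flat.epi_of_flat_of_surjective q
  have h1 : q ≫ funMor a = q ≫ funMor b := morFun_injective (by
    rw [morFun_comp, morFun_comp, morFun_funMor, morFun_funMor, h])
  rw [← morFun_funMor a, ← morFun_funMor b, (cancel_epi q).1 h1]

theorem exists_appTop_eq (a : Γ(X, ⊤))
    (h : ∀ (W : Scheme.{u}) (i j : W ⟶ X), i ≫ q = j ≫ q → i.appTop a = j.appTop a) :
    ∃ c : Γ(Y, ⊤), q.appTop c = a := by
  let m := EffectiveEpi.desc q (funMor a) fun i j e => morFun_injective (by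
    rw [morFun_comp, morFun_comp, morFun_funMor]; exact h _ i j e)
  refine ⟨morFun m, ?_⟩
  rw [← morFun_comp, EffectiveEpi.fac, morFun_funMor]

/-- Functions on the inverse image of an open descend. -/
theorem exists_app_eq (V : Y.Opens) (a : Γ(X, q ⁻¹ᵁ V))
    (h : ∀ (W : Scheme.{u}) (i j : W ⟶ X) (ei : ⊤ ≤ i ⁻¹ᵁ (q ⁻¹ᵁ V)) (ej : ⊤ ≤ j ⁻¹ᵁ (q ⁻¹ᵁ V)),
      i ≫ q = j ≫ q → i.appLE _ ⊤ ei a = j.appLE _ ⊤ ej a) :
    ∃ c : Γ(Y, V), q.app V c = a := by
  haveI : Flat (q ∣_ V) :=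
    MorphismProperty.of_isPullback (P := @Flat) (isPullback_morphismRestrict q V).flip inferInstance
  haveI : Surjective (q ∣_ V) :=
    MorphismProperty.of_isPullback (P := @Surjective) (isPullback_morphismRestrict q V).flip inferInstance
  haveI : QuasiCompact (q ∣_ V) :=
    MorphismProperty.of_isPullback (P := @QuasiCompact) (isPullback_morphismRestrict q V).flip inferInstance
  obtain ⟨c, hc⟩ := exists_appTop_eq (q ∣_ V) ((q ⁻¹ᵁ V).topIso.inv a) fun W i j e => by
    have key : ∀ (k : W ⟶ (q ⁻¹ᵁ V).toScheme) (ek : ⊤ ≤ (k ≫ (q ⁻¹ᵁ V).ι) ⁻¹ᵁ (q ⁻¹ᵁ V)),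
        k.appTop ((q ⁻¹ᵁ V).topIso.inv a) = (k ≫ (q ⁻¹ᵁ V).ι).appLE _ ⊤ ek a := fun k ek => by
      rw [← Scheme.Hom.appLE_comp_appLE k (q ⁻¹ᵁ V).ι _ ⊤ ⊤ (by rw [Scheme.Opens.ι_preimage_self]) (by simp),
        ← ConcreteCategory.comp_apply]
      refine congrArg (fun φ : Γ(X, q ⁻¹ᵁ V) ⟶ Γ(W, ⊤) => φ a) ?_
      congr 1
      · rw [Scheme.Opens.ι_appLE]; rfl
      · simp [Scheme.Hom.appLE]
    have hle : ∀ k : W ⟶ (q ⁻¹ᵁ V).toScheme, ⊤ ≤ (k ≫ (q ⁻¹ᵁ V).ι) ⁻¹ᵁ (q ⁻¹ᵁ V) := fun k => by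
      rw [Scheme.Hom.comp_preimage, Scheme.Opens.ι_preimage_self]; exact le_refl _
    rw [key i (hle i), key j (hle j)]
    refine h W _ _ _ _ ?_
    rw [Category.assoc, Category.assoc, ← morphismRestrict_ι, reassoc_of% e]
  refine ⟨V.topIso.hom c, ?_⟩
  have h2 := congrArg (q ⁻¹ᵁ V).topIso.hom hc
  simp only [Iso.inv_hom_id_apply] at h2
  refine Eq.trans ?_ h2
  rw [← ConcreteCategory.comp_apply, ← ConcreteCategory.comp_apply]
  refine congrArg (fun φ : Γ(V, ⊤) ⟶ Γ(X, q ⁻¹ᵁ V) => φ c) ?_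
  simp [morphismRestrict_app, Scheme.Opens.topIso_hom, Scheme.Hom.app_eq_appLE]
  erw [Scheme.Hom.map_appLE, Scheme.Hom.appLE_map]

theorem app_injective (V : Y.Opens) : Function.Injective (q.app V) := fun a b h => by
  haveI : Flat (q ∣_ V) :=
    MorphismProperty.of_isPullback (P := @Flat) (isPullback_morphismRestrict q V).flip inferInstance
  haveI : Surjective (q ∣_ V) :=
    MorphismProperty.of_isPullback (P := @Surjective) (isPullback_morphismRestrict q V).flip inferInstance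
  haveI : QuasiCompact (q ∣_ V) :=
    MorphismProperty.of_isPullback (P := @QuasiCompact) (isPullback_morphismRestrict q V).flip inferInstance
  refine (ConcreteCategory.bijective_of_isIso V.topIso.inv).1 (appTop_injective (q ∣_ V) ?_)
  refine (ConcreteCategory.bijective_of_isIso (q ⁻¹ᵁ V).topIso.hom).1 ?_
  have key : V.topIso.inv ≫ (q ∣_ V).appTop ≫ (q ⁻¹ᵁ V).topIso.hom = q.app V := by
    simp [Scheme.Opens.topIso_hom, Scheme.Opens.topIso_inv, Scheme.Hom.app_eq_appLE]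
    erw [Scheme.Hom.appLE_map, Scheme.Hom.map_appLE]
  rw [← ConcreteCategory.comp_apply, ← ConcreteCategory.comp_apply, ← ConcreteCategory.comp_apply,
    ← ConcreteCategory.comp_apply, key]
  exact h

end GrothLib.ThetaGrp15
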