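import Groth.Agent.Lib.PBDeg17.SymPoints
import Groth.Agent.Lib.SymAlgX.Glue
import Groth.Agent.Lib.Mero.DivTensor
import Groth.Agent.Lib.PicAff28.Basic
import Groth.Agent.Lib.Euler.Coh
import Groth.Agent.Lib.FundIso27.Frame
import Groth.Agent.Lib.RLpsi8.VBSmooth

/-!
# The frame bundle of an invertible module

The open subscheme of `V(E)` on which the tautological form is an isomorphism represents trivialisations of
inverse images of `E`.
-/

universe u

open CategoryTheory CategoryTheory.Limits AlgebraicGeometry Opposite TopologicalSpace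
open GrothLib.InvExt (mres IsGen)

set_option backward.isDefEq.respectTransparency false
set_option maxHeartbeats 800000

noncomputable section

namespace GrothLib.ThetaGrp15

open GrothLib.PBDeg (quotAlong unitI homEquiv_quotAlong_app homEquiv_unitI)

variable {X T : Scheme.{u}} {E : X.Modules}

/-- The value of a linear form on a section. -/
def aval {g : T ⟶ X} (t : (Scheme.Modules.pullback g).obj E ⟶ Coh.structureModule T) (U : X.Opens) (e : Γ(E, U)) :
    Γ(T, g ⁻¹ᵁ U) :=
  t.app (g ⁻¹ᵁ U) (QCoh.pullSec g E (le_refl _) e)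

theorem homEquiv_app {g : T ⟶ X} (t : (Scheme.Modules.pullback g).obj E ⟶ Coh.structureModule T) (U : X.Opens)
    (e : Γ(E, U)) :
    ((Scheme.Modules.pullbackPushforwardAdjunction g).homEquiv _ _ t).app U e = aval t U e := by
  rw [Adjunction.homEquiv_unit]
  show t.app (g ⁻¹ᵁ U) (((Scheme.Modules.pullbackPushforwardAdjunction g).unit.app E).app U e) = _
  refine congrArg (t.app (g ⁻¹ᵁ U)) ?_
  exact (CohPullLib.map_sec_self ((Scheme.Modules.pullback g).obj E) _ _).symm

theorem isUnit_aval_of_isIso {g : T ⟶ X} (hE : PicF.IsInvertible E)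
    (t : (Scheme.Modules.pullback g).obj E ⟶ Coh.structureModule T) [IsIso t] {U : X.Opens} {e : Γ(E, U)}
    (he : IsGen E U e) : IsUnit (aval t U e) := by
  have h1 := InvExt.IsGen.map t (PicAff28.isGen_pullRes g hE he (g ⁻¹ᵁ U) (le_refl _))
    fun W _ => ConcreteCategory.bijective_of_isIso (t.app W)
  obtain ⟨c, hc⟩ := (h1 (g ⁻¹ᵁ U) le_rfl).2 (1 : Γ(T, g ⁻¹ᵁ U))
  refine IsUnit.of_mul_eq_one_right c ?_
  exact (congrArg (fun z => c • z) (InvExt.mres_self (Coh.structureModule T) (aval t U e)).symm).trans hc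

theorem isGen_of_isUnit {V : T.Opens} {a : Γ(T, V)} (ha : IsUnit a) : IsGen (Coh.structureModule T) V a := by
  have h := (InvExt.isGen_one (X := T) V).smul_unit ha
  rwa [show (a • (1 : Γ(T, V)) : Γ(Coh.structureModule T, V)) = a from mul_one a] at h

theorem aval_quotAlong {P : Scheme.{u}} {π : P ⟶ X} (τ : (Scheme.Modules.pullback π).obj E ⟶ Coh.structureModule P)
    (x : T ⟶ P) {g : T ⟶ X} (hx : x ≫ π = g) (U : X.Opens) (e : Γ(E, U)) :
    aval (quotAlong E τ x hx ≫ unitI x) U e =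
      T.presheaf.map (eqToHom (show g ⁻¹ᵁ U = (x ≫ π) ⁻¹ᵁ U by rw [hx])).op (x.app (π ⁻¹ᵁ U) (aval τ U e)) := by
  rw [← homEquiv_app, homEquiv_quotAlong_app, homEquiv_unitI, homEquiv_app]
  rfl

/-- An invertible module has a frame bundle. -/
theorem exists_frameBundle (hE : PicF.IsInvertible E) :
    ∃ (V : Scheme.{u}) (π : V ⟶ X) (τ : (Scheme.Modules.pullback π).obj E ⟶ Coh.structureModule V), IsIso τ ∧
      LocallyOfFiniteType π ∧ (IsLocallyNoetherian X → CompactSpace X → CompactSpace V) ∧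
      ∀ (T : Scheme.{u}) (g : T ⟶ X) [QuasiCompact g] [QuasiSeparated g]
        (t : (Scheme.Modules.pullback g).obj E ⟶ Coh.structureModule T), IsIso t →
        ∃! x : T ⟶ V, ∃ hx : x ≫ π = g, quotAlong E τ x hx ≫ unitI x = t := by
  have hlf := FinCov.isFinLocFree_of_rank (Euler.isFinLocFreeOfRank_one' hE)
  obtain ⟨S, j, hS⟩ := SymAlgX.exists_isSymAlg (Euler.isQuasicoherent_of_isFinLocFree hlf)
  haveI : Smooth S.π := RLpsi8.S5029 E (Euler.isQuasicoherent_of_isFinLocFree hlf) hlf S j hS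
  obtain ⟨τ, hτ⟩ := PBDeg.exists_taut hS
  let W : S.spec.Opens := ⨆ p : Σ U : X.Opens, {e : Γ(E, U) // IsGen E U e}, S.spec.basicOpen (aval τ p.1 p.2.1)
  let π : W.toScheme ⟶ X := W.ι ≫ S.π
  let τW : (Scheme.Modules.pullback π).obj E ⟶ Coh.structureModule W := quotAlong E τ W.ι rfl ≫ unitI W.ι
  have hτW : IsIso τW := by
    refine Mero.isIso_of_gens τW fun v => ?_
    obtain ⟨U, e, hU, he⟩ := InvExt.exists_gen_nhd hE (π v)
    refine ⟨π ⁻¹ᵁ U, QCoh.pullSec π E (le_refl _) e, hU, PicAff28.isGen_pullRes π hE he _ (le_refl _), ?_⟩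
    refine isGen_of_isUnit ?_
    show IsUnit (aval τW U e)
    rw [aval_quotAlong]
    refine IsUnit.map (W.toScheme.presheaf.map _).hom ?_
    have hsub : W.ι ⁻¹ᵁ (S.π ⁻¹ᵁ U) ≤ W.ι ⁻¹ᵁ S.spec.basicOpen (aval τ U e) := by
      intro z hz
      obtain ⟨⟨U', e', he'⟩, hz'⟩ := Opens.mem_iSup.1 (show W.ι z ∈ W from z.2)
      let O := U ⊓ U'
      obtain ⟨a, ha⟩ := he.exists_smul_eq (W := O) inf_le_left (mres E inf_le_right e')
      have hb : S.spec.presheaf.map (homOfLE (S.π.preimage_mono (inf_le_right : O ≤ U'))).op (aval τ U' e') =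
          S.π.app O a * S.spec.presheaf.map (homOfLE (S.π.preimage_mono (inf_le_left : O ≤ U))).op (aval τ U e) := by
        show mres (Coh.structureModule S.spec) (S.π.preimage_mono (inf_le_right : O ≤ U'))
            (τ.app (S.π ⁻¹ᵁ U') (QCoh.pullSec S.π E (le_refl _) e')) =
          (S.π.app O a : Γ(S.spec, S.π ⁻¹ᵁ O)) • mres (Coh.structureModule S.spec) (S.π.preimage_mono (inf_le_left : O ≤ U))
            (τ.app (S.π ⁻¹ᵁ U) (QCoh.pullSec S.π E (le_refl _) e))
        rw [← Ample.app_mres τ, ← Ample.app_mres τ,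
          FundIso27.pullSec_mres S.π E _ (le_refl _) (inf_le_right : O ≤ U'),
          FundIso27.pullSec_mres S.π E _ (le_refl _) (inf_le_left : O ≤ U), ha, QCoh.pullSec_smul,
          Scheme.Modules.Hom.app_smul, Scheme.Hom.app_eq_appLE]
      have hzO : W.ι z ∈ S.π ⁻¹ᵁ O := ⟨hz, S.spec.basicOpen_le _ hz'⟩
      have h1 : W.ι z ∈ S.spec.basicOpen (S.spec.presheaf.map
          (homOfLE (S.π.preimage_mono (inf_le_right : O ≤ U'))).op (aval τ U' e')) := by
        rw [Scheme.basicOpen_res]; exact ⟨hzO, hz'⟩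
      rw [hb, Scheme.basicOpen_mul, Scheme.basicOpen_res] at h1
      exact h1.2.2
    have h2 := (S.spec.basicOpen_le (aval τ U e))
    have hu : IsUnit (S.spec.presheaf.map (homOfLE h2).op (aval τ U e)) :=
      RingedSpace.isUnit_res_basicOpen S.spec.toRingedSpace _
    have := hu.map (W.ι.appLE (S.spec.basicOpen (aval τ U e)) (W.ι ⁻¹ᵁ (S.π ⁻¹ᵁ U)) hsub).hom
    rw [← ConcreteCategory.comp_apply, Scheme.Hom.map_appLE] at this
    simpa [Scheme.Hom.app_eq_appLE] using this
  refine ⟨W.toScheme, π, τW, hτW, inferInstanceAs (LocallyOfFiniteType (W.ι ≫ S.π)), fun hX hc => ?_,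
    fun T g _ _ t ht => ?_⟩
  · haveI := hX
    haveI := hc
    haveI : IsLocallyNoetherian S.spec := LocallyOfFiniteType.isLocallyNoetherian S.π
    haveI : CompactSpace S.spec := QuasiCompact.compactSpace_of_compactSpace S.π
    haveI : IsNoetherian S.spec := ⟨⟩
    exact isCompact_iff_compactSpace.mp (TopologicalSpace.NoetherianSpace.isCompact (W : Set S.spec))
  obtain ⟨x, ⟨hx, hxt⟩, huniq⟩ := hτ T g t
  have hrange : Set.range x ⊆ Set.range W.ι := by
    rintro _ ⟨v, rfl⟩
    rw [Scheme.Opens.range_ι]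
    obtain ⟨U, e, hU, he⟩ := InvExt.exists_gen_nhd hE (g v)
    refine Opens.mem_iSup.2 ⟨⟨U, e, he⟩, ?_⟩
    have hu : IsUnit (aval t U e) := isUnit_aval_of_isIso hE t he
    rw [← hxt, aval_quotAlong] at hu
    have hv : v ∈ T.basicOpen (x.app (S.π ⁻¹ᵁ U) (aval τ U e)) := by
      have h3 := T.basicOpen_of_isUnit hu
      rw [Scheme.basicOpen_res] at h3
      exact (h3.ge hU).2
    rwa [← Scheme.preimage_basicOpen] at hv
  have hrel : ∀ (y : T ⟶ W.toScheme) (hy : (y ≫ W.ι) ≫ S.π = g),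
      quotAlong E τW y (show y ≫ π = g by rw [← Category.assoc]; exact hy) ≫ unitI y =
        quotAlong E τ (y ≫ W.ι) hy ≫ unitI (y ≫ W.ι) := fun y hy => by
    refine ((Scheme.Modules.pullbackPushforwardAdjunction g).homEquiv _ _).injective
      (Scheme.Modules.hom_ext _ _ fun U => ConcreteCategory.hom_ext _ _ fun e => ?_)
    rw [homEquiv_app, homEquiv_app, aval_quotAlong, aval_quotAlong, aval_quotAlong]
    subst hy
    simp
    erw [CategoryTheory.Functor.map_id, CategoryTheory.Functor.map_id]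
    rfl
  refine ⟨IsOpenImmersion.lift W.ι x hrange, ⟨?_, ?_⟩, fun y hy => ?_⟩
  · rw [← Category.assoc, IsOpenImmersion.lift_fac, hx]
  · rw [hrel _ (by rw [IsOpenImmersion.lift_fac, hx])]
    convert hxt using 3 <;> simp
  · obtain ⟨hy1, hy2⟩ := hy
    have hy' : (y ≫ W.ι) ≫ S.π = g := by rw [Category.assoc]; exact hy1
    rw [hrel y hy'] at hy2
    exact (cancel_mono W.ι).1 ((huniq _ ⟨hy', hy2⟩).trans (IsOpenImmersion.lift_fac _ _ _).symm)

end GrothLib.ThetaGrp15
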