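import Groth.Agent.Lib.ThetaGrp15.FunDesc
import Groth.Agent.Lib.PicAff28.Basic
import Groth.Agent.Lib.FunMor20.BCProj
import Groth.Agent.Lib.EtQc13.AssocRes
import Groth.Agent.Lib.FundIso27.Frame

/-!
# Maps of invertible modules descend along flat surjective quasi-compact morphisms
-/

universe u

open CategoryTheory CategoryTheory.Limits AlgebraicGeometry Opposite TopologicalSpace
open GrothLib.InvExt (mres mres_smul IsGen)

set_option backward.isDefEq.respectTransparency false
set_option maxHeartbeats 800000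

noncomputable section

namespace GrothLib.ThetaGrp15

variable {X Y : Scheme.{u}} (q : X ⟶ Y) [Flat q] [Surjective q] [QuasiCompact q]

/-- The inverse image of sections along `q`. -/
abbrev qs (M : Y.Modules) (U : Y.Opens) : Γ(M, U) →+ Γ((Scheme.Modules.pullback q).obj M, q ⁻¹ᵁ U) :=
  QCoh.pullSec q M (le_refl _)

theorem isGen_qs {M : Y.Modules} (hM : PicF.IsInvertible M) {V : Y.Opens} {e : Γ(M, V)} (he : IsGen M V e) :
    IsGen ((Scheme.Modules.pullback q).obj M) (q ⁻¹ᵁ V) (qs q M V e) :=
  PicAff28.isGen_pullRes q hM he _ (le_refl _)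

theorem qs_injective {M : Y.Modules} (hM : PicF.IsInvertible M) (U : Y.Opens) : Function.Injective (qs q M U) := by
  intro y z h
  choose V e hV he using InvExt.exists_gen_nhd hM
  refine TopCat.Sheaf.eq_of_locally_eq' ⟨M.presheaf, M.isSheaf⟩ (fun x => U ⊓ V x) U
    (fun x => homOfLE inf_le_left) (fun x hx => Opens.mem_iSup.2 ⟨x, hx, hV x⟩) y z fun x => ?_
  show mres M inf_le_left y = mres M inf_le_left z
  obtain ⟨a, ha⟩ := (he x).exists_smul_eq (W := U ⊓ V x) inf_le_right (mres M inf_le_left y)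
  obtain ⟨b, hb⟩ := (he x).exists_smul_eq (W := U ⊓ V x) inf_le_right (mres M inf_le_left z)
  have hpre : q ⁻¹ᵁ (U ⊓ V x) ≤ q ⁻¹ᵁ U := q.preimage_mono inf_le_left
  have h1 := congrArg (mres ((Scheme.Modules.pullback q).obj M) hpre) h
  rw [FundIso27.pullSec_mres q M _ (le_refl _) inf_le_left, FundIso27.pullSec_mres q M _ (le_refl _) inf_le_left,
    ha, hb, QCoh.pullSec_smul, QCoh.pullSec_smul] at h1
  have hg := isGen_qs q hM ((he x).restrict (W := U ⊓ V x) inf_le_right)
  have hab : a = b := app_injective q _ (by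
    rw [Scheme.Hom.app_eq_appLE]
    refine hg.smul_left_injective le_rfl ?_
    rw [InvExt.mres_self]
    exact h1)
  rw [ha, hb, hab]

/-- A map between inverse images which agrees after the two projections comes from downstairs. -/
theorem exists_descend_hom {P R : Y.Modules} (hR : PicF.IsInvertible R)
    (ψ : (Scheme.Modules.pullback q).obj P ⟶ (Scheme.Modules.pullback q).obj R)
    (hψ : ∀ (W : Scheme.{u}) (i j : W ⟶ X) (h : i ≫ q = j ≫ q),
      ((Scheme.Modules.pullbackComp i q).inv.app P ≫ (Scheme.Modules.pullback i).map ψ ≫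
          (Scheme.Modules.pullbackComp i q).hom.app R) ≫
        eqToHom (congrArg (fun m : W ⟶ Y => (Scheme.Modules.pullback m).obj R) h) =
      eqToHom (congrArg (fun m : W ⟶ Y => (Scheme.Modules.pullback m).obj P) h) ≫
        ((Scheme.Modules.pullbackComp j q).inv.app P ≫ (Scheme.Modules.pullback j).map ψ ≫
          (Scheme.Modules.pullbackComp j q).hom.app R)) :
    ∃ h : P ⟶ R, (Scheme.Modules.pullback q).map h = ψ := by
  have hloc : ∀ (U : Y.Opens) (x : Γ(P, U)), ∃ y : Γ(R, U), qs q R U y = ψ.app (q ⁻¹ᵁ U) (qs q P U x) := by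
    intro U x
    choose V e hV he using InvExt.exists_gen_nhd hR
    let O : Y → Y.Opens := fun t => U ⊓ V t
    have hO : ∀ t, IsGen R (O t) (mres R inf_le_right (e t)) := fun t => (he t).restrict inf_le_right
    have hsec : ∀ t, ∃ y : Γ(R, O t), qs q R (O t) y =
        ψ.app (q ⁻¹ᵁ O t) (qs q P (O t) (mres P inf_le_left x)) := fun t => by
      have hg := isGen_qs q hR (hO t)
      obtain ⟨a, ha⟩ := hg.exists_smul_eq le_rfl (ψ.app (q ⁻¹ᵁ O t) (qs q P (O t) (mres P inf_le_left x)))
      rw [InvExt.mres_self] at ha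
      obtain ⟨c, hc⟩ := exists_app_eq q (O t) a (fun W i j ei ej h => by
        have ei' : (⊤ : W.Opens) ≤ (i ≫ q) ⁻¹ᵁ O t := by rwa [Scheme.Hom.comp_preimage]
        have ej' : (⊤ : W.Opens) ≤ (j ≫ q) ⁻¹ᵁ O t := by rwa [Scheme.Hom.comp_preimage]
        have key : ∀ (k : W ⟶ X) (ek : (⊤ : W.Opens) ≤ k ⁻¹ᵁ (q ⁻¹ᵁ O t))
            (ek' : (⊤ : W.Opens) ≤ (k ≫ q) ⁻¹ᵁ O t),
            ((Scheme.Modules.pullbackComp k q).inv.app P ≫ (Scheme.Modules.pullback k).map ψ ≫
              (Scheme.Modules.pullbackComp k q).hom.app R).app ⊤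
                (QCoh.pullSec (k ≫ q) P ek' (mres P inf_le_left x)) =
              k.appLE (q ⁻¹ᵁ O t) ⊤ ek a • QCoh.pullSec (k ≫ q) R ek' (mres R inf_le_right (e t)) := by
          intro k ek ek'
          rw [← EtQc13.pullSec_pullSec k q P (le_refl _) ek ek']
          show ((Scheme.Modules.pullbackComp k q).hom.app R).app ⊤ (((Scheme.Modules.pullback k).map ψ).app ⊤
            (((Scheme.Modules.pullbackComp k q).inv.app P).app ⊤
              (((Scheme.Modules.pullbackComp k q).hom.app P).app ⊤ _))) = _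
          rw [show ∀ z, ((Scheme.Modules.pullbackComp k q).inv.app P).app ⊤
              (((Scheme.Modules.pullbackComp k q).hom.app P).app ⊤ z) = z from fun z => by
            rw [← ConcreteCategory.comp_apply, ← Scheme.Modules.Hom.comp_app, Iso.hom_inv_id_app]; rfl]
          have hn := QCoh.pullSec_natural k ψ ek (qs q P (O t) (mres P inf_le_left x))
          refine (congrArg (((Scheme.Modules.pullbackComp k q).hom.app R).app ⊤) (hn.trans
            ((congrArg (QCoh.pullSec k _ ek) ha).trans (QCoh.pullSec_smul k _ ek a _)))).trans ?_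
          refine (Scheme.Modules.Hom.app_smul _ _ _).trans ?_
          exact congrArg (k.appLE (q ⁻¹ᵁ O t) ⊤ ek a • ·)
            (EtQc13.pullSec_pullSec k q R (le_refl _) ek ek' _)
        have hi := key i ei ei'
        have hj := key j ej ej'
        have hgen : IsGen ((Scheme.Modules.pullback (j ≫ q)).obj R) ⊤
            (QCoh.pullSec (j ≫ q) R ej' (mres R inf_le_right (e t))) :=
          PicAff28.isGen_pullRes (j ≫ q) hR (hO t) ⊤ ej'
        refine hgen.smul_left_injective le_rfl ?_
        rw [InvExt.mres_self]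
        refine Eq.trans ?_ hj
        rw [← EtQc13.eqToHom_pullSec h P ei' ej', ← EtQc13.eqToHom_pullSec h R ei' ej']
        have h2 := congrArg (fun m => Scheme.Modules.Hom.app m ⊤ (QCoh.pullSec (i ≫ q) P ei' (mres P inf_le_left x))) (hψ W i j h)
        simp only [Scheme.Modules.Hom.comp_app, ConcreteCategory.comp_apply] at h2 hi ⊢
        refine Eq.trans ?_ h2
        rw [hi]
        exact (Scheme.Modules.Hom.app_smul _ _ _).symm)
      refine ⟨c • mres R inf_le_right (e t), ?_⟩
      rw [ha, qs, QCoh.pullSec_smul, ← hc, Scheme.Hom.app_eq_appLE]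
    choose y hy using hsec
    have hres : ∀ t, qs q R (O t) (y t) = mres _ (q.preimage_mono inf_le_left) (ψ.app (q ⁻¹ᵁ U) (qs q P U x)) :=
      fun t => by
        refine (hy t).trans ?_
        rw [← Ample.app_mres ψ (q.preimage_mono inf_le_left), FundIso27.pullSec_mres q P _ (le_refl _) inf_le_left]
    obtain ⟨g, hg, -⟩ := TopCat.Sheaf.existsUnique_gluing' ⟨R.presheaf, R.isSheaf⟩ O U
      (fun t => homOfLE inf_le_left) (fun t ht => Opens.mem_iSup.2 ⟨t, ht, hV t⟩) y fun s t => by
        show mres R inf_le_left (y s) = mres R inf_le_right (y t)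
        refine qs_injective q hR _ ?_
        rw [qs, ← FundIso27.pullSec_mres q R (le_refl (q ⁻¹ᵁ O s)) (le_refl _) inf_le_left (q.preimage_mono inf_le_left),
          ← FundIso27.pullSec_mres q R (le_refl (q ⁻¹ᵁ O t)) (le_refl _) inf_le_right (q.preimage_mono inf_le_right)]
        rw [show QCoh.pullSec q R (le_refl (q ⁻¹ᵁ O s)) (y s) = _ from hres s,
          show QCoh.pullSec q R (le_refl (q ⁻¹ᵁ O t)) (y t) = _ from hres t, InvExt.mres_mres, InvExt.mres_mres]
    refine ⟨g, ?_⟩
    choose V' e' hV' he' using InvExt.exists_gen_nhd hR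
    refine TopCat.Sheaf.eq_of_locally_eq' ⟨((Scheme.Modules.pullback q).obj R).presheaf,
      ((Scheme.Modules.pullback q).obj R).isSheaf⟩ (fun t => q ⁻¹ᵁ O t) (q ⁻¹ᵁ U)
      (fun t => homOfLE (q.preimage_mono inf_le_left))
      (fun z hz => Opens.mem_iSup.2 ⟨q z, hz, hV (q z)⟩) _ _ fun t => ?_
    show mres _ _ (qs q R U g) = mres _ _ _
    rw [FundIso27.pullSec_mres q R _ (le_refl _) inf_le_left]
    exact (congrArg (qs q R (O t)) (hg t)).trans (hres t)
  choose φ hφ using hloc
  have hadd : ∀ U (a b : Γ(P, U)), φ U (a + b) = φ U a + φ U b := fun U a b => qs_injective q hR U (by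
    rw [map_add (qs q R U), hφ, hφ, hφ, map_add (qs q P U), map_add])
  have hnat : ∀ (U U' : Y.Opens) (e : U' ≤ U) (a : Γ(P, U)), φ U' (mres P e a) = mres R e (φ U a) := fun U U' e a =>
    qs_injective q hR U' (by
      rw [hφ, qs, ← FundIso27.pullSec_mres q P (le_refl (q ⁻¹ᵁ U)) (le_refl _) e (q.preimage_mono e), Ample.app_mres,
        ← FundIso27.pullSec_mres q R (le_refl (q ⁻¹ᵁ U)) (le_refl _) e (q.preimage_mono e), ← hφ U a])
  have hsmul : ∀ (U : Y.Opens) (r : Γ(Y, U)) (a : Γ(P, U)), φ U (r • a) = r • φ U a := fun U r a =>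
    qs_injective q hR U (by
      rw [hφ, qs, QCoh.pullSec_smul, Scheme.Modules.Hom.app_smul, QCoh.pullSec_smul, ← hφ U a])
  let T : P.presheaf ⟶ R.presheaf :=
    { app := fun U => AddCommGrpCat.ofHom (AddMonoidHom.mk' (φ U.unop) (hadd U.unop))
      naturality := fun U U' i => ConcreteCategory.hom_ext _ _ fun a => hnat U.unop U'.unop i.unop.le a }
  refine ⟨⟨PresheafOfModules.homMk T fun U r a => hsmul U.unop r a⟩, FunMor20.pullback_hom_ext fun U s => ?_⟩
  exact (QCoh.pullSec_natural q _ (le_refl _) s).trans (hφ U s)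

end GrothLib.ThetaGrp15
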