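import Mathlib.RingTheory.Bialgebra.Convolution
import Mathlib.RingTheory.HopfAlgebra.Convolution
import Mathlib.RingTheory.Coalgebra.Convolution
import Mathlib.FieldTheory.IsAlgClosed.Basic
import Mathlib.LinearAlgebra.Dual.Lemmas
import Mathlib.LinearAlgebra.TensorProduct.Basis

/-!
# Symmetric cocycles on finite commutative cocommutative Hopf algebras are coboundaries
-/

universe u

open scoped TensorProduct
open Coalgebra WithConv

noncomputable section

namespace GrothLib.ThetaGrp15

variable {k : Type u} [Field k] {H : Type u} [CommRing H] [HopfAlgebra k H]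

/-- The value of `c` at a pair of points. -/
def kap (c : H ⊗[k] H) {T : Type u} [CommRing T] [Algebra k T] (f g : WithConv (H →ₐ[k] T)) : T :=
  Algebra.TensorProduct.lift f.ofConv g.ofConv (fun _ _ => Commute.all _ _) c

/-- The space of functions, to carry the twisted coproduct. -/
def Tw (_ : H ⊗[k] H) : Type u := H

/-- A symmetric cocycle is a coboundary over an algebraically closed field. -/
theorem exists_coboundary_of_cocycle [IsAlgClosed k] [FiniteDimensional k H] (c : H ⊗[k] H) (hc : IsUnit c)
    (hsymm : ∀ {T : Type u} [CommRing T] [Algebra k T] (f g : WithConv (H →ₐ[k] T)), kap c f g = kap c g f)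
    (hassoc : ∀ {T : Type u} [CommRing T] [Algebra k T] (f g h : WithConv (H →ₐ[k] T)),
      kap c f g * kap c (f * g) h = kap c g h * kap c f (g * h))
    [Coalgebra.IsCocomm k H] :
    ∃ y : H, IsUnit y ∧ ∀ {T : Type u} [CommRing T] [Algebra k T] (f g : WithConv (H →ₐ[k] T)),
      kap c f g * (f * g).ofConv y = f.ofConv y * g.ofConv y := by
  let Δ : H →ₐ[k] H ⊗[k] H := Bialgebra.comulAlgHom k H
  let e : H →ₐ[k] k := Bialgebra.counitAlgHom k H
  have hΔ : ∀ x, Δ x = Coalgebra.comul (R := k) x := fun x => rfl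
  -- the value at the origin
  let c₀ : k := Algebra.TensorProduct.lift e e (fun _ _ => Commute.all _ _) c
  have hc₀ : IsUnit c₀ := hc.map _
  -- the cocycle is constant on each axis
  have hax : ∀ {T : Type u} [CommRing T] [Algebra k T] (f : WithConv (H →ₐ[k] T)),
      kap c 1 f = algebraMap k T c₀ := by
    intro T _ _ f
    have h := hassoc (1 : WithConv (H →ₐ[k] T)) 1 f
    simp only [_root_.one_mul] at h
    have hu : IsUnit (kap c (1 : WithConv (H →ₐ[k] T)) f) := hc.map _
    rw [← hu.mul_right_cancel h]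
    have h2 : (Algebra.ofId k T).comp (Algebra.TensorProduct.lift e e (fun _ _ => Commute.all _ _)) =
        Algebra.TensorProduct.lift (1 : WithConv (H →ₐ[k] T)).ofConv (1 : WithConv (H →ₐ[k] T)).ofConv
          (fun _ _ => Commute.all _ _) := by
      ext x <;> simp [e, AlgHom.convOne_def]
    exact (DFunLike.congr_fun h2 c).symm
  -- the twisted coalgebra
  letI : AddCommGroup (Tw c) := inferInstanceAs (AddCommGroup H)
  letI : Module k (Tw c) := inferInstanceAs (Module k H)
  let δ' : H →ₗ[k] H ⊗[k] H := (LinearMap.mulLeft k c) ∘ₗ Δ.toLinearMap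
  let ε' : H →ₗ[k] k := (↑hc₀.unit⁻¹ : k) • e.toLinearMap
  let iL : H →ₐ[k] H ⊗[k] H := Algebra.TensorProduct.includeLeft
  let iR : H →ₐ[k] H ⊗[k] H := Algebra.TensorProduct.includeRight
  let j₁ : H →ₐ[k] H ⊗[k] (H ⊗[k] H) := Algebra.TensorProduct.includeLeft
  let j₂ : H →ₐ[k] H ⊗[k] (H ⊗[k] H) := (Algebra.TensorProduct.includeRight).comp iL
  let j₃ : H →ₐ[k] H ⊗[k] (H ⊗[k] H) := (Algebra.TensorProduct.includeRight).comp iR
  have hco₀ : TensorProduct.assoc k H H H ∘ₗ δ'.rTensor H ∘ₗ δ' = δ'.lTensor H ∘ₗ δ' := by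
    refine LinearMap.ext fun x => ?_
    let Φ : H ⊗[k] H →ₐ[k] H ⊗[k] (H ⊗[k] H) :=
      (Algebra.TensorProduct.assoc k k k H H H).toAlgHom.comp (Algebra.TensorProduct.map Δ (AlgHom.id k H))
    let Ψ : H ⊗[k] H →ₐ[k] H ⊗[k] (H ⊗[k] H) := Algebra.TensorProduct.map (AlgHom.id k H) Δ
    have hl : ∀ z : H ⊗[k] H, TensorProduct.assoc k H H H (δ'.rTensor H z) =
        kap c (toConv j₁) (toConv j₂) * Φ z := by
      intro z
      induction z using TensorProduct.induction_on with
      | zero => simp
      | add a b ha hb => simp only [map_add, ha, hb, mul_add]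
      | tmul a b =>
        show (Algebra.TensorProduct.assoc k k k H H H) ((c * Δ a) ⊗ₜ b) = _ * (Algebra.TensorProduct.assoc k k k H H H) (Δ a ⊗ₜ b)
        rw [show (c * Δ a) ⊗ₜ[k] b = (c ⊗ₜ[k] (1 : H)) * (Δ a ⊗ₜ[k] b) by
          rw [Algebra.TensorProduct.tmul_mul_tmul, _root_.one_mul], map_mul]
        congr 1
        show ((Algebra.TensorProduct.assoc k k k H H H).toAlgHom.comp
          (Algebra.TensorProduct.includeLeft : H ⊗[k] H →ₐ[k] (H ⊗[k] H) ⊗[k] H)) c = _
        refine DFunLike.congr_fun (?_ : _ = Algebra.TensorProduct.lift j₁ j₂ (fun _ _ => Commute.all _ _)) c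
        ext x <;> simp [j₁, j₂, iL, Algebra.TensorProduct.one_def]
    have hr : ∀ z : H ⊗[k] H, δ'.lTensor H z = kap c (toConv j₂) (toConv j₃) * Ψ z := by
      intro z
      induction z using TensorProduct.induction_on with
      | zero => simp
      | add a b ha hb => simp only [map_add, ha, hb, mul_add]
      | tmul a b =>
        show a ⊗ₜ[k] (c * Δ b) = _ * (a ⊗ₜ[k] Δ b)
        rw [show a ⊗ₜ[k] (c * Δ b) = ((1 : H) ⊗ₜ[k] c) * (a ⊗ₜ[k] Δ b) by
          rw [Algebra.TensorProduct.tmul_mul_tmul, _root_.one_mul]]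
        congr 1
        show (Algebra.TensorProduct.includeRight : H ⊗[k] H →ₐ[k] H ⊗[k] (H ⊗[k] H)) c = _
        refine DFunLike.congr_fun (?_ : _ = Algebra.TensorProduct.lift j₂ j₃ (fun _ _ => Commute.all _ _)) c
        ext x <;> simp [j₂, j₃, iL, iR, Algebra.TensorProduct.one_def]
    have hΦ : Φ = Algebra.TensorProduct.lift (toConv j₁ * toConv j₂ : WithConv (H →ₐ[k] _)).ofConv j₃
        (fun _ _ => Commute.all _ _) := by
      refine Algebra.TensorProduct.ext ?_ ?_
      · refine AlgHom.ext fun a => ?_
        simp only [Φ, AlgHom.convMul_def, AlgHom.comp_apply, Algebra.TensorProduct.lift_comp_includeLeft,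
          Algebra.TensorProduct.includeLeft_apply, Algebra.TensorProduct.map_tmul, Algebra.TensorProduct.lift_tmul,
          ofConv_toConv, map_one, _root_.mul_one]
        show (Algebra.TensorProduct.assoc k k k H H H) (Δ a ⊗ₜ (1 : H)) = _
        show _ = (Algebra.TensorProduct.lmul' k) ((Algebra.TensorProduct.map j₁ j₂) (Δ a))
        generalize Δ a = z
        induction z using TensorProduct.induction_on with
        | zero => simp
        | tmul p q => simp [j₁, j₂, iL]
        | add p q hp hq => simp only [TensorProduct.add_tmul, map_add, hp, hq]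
      · refine AlgHom.ext fun a => ?_
        simp [Φ, j₃, iR, Algebra.TensorProduct.one_def]
    have hΨ : Ψ = Algebra.TensorProduct.lift j₁ (toConv j₂ * toConv j₃ : WithConv (H →ₐ[k] _)).ofConv
        (fun _ _ => Commute.all _ _) := by
      refine Algebra.TensorProduct.ext ?_ ?_
      · refine AlgHom.ext fun a => ?_
        simp [Ψ, j₁, Algebra.TensorProduct.one_def]
      · refine AlgHom.ext fun a => ?_
        simp only [Ψ, AlgHom.convMul_def, AlgHom.comp_apply, AlgHom.restrictScalars_apply,
          Algebra.TensorProduct.includeRight_apply, Algebra.TensorProduct.map_tmul, Algebra.TensorProduct.lift_tmul,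
          ofConv_toConv, map_one, _root_.one_mul]
        show (1 : H) ⊗ₜ[k] Δ a = (Algebra.TensorProduct.lmul' k) ((Algebra.TensorProduct.map j₂ j₃) (Δ a))
        generalize Δ a = z
        induction z using TensorProduct.induction_on with
        | zero => simp
        | tmul p q => simp [j₂, j₃, iL, iR]
        | add p q hp hq => simp only [TensorProduct.tmul_add, map_add, hp, hq]
    show TensorProduct.assoc k H H H (δ'.rTensor H (c * Δ x)) = δ'.lTensor H (c * Δ x)
    rw [hl, hr, map_mul, map_mul, ← _root_.mul_assoc, ← _root_.mul_assoc]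
    congr 1
    · rw [hΦ, hΨ]; exact hassoc (toConv j₁) (toConv j₂) (toConv j₃)
    · exact Coalgebra.coassoc_apply (R := k) x
  have hcu₀ : ε'.rTensor H ∘ₗ δ' = TensorProduct.mk k _ _ 1 := by
    refine LinearMap.ext fun x => ?_
    show ε'.rTensor H (c * Δ x) = (1 : k) ⊗ₜ[k] x
    apply (TensorProduct.lid k H).injective
    have hl : ∀ z : H ⊗[k] H, TensorProduct.lid k H (ε'.rTensor H z) = (↑hc₀.unit⁻¹ : k) •
        Algebra.TensorProduct.lift ((Algebra.ofId k H).comp e) (AlgHom.id k H) (fun _ _ => Commute.all _ _) z := by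
      intro z
      induction z using TensorProduct.induction_on with
      | zero => simp
      | add a b ha hb => simp only [map_add, ha, hb, smul_add]
      | tmul a b => simp [ε', Algebra.smul_def, _root_.mul_assoc]
    have h1 : Algebra.TensorProduct.lift ((Algebra.ofId k H).comp e) (AlgHom.id k H) (fun _ _ => Commute.all _ _) c =
        algebraMap k H c₀ := hax (toConv (AlgHom.id k H))
    have h2 : Algebra.TensorProduct.lift ((Algebra.ofId k H).comp e) (AlgHom.id k H) (fun _ _ => Commute.all _ _)
        (Δ x) = x := by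
      have := DFunLike.congr_fun (congrArg WithConv.ofConv (_root_.one_mul (toConv (AlgHom.id k H)))) x
      rw [AlgHom.convMul_apply] at this
      refine Eq.trans ?_ this
      rw [hΔ]
      generalize Coalgebra.comul (R := k) x = w
      induction w using TensorProduct.induction_on with
      | zero => simp
      | tmul a b => simp [e, AlgHom.convOne_def]
      | add a b ha hb => simp only [map_add, ha, hb]
    rw [hl, map_mul, h1, h2, TensorProduct.lid_tmul, one_smul, ← Algebra.smul_def, smul_smul, hc₀.val_inv_mul,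
      one_smul]
  have hcomm₀ : ∀ x, TensorProduct.comm k H H (δ' x) = δ' x := by
    intro x
    show Algebra.TensorProduct.comm k H H (c * Δ x) = c * Δ x
    rw [map_mul]
    congr 1
    · have h := hsymm (toConv iR) (toConv iL)
      have e1 : Algebra.TensorProduct.lift iR iL (fun _ _ => Commute.all _ _) =
          (Algebra.TensorProduct.comm k H H).toAlgHom := by ext a <;> simp [iR, iL]
      have e2 : Algebra.TensorProduct.lift iL iR (fun _ _ => Commute.all _ _) = AlgHom.id k (H ⊗[k] H) := by
        ext a <;> simp [iR, iL]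
      change Algebra.TensorProduct.lift iR iL (fun _ _ => Commute.all _ _) c =
        Algebra.TensorProduct.lift iL iR (fun _ _ => Commute.all _ _) c at h
      rw [e1, e2] at h
      exact h
    · exact Coalgebra.comm_comul k x
  have hcu₁ : ε'.lTensor H ∘ₗ δ' = (TensorProduct.mk k _ _).flip 1 := by
    refine LinearMap.ext fun x => ?_
    have h := LinearMap.congr_fun hcu₀ x
    have key : ∀ z : H ⊗[k] H, ε'.lTensor H (TensorProduct.comm k H H z) = TensorProduct.comm k k H (ε'.rTensor H z) := by
      intro z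
      induction z using TensorProduct.induction_on with
      | zero => simp
      | tmul a b => simp
      | add a b ha hb => simp only [map_add, ha, hb]
    show ε'.lTensor H (δ' x) = _
    rw [← hcomm₀ x, key, show ε'.rTensor H (δ' x) = (1 : k) ⊗ₜ[k] x from h]
    simp
  letI : Coalgebra k (Tw c) :=
    { comul := δ', counit := ε', coassoc := hco₀, rTensor_counit_comp_comul := hcu₀, lTensor_counit_comp_comul := hcu₁ }
  haveI : Coalgebra.IsCocomm k (Tw c) := ⟨LinearMap.ext hcomm₀⟩
  haveI : FiniteDimensional k (Tw c) := inferInstanceAs (FiniteDimensional k H)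
  haveI : Module.Finite k (WithConv (Tw c →ₗ[k] k)) :=
    Module.Finite.equiv (WithConv.linearEquiv k (Tw c →ₗ[k] k)).symm
  have he0 : Nontrivial (WithConv (Tw c →ₗ[k] k)) := by
    refine ⟨0, 1, fun h => ?_⟩
    have h' := congrArg (fun f : WithConv (Tw c →ₗ[k] k) => f.ofConv (1 : H)) h
    change (0 : k) = algebraMap k k ((↑hc₀.unit⁻¹ : k) • e 1) at h'
    simp at h'
    exact hc₀.ne_zero h'.symm
  obtain ⟨M, hM⟩ := Ideal.exists_maximal (WithConv (Tw c →ₗ[k] k))
  letI := Ideal.Quotient.field M
  haveI : Module.Finite k (WithConv (Tw c →ₗ[k] k) ⧸ M) :=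
    Module.Finite.of_surjective (Ideal.Quotient.mkₐ k M).toLinearMap Ideal.Quotient.mk_surjective
  haveI : Algebra.IsIntegral k (WithConv (Tw c →ₗ[k] k) ⧸ M) := Algebra.IsIntegral.of_finite _ _
  have hbij := IsAlgClosed.algebraMap_bijective_of_isIntegral (k := k) (K := WithConv (Tw c →ₗ[k] k) ⧸ M)
  let χ : WithConv (Tw c →ₗ[k] k) →ₐ[k] k :=
    (AlgEquiv.ofBijective (Algebra.ofId k _) hbij).symm.toAlgHom.comp (Ideal.Quotient.mkₐ k M)
  let χ' : Module.Dual k (Module.Dual k H) :=
    { toFun := fun f => χ ((toConv f : WithConv (Tw c →ₗ[k] k)))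
      map_add' := fun a b => map_add χ _ _
      map_smul' := fun r a => map_smul χ r _ }
  let y : H := (Module.evalEquiv k H).symm χ'
  have hy : ∀ f : Module.Dual k H, f y = χ' f := fun f => Module.apply_evalEquiv_symm_apply k H f χ'
  have hkey : c * Δ y = y ⊗ₜ[k] y := by
    let b := Module.Free.chooseBasis k H
    refine (b.tensorProduct b).repr.injective (Finsupp.ext fun p => ?_)
    have hp : ∀ z : H ⊗[k] H, (b.tensorProduct b).repr z p =
        LinearMap.mul' k k (TensorProduct.map (b.coord p.1) (b.coord p.2) z) := by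
      intro z
      induction z using TensorProduct.induction_on with
      | zero => simp
      | tmul a d =>
        obtain ⟨i, j⟩ := p
        simp [Module.Basis.tensorProduct_repr_tmul_apply, mul_comm]
      | add a d ha hd => simp only [map_add, Finsupp.add_apply, ha, hd]
    rw [hp, hp]
    have h := hy (((toConv (b.coord p.1) : WithConv (Tw c →ₗ[k] k)) * (toConv (b.coord p.2) : WithConv (Tw c →ₗ[k] k))).ofConv)
    change LinearMap.mul' k k (TensorProduct.map (b.coord p.1) (b.coord p.2) (c * Δ y)) =
      χ ((toConv (b.coord p.1) : WithConv (Tw c →ₗ[k] k)) * (toConv (b.coord p.2) : WithConv (Tw c →ₗ[k] k))) at h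
    rw [h, map_mul, TensorProduct.map_tmul, LinearMap.mul'_apply]
    exact (congrArg₂ (· * ·) (hy (b.coord p.1)) (hy (b.coord p.2))).symm
  have heps : e y = c₀ := by
    have h := hy ε'
    have h1 : χ' ε' = 1 := map_one χ
    rw [h1] at h
    change (↑hc₀.unit⁻¹ : k) * e y = 1 at h
    have := congrArg (c₀ * ·) h
    simp only [_root_.mul_one, ← _root_.mul_assoc, hc₀.mul_val_inv, _root_.one_mul] at this
    exact this
  have hpts : ∀ {T : Type u} [CommRing T] [Algebra k T] (f g : WithConv (H →ₐ[k] T)),
      kap c f g * (f * g).ofConv y = f.ofConv y * g.ofConv y := by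
    intro T _ _ f g
    have h := congrArg (Algebra.TensorProduct.lift f.ofConv g.ofConv (fun _ _ => Commute.all _ _)) hkey
    rw [map_mul, Algebra.TensorProduct.lift_tmul] at h
    refine Eq.trans ?_ h
    congr 1
    rw [AlgHom.convMul_apply, hΔ]
  refine ⟨y, ?_, hpts⟩
  let S : WithConv (H →ₐ[k] H) := (toConv (AlgHom.id k H))⁻¹
  have hS : toConv (AlgHom.id k H) * S = 1 := mul_inv_cancel _
  have h := hpts (toConv (AlgHom.id k H)) S
  rw [hS] at h
  have h3 : IsUnit (kap c (toConv (AlgHom.id k H)) S * algebraMap k H (e y)) :=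
    (hc.map _).mul ((heps ▸ hc₀).map _)
  rw [show (1 : WithConv (H →ₐ[k] H)).ofConv y = algebraMap k H (e y) from rfl] at h
  rw [h] at h3
  exact isUnit_of_mul_isUnit_left h3

end GrothLib.ThetaGrp15
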