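import Mathlib.Algebra.Group.ForwardDiff
import Mathlib.RingTheory.Polynomial.Pochhammer
import Mathlib.Algebra.Polynomial.Roots
import Mathlib.Data.Rat.Floor
import Mathlib.Data.Rat.Lemmas
import Mathlib.RingTheory.Coprime.Lemmas
import Mathlib.Tactic.LinearCombination
import Mathlib.Tactic.FieldSimp
import Mathlib.Algebra.Order.Archimedean.Basic
import Mathlib.Algebra.Order.Field.Basic

/-!
# Coefficients of a polynomial with integral scaled values on an interval
-/

namespace GrothLib.IntPoly15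

open Polynomial Finset

theorem exists_int_newton (g : ℕ) (f : ℕ → ℤ) :
    ∃ S : ℤ[X], S.natDegree ≤ g ∧ ∀ n ≤ g, S.eval (n : ℤ) = (g.factorial : ℤ) * f n := by
  refine ⟨∑ k ∈ range (g + 1), C ((fwdDiff 1)^[k] f 0 * ((g.factorial / k.factorial : ℕ) : ℤ)) * descPochhammer ℤ k,
    natDegree_sum_le_of_forall_le _ _ fun k hk => (natDegree_C_mul_le _ _).trans ?_, fun n hn => ?_⟩
  · rw [descPochhammer_natDegree]; exact Nat.lt_succ_iff.1 (mem_range.1 hk)
  · have h := shift_eq_sum_fwdDiff_iter (1 : ℕ) f n 0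
    simp only [smul_eq_mul, _root_.mul_one, _root_.zero_add, nsmul_eq_mul] at h
    rw [eval_finsetSum, ← Finset.sum_subset (s₁ := range (n + 1)) (by intro x hx; simp only [mem_range] at hx ⊢; omega), h,
      Finset.mul_sum]
    · refine Finset.sum_congr rfl fun k hk => ?_
      rw [eval_mul, eval_C, descPochhammer_eval_eq_descFactorial, Nat.descFactorial_eq_factorial_mul_choose]
      have hd : ((g.factorial / k.factorial : ℕ) : ℤ) * (k.factorial : ℤ) = g.factorial := by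
        exact_mod_cast Nat.div_mul_cancel (Nat.factorial_dvd_factorial
          (le_trans (Nat.lt_succ_iff.1 (mem_range.1 hk)) hn))
      rw [← hd, Nat.cast_mul]
      ring
    · intro k _ hk
      rw [eval_mul, eval_C, descPochhammer_eval_eq_descFactorial,
        Nat.descFactorial_eq_zero_iff_lt.2 (by simp only [mem_range] at hk; omega), Nat.cast_zero, mul_zero]

theorem coeff_integral_of_consecutive {g : ℕ} {R : ℚ[X]} (hR : R.natDegree ≤ g) (a₀ : ℤ)
    (h : ∀ n ≤ g, ∃ z : ℤ, R.eval ((a₀ + n : ℤ) : ℚ) = z) (j : ℕ) :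
    ∃ z : ℤ, (g.factorial : ℚ) * R.coeff j = z := by
  choose! f hf using h
  obtain ⟨S, hS, hSe⟩ := exists_int_newton g f
  let T : ℤ[X] := S.comp (X - C a₀)
  have hT : T.natDegree ≤ g := by
    refine natDegree_comp_le.trans ?_
    rw [natDegree_X_sub_C, _root_.mul_one]; exact hS
  have e : T.map (Int.castRingHom ℚ) = C (g.factorial : ℚ) * R := by
    refine eq_of_natDegree_lt_card_of_eval_eq _ _ (f := fun n : Fin (g + 1) => ((a₀ + n : ℤ) : ℚ)) ?_ (fun n => ?_) ?_
    · intro a b hab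
      simpa [Fin.val_eq_val] using hab
    · show _ = eval _ _
      rw [← eq_intCast (Int.castRingHom ℚ), eval_map_apply, eval_mul, eval_C, eq_intCast, eq_intCast,
        hf n (Nat.lt_succ_iff.1 n.2)]
      show ((T.eval (a₀ + (n : ℕ)) : ℤ) : ℚ) = _
      rw [eval_comp, eval_sub, eval_X, eval_C, add_sub_cancel_left, hSe n (Nat.lt_succ_iff.1 n.2)]
      push_cast
      rfl
    · rw [Fintype.card_fin, Nat.lt_succ_iff]
      exact max_le (natDegree_map_le.trans hT) ((natDegree_C_mul_le _ _).trans hR)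
  exact ⟨T.coeff j, by rw [← coeff_C_mul, ← e, coeff_map]; rfl⟩

theorem factorial_mul_coeff_integral {g : ℕ} {Q : ℚ[X]} (hQ : Q.natDegree ≤ g) {u v : ℚ} (huv : u < v)
    (h : ∀ (a : ℤ) (b : ℕ), 0 < b → u < (a : ℚ) / b → (a : ℚ) / b < v →
      ∃ z : ℤ, (b : ℚ) ^ (2 * g) * Q.eval ((a : ℚ) / b) = z) (j : ℕ) :
    ∃ z : ℤ, (g.factorial : ℚ) * Q.coeff j = z := by
  by_cases hj : g < j
  · exact ⟨0, by rw [coeff_eq_zero_of_natDegree_lt (by omega)]; simp⟩
  push Not at hj
  obtain ⟨N, hN⟩ := exists_nat_gt (((g : ℚ) + 2) / (v - u))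
  have key : ∀ b : ℕ, N < b → ∃ z : ℤ, (b : ℚ) ^ (2 * g - j) * ((g.factorial : ℚ) * Q.coeff j) = z := by
    intro b hb
    have hb0 : (0 : ℚ) < b := by exact_mod_cast (Nat.zero_le N).trans_lt hb
    let R : ℚ[X] := ∑ i ∈ range (g + 1), C ((b : ℚ) ^ (2 * g - i) * Q.coeff i) * X ^ i
    have hR : R.natDegree ≤ g := natDegree_sum_le_of_forall_le _ _ fun i hi =>
      (natDegree_C_mul_X_pow_le _ _).trans (Nat.lt_succ_iff.1 (mem_range.1 hi))
    have hcoef : R.coeff j = (b : ℚ) ^ (2 * g - j) * Q.coeff j := by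
      simp only [R, finsetSum_coeff, coeff_C_mul_X_pow]
      rw [Finset.sum_eq_single j]
      · simp
      · intro i _ hij; simp [Ne.symm hij]
      · intro h'; simp only [mem_range] at h'; omega
    let a₀ : ℤ := ⌊u * b⌋ + 1
    have hR' : ∀ n ≤ g, ∃ z : ℤ, R.eval ((a₀ + n : ℤ) : ℚ) = z := by
      intro n hn
      have h1 : u * b < ((a₀ + n : ℤ) : ℚ) := by
        push_cast [a₀]
        have := Int.lt_floor_add_one (u * b)
        have : (0 : ℚ) ≤ (n : ℚ) := Nat.cast_nonneg n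
        linarith
      have h2 : ((a₀ + n : ℤ) : ℚ) < v * b := by
        push_cast [a₀]
        have h3 := Int.floor_le (u * b)
        have h4 : (n : ℚ) ≤ g := by exact_mod_cast hn
        have h5 : (N : ℚ) < b := by exact_mod_cast hb
        have h6 : (g : ℚ) + 2 < b * (v - u) := (div_lt_iff₀ (sub_pos.2 huv)).1 (hN.trans h5)
        linarith
      obtain ⟨z, hz⟩ := h (a₀ + n) b (by exact_mod_cast hb0) ((lt_div_iff₀ hb0).2 h1) ((div_lt_iff₀ hb0).2 h2)
      refine ⟨z, hz ▸ ?_⟩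
      simp only [R, eval_finsetSum, eval_mul, eval_C, eval_pow, eval_X]
      rw [eval_eq_sum_range' (Nat.lt_succ_iff.2 hQ), Finset.mul_sum]
      refine Finset.sum_congr rfl fun i hi => ?_
      have hi' : i ≤ 2 * g := by simp only [mem_range] at hi; omega
      rw [div_pow, ← Nat.sub_add_cancel hi', pow_add, Nat.add_sub_cancel]
      field_simp
    obtain ⟨z, hz⟩ := coeff_integral_of_consecutive hR a₀ hR' j
    exact ⟨z, by rw [← hz, hcoef]; ring⟩
  obtain ⟨z₁, h₁⟩ := key (N + 1) (by omega)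
  obtain ⟨z₂, h₂⟩ := key (N + 2) (by omega)
  have hc : IsCoprime ((N + 1 : ℕ) : ℤ) ((N + 2 : ℕ) : ℤ) := ⟨-1, 1, by push_cast; ring⟩
  obtain ⟨x, y, hxy⟩ := hc.pow (m := 2 * g - j) (n := 2 * g - j)
  refine ⟨x * z₁ + y * z₂, ?_⟩
  push_cast
  rw [← h₁, ← h₂]
  have hxy' : (x : ℚ) * ((N + 1 : ℕ) : ℚ) ^ (2 * g - j) + (y : ℚ) * ((N + 2 : ℕ) : ℚ) ^ (2 * g - j) = 1 := by
    exact_mod_cast hxy
  linear_combination (-((g.factorial : ℚ) * Q.coeff j)) * hxy'

end GrothLib.IntPoly15
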