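import Groth.Agent.Lib.ThetaGrp15.Move
import Groth.Agent.Lib.ThetaGrp15.ArrowDesc
import Groth.Agent.Lib.FppfPic26.Main

/-!
# Arrows invariant under the descent datum
-/

universe u

open CategoryTheory CategoryTheory.Limits MonoidalCategory CartesianMonoidalCategory AlgebraicGeometry Opposite
open scoped MonObj
open GrothLib.Cube GrothLib.PicDescent GrothLib.Ample

set_option backward.isDefEq.respectTransparency false
set_option maxHeartbeats 800000

noncomputable section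

namespace GrothLib.ThetaGrp15

open ThetaGrp

variable {k : Type u} [Field k] {A B N G : Over (Spec (CommRingCat.of k))} [GrpObj A] [GrpObj B] [GrpObj N] [GrpObj G]
  {L : A.left.Modules} {f : A ⟶ B} {i : N ⟶ A} {j : N ⟶ G} {u : thetaPts A L G}

/-- An arrow invariant under the descent datum. -/
structure IsInv (D : KerLift f i j u) {W : Scheme.{u}} (x : W ⟶ A.left)
    (α : triv W ⟶ (⟨A.left, L⟩ : ModSch.{u})) : Prop where
  base : α.base = x
  iso : IsIso α.fiber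
  inv : ∀ (T : Over (Spec (CommRingCat.of k))) (a b : T ⟶ A) (p q : T.left ⟶ W) (hp : p ≫ x = a.left)
    (_ : q ≫ x = b.left) (h : a ≫ f = b ≫ f) (hα : (hat p ≫ α).base = a.left),
    mv D h (hat p ≫ α) hα = hat q ≫ α

theorem appTop_eq_appLE {X Y : Scheme.{u}} (s : X ⟶ Y) (y : Γ(Y, ⊤)) : s.appTop y = s.appLE ⊤ ⊤ le_top y := by
  exact congrArg (fun φ : Γ(Y, ⊤) ⟶ Γ(X, ⊤) => φ y) (Scheme.Hom.app_eq_appLE (f := s) (U := ⊤))

variable [IsCommMonObj A] [IsProper A.hom] [IsProper B.hom]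

omit [IsProper A.hom] [IsProper B.hom] in
theorem exists_theta (D : KerLift f i j u) {C : Scheme.{u}} (w : C ⟶ A.left)
    (α₀ : triv C ⟶ (⟨A.left, L⟩ : ModSch.{u})) (hb : α₀.base = w) (hi : IsIso α₀.fiber)
    {v : C ⟶ B.left} (hv : w ≫ f.left = v) :
    ∃ θ : Γ(pullback v v, ⊤), IsUnit θ ∧
      ∀ (T : Over (Spec (CommRingCat.of k))) (a b : T ⟶ A) (p q : T.left ⟶ C) (_ : p ≫ w = a.left)
        (_ : q ≫ w = b.left) (h : a ≫ f = b ≫ f) (hα : (hat p ≫ α₀).base = a.left) (s : T.left ⟶ pullback v v),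
        s ≫ pullback.fst v v = p → s ≫ pullback.snd v v = q →
        mv D h (hat p ≫ α₀) hα = act (X := triv T.left) (s.appTop θ) (hat q ≫ α₀) := by
  let p₁ := pullback.fst v v
  let p₂ := pullback.snd v v
  let P : Over (Spec (CommRingCat.of k)) := Over.mk ((p₁ ≫ w) ≫ A.hom)
  have hc : (p₁ ≫ w) ≫ f.left = (p₂ ≫ w) ≫ f.left := by
    rw [Category.assoc, Category.assoc, hv]; exact pullback.condition
  let a₁ : P ⟶ A := Over.homMk (p₁ ≫ w) rfl
  let b₁ : P ⟶ A := Over.homMk (p₂ ≫ w) (by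
    show (p₂ ≫ w) ≫ A.hom = (p₁ ≫ w) ≫ A.hom
    rw [← Over.w f, ← Category.assoc, ← Category.assoc (p₁ ≫ w), hc])
  have h₁ : a₁ ≫ f = b₁ ≫ f := Over.OverMorphism.ext hc
  have hα₁ : (hat p₁ ≫ α₀).base = a₁.left := congrArg (p₁ ≫ ·) hb
  have hq : IsIso (hat p₂ ≫ α₀).fiber := isIso_comp_fiber' _ _ (isIso_hat _) hi
  have hm : IsIso (mv D h₁ (hat p₁ ≫ α₀) hα₁).fiber :=
    isIso_mv_fiber D h₁ _ hα₁ (isIso_comp_fiber' _ _ (isIso_hat _) hi)
  have hbase : (mv D h₁ (hat p₁ ≫ α₀) hα₁).base = (hat p₂ ≫ α₀).base :=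
    (mv_base D h₁ _ hα₁).trans (congrArg (p₂ ≫ ·) hb).symm
  obtain ⟨θ, hθ⟩ := exists_eq_act (X := triv P.left) (hat p₂ ≫ α₀) (mv D h₁ (hat p₁ ≫ α₀) hα₁) hbase hq
    Euler.isInvertible_structure
  obtain ⟨θ', hθ'⟩ := exists_eq_act (X := triv P.left) (mv D h₁ (hat p₁ ≫ α₀) hα₁) (hat p₂ ≫ α₀) hbase.symm hm
    Euler.isInvertible_structure
  refine ⟨θ, IsUnit.of_mul_eq_one θ' ?_, fun T a b p q hp hq' h hα s hs₁ hs₂ => ?_⟩
  · refine isIso_fiber_act_iff (X := triv P.left) hm Euler.isInvertible_structure ?_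
    rw [mul_comm, ← act_act, ← hθ', ← hθ]
  · let g : T ⟶ P := Over.homMk s (by
      show s ≫ (p₁ ≫ w) ≫ A.hom = T.hom
      rw [← Category.assoc, ← Category.assoc, hs₁, hp, Over.w a])
    have ha : g ≫ a₁ = a := Over.OverMorphism.ext (by
      show s ≫ p₁ ≫ w = a.left
      rw [← Category.assoc, hs₁, hp])
    have hb' : g ≫ b₁ = b := Over.OverMorphism.ext (by
      show s ≫ p₂ ≫ w = b.left
      rw [← Category.assoc, hs₂, hq'])
    have e₁ : hat s ≫ hat p₁ ≫ α₀ = hat p ≫ α₀ := by rw [← Category.assoc, hat_comp, hs₁]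
    have e₂ : hat s ≫ hat p₂ ≫ α₀ = hat q ≫ α₀ := by rw [← Category.assoc, hat_comp, hs₂]
    have hα' : (hat g.left ≫ hat p₁ ≫ α₀).base = a.left := by
      show (hat s ≫ hat p₁ ≫ α₀).base = a.left
      rw [e₁]; exact hα
    have hn := mv_natural D g h₁ h ha hb' (hat p₁ ≫ α₀) hα₁ hα'
    rw [mv_congr D h h rfl hα hα' e₁.symm, ← hn, hθ, comp_act]
    show act (X := triv T.left) (s.appTop θ) (hat s ≫ hat p₂ ≫ α₀) = _
    rw [e₂]

/-- Near every point of the base there is an invariant arrow on a covering of a neighbourhood. -/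
theorem exists_local (D : KerLift f i j u) [Flat f.left] [Surjective f.left] (hL : PicF.IsInvertible L)
    (P₀ : B.left) :
    ∃ (O : Scheme.{u}) (x : O ⟶ A.left) (α : triv O ⟶ (⟨A.left, L⟩ : ModSch.{u})) (E : B.left.Opens),
      IsAffine O ∧ IsInv D x α ∧ Flat (x ≫ f.left) ∧ LocallyOfFinitePresentation (x ≫ f.left) ∧
        Set.range (x ≫ f.left) = E ∧ P₀ ∈ E := by
  haveI : IsNoetherianRing (CommRingCat.of k) := inferInstanceAs (IsNoetherianRing k)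
  haveI : IsLocallyNoetherian B.left := LocallyOfFiniteType.isLocallyNoetherian B.hom
  haveI : LocallyOfFiniteType (f.left ≫ B.hom) := by rw [Over.w f]; infer_instance
  haveI : LocallyOfFiniteType f.left := locallyOfFiniteType_of_comp f.left B.hom
  obtain ⟨_, ⟨U, hU, rfl⟩, hsU, -⟩ :=
    B.left.isBasis_affineOpens.exists_subset_of_mem_open (Set.mem_univ P₀) isOpen_univ
  obtain ⟨a, rfl⟩ := f.left.surjective P₀
  obtain ⟨U₀, haU₀, ⟨e₀⟩⟩ := hL a
  obtain ⟨_, ⟨W, hW, rfl⟩, hsW, hWsub⟩ := A.left.isBasis_affineOpens.exists_subset_of_mem_open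
    (show a ∈ f.left ⁻¹ᵁ U ⊓ U₀ from ⟨hsU, haU₀⟩) (f.left ⁻¹ᵁ U ⊓ U₀).2
  have hWU : W ≤ f.left ⁻¹ᵁ U := fun z hz => (hWsub hz).1
  obtain ⟨b, hbim, hsb⟩ :=
    hU.exists_basicOpen_le (V := ⟨f.left '' W, f.left.isOpenMap _ W.2⟩) ⟨f.left a, a, hsW, rfl⟩ hsU
  let U' := B.left.basicOpen b
  have hU' : IsAffineOpen U' := hU.basicOpen b
  let W' := A.left.basicOpen (f.left.appLE U W hWU b)
  have hW' : IsAffineOpen W' := hW.basicOpen _
  have hWeq : W' = W ⊓ f.left ⁻¹ᵁ U' := Scheme.basicOpen_appLE f.left W U hWU b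
  have hWU' : W' ≤ f.left ⁻¹ᵁ U' := hWeq ▸ inf_le_right
  let φ := f.left.appLE U' W' hWU'
  have hφ : φ.hom.FaithfullyFlat := by
    letI : Algebra Γ(B.left, U') Γ(A.left, W') := φ.hom.toAlgebra
    haveI : Module.Flat Γ(B.left, U') Γ(A.left, W') := Flat.flat_appLE f.left hU' hW' hWU'
    show Module.FaithfullyFlat Γ(B.left, U') Γ(A.left, W')
    refine Module.FaithfullyFlat.of_comap_surjective fun P => ?_
    obtain ⟨z, hzW, hz⟩ := hbim (BCCoh.fromSpec_mem hU' P : hU'.fromSpec P ∈ U')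
    have hzU : f.left z ∈ U' := by rw [hz]; exact BCCoh.fromSpec_mem hU' P
    have hzW' : z ∈ W' := by rw [hWeq]; exact ⟨hzW, hzU⟩
    refine ⟨hW'.primeIdealOf ⟨z, hzW'⟩, (IsAffineOpen.comap_primeIdealOf_appLE U' hU' W' hW' hWU' hzW').trans
      (hU'.fromSpec.isOpenEmbedding.injective ?_)⟩
    rw [hU'.fromSpec_primeIdealOf]; exact hz
  let w : Spec Γ(A.left, W') ⟶ A.left := hW'.fromSpec
  let v : Spec Γ(A.left, W') ⟶ B.left := w ≫ f.left
  have hv : Spec.map φ ≫ hU'.fromSpec = v := IsAffineOpen.SpecMap_appLE_fromSpec f.left hU' hW' hWU'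
  have hrange : Set.range w ⊆ Set.range U₀.ι := by
    rw [Scheme.Opens.range_ι]
    rintro _ ⟨z, rfl⟩
    have := BCCoh.fromSpec_mem hW' z
    exact (hWsub (hWeq.le this).1).2
  let ψ := (Scheme.Modules.restrictFunctorIsoPullback U₀.ι).app L
  let α₀ : triv (Spec Γ(A.left, W')) ⟶ (⟨A.left, L⟩ : ModSch.{u}) :=
    hat (IsOpenImmersion.lift U₀.ι w hrange) ≫ (⟨U₀.ι, e₀.inv ≫ ψ.hom⟩ : triv U₀.toScheme ⟶ ⟨A.left, L⟩)
  have hb₀ : α₀.base = w := IsOpenImmersion.lift_fac _ _ _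
  have hi₀ : IsIso α₀.fiber := isIso_comp_fiber' _ _ (isIso_hat _) (inferInstanceAs (IsIso (e₀.inv ≫ ψ.hom)))
  obtain ⟨θ, hθu, hθ⟩ := exists_theta D w α₀ hb₀ hi₀ (v := v) rfl
  have hcoc : ∀ {T : Scheme.{u}} (t₁ t₂ t₃ : T ⟶ Spec Γ(A.left, W')) (s₁₂ s₂₃ s₁₃ : T ⟶ pullback v v),
      s₁₂ ≫ pullback.fst v v = t₁ → s₁₂ ≫ pullback.snd v v = t₂ →
      s₂₃ ≫ pullback.fst v v = t₂ → s₂₃ ≫ pullback.snd v v = t₃ →
      s₁₃ ≫ pullback.fst v v = t₁ → s₁₃ ≫ pullback.snd v v = t₃ →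
      s₁₃.appLE ⊤ ⊤ le_top θ = s₁₂.appLE ⊤ ⊤ le_top θ * s₂₃.appLE ⊤ ⊤ le_top θ := by
    intro T t₁ t₂ t₃ s₁₂ s₂₃ s₁₃ h12 h12' h23 h23' h13 h13'
    have e12 : (t₁ ≫ w) ≫ f.left = (t₂ ≫ w) ≫ f.left := by
      rw [Category.assoc, Category.assoc, ← h12, ← h12', Category.assoc, Category.assoc]
      exact congrArg (s₁₂ ≫ ·) pullback.condition
    have e23 : (t₂ ≫ w) ≫ f.left = (t₃ ≫ w) ≫ f.left := by
      rw [Category.assoc, Category.assoc, ← h23, ← h23', Category.assoc, Category.assoc]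
      exact congrArg (s₂₃ ≫ ·) pullback.condition
    let T' : Over (Spec (CommRingCat.of k)) := Over.mk ((t₁ ≫ w) ≫ A.hom)
    let a : T' ⟶ A := Over.homMk (t₁ ≫ w) rfl
    let b : T' ⟶ A := Over.homMk (t₂ ≫ w) (by
      show (t₂ ≫ w) ≫ A.hom = (t₁ ≫ w) ≫ A.hom
      rw [← Over.w f, ← Category.assoc, ← Category.assoc (t₁ ≫ w), e12])
    let c : T' ⟶ A := Over.homMk (t₃ ≫ w) (by
      show (t₃ ≫ w) ≫ A.hom = (t₁ ≫ w) ≫ A.hom
      rw [← Over.w f, ← Category.assoc, ← Category.assoc (t₁ ≫ w), e12, e23])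
    have hab : a ≫ f = b ≫ f := Over.OverMorphism.ext e12
    have hbc : b ≫ f = c ≫ f := Over.OverMorphism.ext e23
    have ha : (hat t₁ ≫ α₀).base = a.left := congrArg (t₁ ≫ ·) hb₀
    have hb : (hat t₂ ≫ α₀).base = b.left := congrArg (t₂ ≫ ·) hb₀
    have h₁ := hθ T' a b t₁ t₂ rfl rfl hab ha s₁₂ h12 h12'
    have h₂ := hθ T' b c t₂ t₃ rfl rfl hbc hb s₂₃ h23 h23'
    have h₃ := hθ T' a c t₁ t₃ rfl rfl (hab.trans hbc) ha s₁₃ h13 h13'
    rw [← mv_mv D hab hbc _ ha, mv_congr D hbc hbc rfl (mv_base D hab _ ha)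
      (show (act (X := triv T'.left) (s₁₂.appTop θ) (hat t₂ ≫ α₀)).base = b.left from hb) h₁, mv_act D hbc _ _ hb,
      h₂, act_act] at h₃
    have h₄ := act_inj (X := triv T'.left) (isIso_comp_fiber' _ _ (isIso_hat t₃) hi₀) Euler.isInvertible_structure h₃
    rw [← appTop_eq_appLE, ← appTop_eq_appLE, ← appTop_eq_appLE, mul_comm]
    exact h₄.symm
  let P : Spec Γ(B.left, U') := hU'.primeIdealOf ⟨f.left a, hsb⟩
  obtain ⟨x, hx, ⟨q, hq, hqx⟩, -⟩ := FppfPic26.exists_coboundary_near φ hφ hU'.fromSpec hv θ hθu hcoc P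
  let O : (Spec Γ(A.left, W')).Opens := (Spec Γ(A.left, W')).basicOpen x
  haveI : Flat v := inferInstanceAs (Flat (hW'.fromSpec ≫ f.left))
  haveI : LocallyOfFinitePresentation v := inferInstanceAs (LocallyOfFinitePresentation (hW'.fromSpec ≫ f.left))
  let E : B.left.Opens := ⟨v '' O, v.isOpenMap _ O.2⟩
  haveI : IsAffine O.toScheme := (isAffineOpen_top (Spec Γ(A.left, W'))).basicOpen x
  let α : triv O.toScheme ⟶ (⟨A.left, L⟩ : ModSch.{u}) :=
    act (X := triv O.toScheme) (O.ι.appTop x) (hat O.ι ≫ α₀)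
  have hxu : IsUnit (O.ι.appTop x) := by
    have h := RingedSpace.isUnit_res_basicOpen (Spec Γ(A.left, W')).toRingedSpace x
    have h2 := h.map O.topIso.inv.hom
    convert h2 using 1
    rw [Scheme.Opens.ι_appTop, Scheme.Opens.topIso_inv]
    show _ = (Spec Γ(A.left, W')).presheaf.map _ ((Spec Γ(A.left, W')).presheaf.map _ x)
    rw [← ConcreteCategory.comp_apply, ← Functor.map_comp]
    rfl
  refine ⟨O.toScheme, O.ι ≫ w, α, E, inferInstance, ⟨congrArg (O.ι ≫ ·) hb₀, ?_, ?_⟩, ?_, ?_, ?_, q, hqx, ?_⟩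
  · exact isIso_fiber_act hxu (isIso_comp_fiber' _ _ (isIso_hat _) hi₀)
  · intro T a b p q hp hq' hab hα
    let s : T.left ⟶ pullback v v := pullback.lift (p ≫ O.ι) (q ≫ O.ι) (by
      show (p ≫ O.ι) ≫ w ≫ f.left = (q ≫ O.ι) ≫ w ≫ f.left
      have e := congrArg Over.Hom.left hab
      simp only [Over.comp_left] at e
      rw [← hp, ← hq'] at e
      simpa only [Category.assoc] using e)
    have hpb : (hat (p ≫ O.ι) ≫ α₀).base = a.left := by
      show (p ≫ O.ι) ≫ α₀.base = a.left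
      rw [hb₀, Category.assoc, hp]
    have hr : ∀ r : T.left ⟶ O.toScheme, hat r ≫ α =
        act (X := triv T.left) ((r ≫ O.ι).appTop x) (hat (r ≫ O.ι) ≫ α₀) := fun r => by
      show hat r ≫ act (X := triv O.toScheme) (O.ι.appTop x) (hat O.ι ≫ α₀) = _
      rw [comp_act, ← Category.assoc, hat_comp]
      rfl
    have hθ' := hθ T a b (p ≫ O.ι) (q ≫ O.ι) (by rw [Category.assoc]; exact hp) (by rw [Category.assoc]; exact hq')
      hab hpb s (pullback.lift_fst _ _ _) (pullback.lift_snd _ _ _)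
    rw [mv_congr D hab hab rfl hα (show (act (X := triv T.left) ((p ≫ O.ι).appTop x)
      (hat (p ≫ O.ι) ≫ α₀)).base = a.left from hpb) (hr p), mv_act D hab _ _ hpb, hθ', act_act, hr q]
    refine congrArg (fun z => act (X := triv T.left) z (hat (q ≫ O.ι) ≫ α₀)) ?_
    have hx' := congrArg (s.appLE ⊤ ⊤ le_top) hx
    rw [map_mul, appLE_appLE, appLE_appLE,
      PicDescent.appLE_congr (pullback.lift_fst _ _ _) _ le_top,
      PicDescent.appLE_congr (pullback.lift_snd _ _ _) _ le_top] at hx'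
    rw [appTop_eq_appLE, appTop_eq_appLE, appTop_eq_appLE]
    exact hx'.symm
  · rw [Category.assoc]; exact inferInstanceAs (Flat (O.ι ≫ v))
  · rw [Category.assoc]; exact inferInstanceAs (LocallyOfFinitePresentation (O.ι ≫ v))
  · show Set.range (O.ι ≫ v : O.toScheme ⟶ B.left) = v '' O
    ext y
    constructor
    · rintro ⟨z, rfl⟩; exact ⟨O.ι z, z.2, rfl⟩
    · rintro ⟨z, hz, rfl⟩; exact ⟨⟨z, hz⟩, rfl⟩
  · have e : hU'.fromSpec (Spec.map φ q) = f.left a := by rw [hq, hU'.fromSpec_primeIdealOf]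
    rw [← e, ← hv]
    rfl

end GrothLib.ThetaGrp15
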