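import Groth.Agent.Lib.ThetaGrp15.InvArrow
import Groth.Agent.Lib.RLpsi8.SectionTensor

/-!
# Invariant arrows descend to the inverse images of opens of the base
-/

universe u

open CategoryTheory CategoryTheory.Limits MonoidalCategory CartesianMonoidalCategory AlgebraicGeometry Opposite
open scoped MonObj

set_option backward.isDefEq.respectTransparency false
set_option maxHeartbeats 800000

noncomputable section

namespace GrothLib.ThetaGrp15

open ThetaGrp

variable {k : Type u} [Field k] {A B N G : Over (Spec (CommRingCat.of k))} [GrpObj A] [GrpObj B] [GrpObj N] [GrpObj G]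
  {L : A.left.Modules} {f : A ⟶ B} {i : N ⟶ A} {j : N ⟶ G} {u : thetaPts A L G} [IsCommMonObj A]
  [IsProper A.hom] [IsProper B.hom]

omit [IsCommMonObj A] [IsProper A.hom] [IsProper B.hom] in
theorem isInvertible_base (hL : PicF.IsInvertible L) : PicF.IsInvertible (Y := (⟨A.left, L⟩ : ModSch.{u}).base)
    (⟨A.left, L⟩ : ModSch.{u}).fiber := hL

omit [IsCommMonObj A] [IsProper A.hom] [IsProper B.hom] in
theorem isIso_fiber_of_hat {W W' : Scheme.{u}} (r : W' ⟶ W) [Surjective r] (hL : PicF.IsInvertible L)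
    (ω : triv W ⟶ (⟨A.left, L⟩ : ModSch.{u})) (h : IsIso (hat r ≫ ω).fiber) : IsIso ω.fiber := by
  rw [Pseudofunctor.CoGrothendieck.categoryStruct_comp_fiber] at h
  haveI := isIso_hat r
  haveI := IsIso.of_isIso_comp_left (hat r).fiber ((modPF.{u}.map (hat r).base.op.toLoc).toFunctor.map ω.fiber ≫
    (modPF.{u}.mapComp ω.base.op.toLoc (hat r).base.op.toLoc).inv.toNatTrans.app L)
  haveI h' : IsIso ((Scheme.Modules.pullback r).map ω.fiber) :=
    IsIso.of_isIso_comp_right ((modPF.{u}.map (hat r).base.op.toLoc).toFunctor.map ω.fiber)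
      ((modPF.{u}.mapComp ω.base.op.toLoc (hat r).base.op.toLoc).inv.toNatTrans.app L)
  refine RLpsi8.isIso_of_genLocus_eq_top (Ample.isInvertible_pullback ω.base hL) ω.fiber ?_
  have h2 := (RLpsi8.isIso_pullback_map_iff r (Ample.isInvertible_pullback ω.base hL) ω.fiber).1 h'
  refine top_le_iff.1 fun z _ => ?_
  obtain ⟨z', rfl⟩ := r.surjective z
  exact h2.ge (show z' ∈ (⊤ : W'.Opens) from trivial)

omit [IsProper A.hom] [IsProper B.hom] in
theorem exists_descend_inv (D : KerLift f i j u) (hL : PicF.IsInvertible L) {O : Scheme.{u}} [IsAffine O]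
    [QuasiSeparatedSpace B.left]
    (x : O ⟶ A.left) (α : triv O ⟶ (⟨A.left, L⟩ : ModSch.{u})) (hα : IsInv D x α) [Flat (x ≫ f.left)]
    {E : B.left.Opens} (hE : Set.range (x ≫ f.left) = E) :
    ∃ ω : triv (f.left ⁻¹ᵁ E).toScheme ⟶ (⟨A.left, L⟩ : ModSch.{u}), IsInv D (f.left ⁻¹ᵁ E).ι ω := by
  let V := f.left ⁻¹ᵁ E
  let vO : O ⟶ B.left := x ≫ f.left
  let vV : V.toScheme ⟶ B.left := V.ι ≫ f.left
  haveI : QuasiCompact vO := quasiCompact_of_compactSpace vO
  haveI : Flat vO := ‹_›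
  let r₁ : pullback vV vO ⟶ V.toScheme := pullback.fst vV vO
  let r₂ : pullback vV vO ⟶ O := pullback.snd vV vO
  haveI : Flat r₁ := MorphismProperty.pullback_fst vV vO ‹Flat vO›
  haveI : QuasiCompact r₁ := MorphismProperty.pullback_fst vV vO ‹QuasiCompact vO›
  haveI : Surjective r₁ := ⟨fun z => by
    obtain ⟨o, ho⟩ : vV z ∈ Set.range vO := by
      rw [show Set.range vO = (E : Set B.left) from hE]; exact z.2
    obtain ⟨q, hq, -⟩ := Scheme.Pullback.exists_preimage_pullback (f := vV) (g := vO) z o ho.symm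
    exact ⟨q, hq⟩⟩
  let Q : Over (Spec (CommRingCat.of k)) := Over.mk ((r₂ ≫ x) ≫ A.hom)
  have hc : (r₂ ≫ x) ≫ f.left = (r₁ ≫ V.ι) ≫ f.left := by
    rw [Category.assoc, Category.assoc]; exact pullback.condition.symm
  let a : Q ⟶ A := Over.homMk (r₂ ≫ x) rfl
  let b : Q ⟶ A := Over.homMk (r₁ ≫ V.ι) (by
    show (r₁ ≫ V.ι) ≫ A.hom = (r₂ ≫ x) ≫ A.hom
    rw [← Over.w f, ← Category.assoc, ← Category.assoc (r₂ ≫ x), hc])
  have hab : a ≫ f = b ≫ f := Over.OverMorphism.ext hc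
  have hab₀ : (hat r₂ ≫ α).base = a.left := congrArg (r₂ ≫ ·) hα.base
  let φ := mv D hab (hat r₂ ≫ α) hab₀
  have hφb : φ.base = r₁ ≫ V.ι := mv_base D hab _ hab₀
  have hφi : IsIso φ.fiber := isIso_mv_fiber D hab _ hab₀ (isIso_comp_fiber' _ _ (isIso_hat _) hα.iso)
  -- the value of `φ` along a point of `Q`
  have hev : ∀ (T : Over (Spec (CommRingCat.of k))) (s : T.left ⟶ pullback vV vO) (c d : T ⟶ A)
      (hc' : (hat (s ≫ r₂) ≫ α).base = c.left) (_ : (s ≫ r₁) ≫ V.ι = d.left) (h : c ≫ f = d ≫ f),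
      hat s ≫ φ = mv D h (hat (s ≫ r₂) ≫ α) hc' := by
    intro T s c d hc' hd h
    have hcb : (s ≫ r₂) ≫ x = c.left := (congrArg ((s ≫ r₂) ≫ ·) hα.base).symm.trans hc'
    let g : T ⟶ Q := Over.homMk s (by
      show s ≫ (r₂ ≫ x) ≫ A.hom = T.hom
      rw [← Category.assoc, ← Category.assoc, hcb, Over.w c])
    have ha : g ≫ a = c := Over.OverMorphism.ext (by
      show s ≫ r₂ ≫ x = c.left
      rw [← Category.assoc, hcb])
    have hb : g ≫ b = d := Over.OverMorphism.ext (by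
      show s ≫ r₁ ≫ V.ι = d.left
      rw [← Category.assoc, hd])
    have e : hat g.left ≫ hat r₂ ≫ α = hat (s ≫ r₂) ≫ α := by
      rw [← Category.assoc, hat_comp]; rfl
    have hα' : (hat g.left ≫ hat r₂ ≫ α).base = c.left := by rw [e]; exact hc'
    exact (mv_natural D g hab h ha hb (hat r₂ ≫ α) hab₀ hα').trans (mv_congr D h h rfl hα' hc' e)
  have hagree : ∀ (T : Scheme.{u}) (s t : T ⟶ pullback vV vO), s ≫ r₁ = t ≫ r₁ → hat s ≫ φ = hat t ≫ φ := by
    intro T s t hst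
    let T' : Over (Spec (CommRingCat.of k)) := Over.mk (((s ≫ r₁) ≫ V.ι) ≫ A.hom)
    have hw : ∀ (r : T ⟶ pullback vV vO), r ≫ r₁ = s ≫ r₁ →
        ((r ≫ r₂) ≫ x) ≫ f.left = ((s ≫ r₁) ≫ V.ι) ≫ f.left := fun r hr => by
      rw [← hr]; simp only [Category.assoc]; exact congrArg (r ≫ ·) pullback.condition.symm
    have hwA : ∀ (r : T ⟶ pullback vV vO), r ≫ r₁ = s ≫ r₁ →
        ((r ≫ r₂) ≫ x) ≫ A.hom = ((s ≫ r₁) ≫ V.ι) ≫ A.hom := fun r hr => by
      rw [← Over.w f, ← Category.assoc, hw r hr, Category.assoc]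
    let c₁ : T' ⟶ A := Over.homMk ((s ≫ r₂) ≫ x) (hwA s rfl)
    let c₂ : T' ⟶ A := Over.homMk ((t ≫ r₂) ≫ x) (hwA t hst.symm)
    let d : T' ⟶ A := Over.homMk ((s ≫ r₁) ≫ V.ι) rfl
    have h₁ : c₁ ≫ f = d ≫ f := Over.OverMorphism.ext (hw s rfl)
    have h₂ : c₂ ≫ f = d ≫ f := Over.OverMorphism.ext (hw t hst.symm)
    have hb₁ : (hat (s ≫ r₂) ≫ α).base = c₁.left := congrArg ((s ≫ r₂) ≫ ·) hα.base
    have hb₂ : (hat (t ≫ r₂) ≫ α).base = c₂.left := congrArg ((t ≫ r₂) ≫ ·) hα.base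
    have h₃ : c₂ ≫ f = c₁ ≫ f := h₂.trans h₁.symm
    rw [hev T' s c₁ d hb₁ rfl h₁, hev T' t c₂ d hb₂ (by rw [← hst]; rfl) h₂,
      ← mv_congr D h₁ h₁ rfl (mv_base D h₃ _ hb₂) hb₁ (hα.inv T' c₂ c₁ (t ≫ r₂) (s ≫ r₂) rfl rfl h₃ hb₂)]
    exact mv_mv D h₃ h₁ _ hb₂
  haveI : Flat (hat r₁).base := ‹Flat r₁›
  haveI : Surjective (hat r₁).base := ‹Surjective r₁›
  haveI : QuasiCompact (hat r₁).base := ‹QuasiCompact r₁›
  obtain ⟨ω, hωb, hω⟩ := exists_arrow_descend (X := triv (pullback vV vO)) (Y := triv V.toScheme) (hat r₁)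
    (isIso_hat r₁) (isInvertible_base hL) φ V.ι hφb.symm fun W p q hp hq hpq => by
      obtain ⟨g, hgb, hg⟩ := exists_lift (hat p.base) (isIso_hat _) p (𝟙 _) (Category.id_comp _)
      obtain ⟨g', hgb', hg'⟩ := exists_lift (hat q.base) (isIso_hat _) q (𝟙 _) (Category.id_comp _)
      have hb : p.base ≫ r₁ = q.base ≫ r₁ := congrArg (·.base) hpq
      have hgg : g = g' := by
        refine lift_unique (hat (p.base ≫ r₁)) (isIso_hat _) _ _ (hgb.trans hgb'.symm) ?_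
        rw [← hat_comp, ← Category.assoc, hg]
        conv_rhs => rw [hat_comp, hb, ← hat_comp, ← Category.assoc, hg']
        exact hpq
      rw [← hg, ← hg', hgg, Category.assoc, Category.assoc, hagree W.base p.base q.base hb]
  have hωi : IsIso ω.fiber := isIso_fiber_of_hat r₁ hL ω (hω.symm ▸ hφi)
  refine ⟨ω, hωb, hωi, fun T c d p q hp hq h hcb => ?_⟩
  -- verify after a covering of `T`
  let h₀ : pullback (p : T.left ⟶ V.toScheme) r₁ ⟶ T.left := pullback.fst p r₁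
  let s : pullback (p : T.left ⟶ V.toScheme) r₁ ⟶ pullback vV vO := pullback.snd p r₁
  haveI : Flat h₀ := MorphismProperty.pullback_fst p r₁ ‹Flat r₁›
  haveI : QuasiCompact h₀ := MorphismProperty.pullback_fst p r₁ ‹QuasiCompact r₁›
  haveI : Surjective h₀ := MorphismProperty.pullback_fst p r₁ ‹Surjective r₁›
  have hs : s ≫ r₁ = h₀ ≫ p := pullback.condition.symm
  have hpq : ((h₀ ≫ q) ≫ V.ι) ≫ f.left = (s ≫ r₂) ≫ x ≫ f.left := by
    have e := congrArg Over.Hom.left h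
    simp only [Over.comp_left] at e
    rw [Category.assoc h₀, hq, Category.assoc, ← e, ← hp, ← Category.assoc, ← Category.assoc h₀, ← hs]
    simp only [Category.assoc]
    exact congrArg (s ≫ ·) pullback.condition
  let s' : pullback (p : T.left ⟶ V.toScheme) r₁ ⟶ pullback vV vO := pullback.lift (h₀ ≫ q) (s ≫ r₂) (by
    simpa only [Category.assoc] using hpq)
  have hs' : s' ≫ r₁ = h₀ ≫ q := pullback.lift_fst _ _ _
  have hs'' : s' ≫ r₂ = s ≫ r₂ := pullback.lift_snd _ _ _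
  let T' : Over (Spec (CommRingCat.of k)) := Over.mk (h₀ ≫ T.hom)
  let g : T' ⟶ T := Over.homMk h₀ rfl
  let e₀ : T' ⟶ A := Over.homMk ((s ≫ r₂) ≫ x) (by
    show ((s ≫ r₂) ≫ x) ≫ A.hom = h₀ ≫ T.hom
    rw [← Over.w f, ← Category.assoc, Category.assoc (s ≫ r₂), ← hpq, Category.assoc, Over.w f, Category.assoc h₀,
      hq, Category.assoc, Over.w d])
  have he₀ : (hat (s ≫ r₂) ≫ α).base = e₀.left := congrArg ((s ≫ r₂) ≫ ·) hα.base
  have hec : e₀ ≫ f = (g ≫ c) ≫ f := Over.OverMorphism.ext (by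
    show ((s ≫ r₂) ≫ x) ≫ f.left = (h₀ ≫ c.left) ≫ f.left
    rw [Category.assoc, ← hpq, ← hp, ← Category.assoc h₀, ← hs]
    simp only [Category.assoc]
    have e := congrArg Over.Hom.left h
    simp only [Over.comp_left] at e
    rw [← hp, ← hq] at e
    simp only [Category.assoc] at e
    rw [← Category.assoc s r₁, hs, Category.assoc, e])
  have hcd : (g ≫ c) ≫ f = (g ≫ d) ≫ f := by rw [Category.assoc, Category.assoc, h]
  have hed : e₀ ≫ f = (g ≫ d) ≫ f := hec.trans hcd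
  have h₁ : hat h₀ ≫ hat p ≫ ω = mv D hec (hat (s ≫ r₂) ≫ α) he₀ := by
    rw [← Category.assoc, hat_comp, ← hs, ← hat_comp, Category.assoc, hω]
    exact hev T' s e₀ (g ≫ c) he₀ (by rw [hs, Category.assoc, hp]; rfl) hec
  have h₂ : hat h₀ ≫ hat q ≫ ω = mv D hed (hat (s ≫ r₂) ≫ α) he₀ := by
    rw [← Category.assoc, hat_comp, ← hs', ← hat_comp, Category.assoc, hω]
    have hb' : (hat (s' ≫ r₂) ≫ α).base = e₀.left := by rw [hs'']; exact he₀
    rw [hev T' s' e₀ (g ≫ d) hb' (by rw [hs', Category.assoc, hq]; rfl) hed]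
    exact mv_congr D hed hed rfl hb' he₀ (by rw [hs''])
  haveI : Flat (hat h₀).base := ‹Flat h₀›
  haveI : Surjective (hat h₀).base := ‹Surjective h₀›
  haveI : QuasiCompact (hat h₀).base := ‹QuasiCompact h₀›
  refine arrow_epi (X := triv T'.left) (Y := triv T.left) (hat h₀) (isIso_hat h₀) (isInvertible_base hL) _ _ ?_ ?_
  · rw [mv_base D h _ hcb]
    exact hq.symm.trans (congrArg (q ≫ ·) hωb).symm
  · have hb₃ : (hat g.left ≫ hat p ≫ ω).base = (g ≫ c).left := congrArg (h₀ ≫ ·) hcb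
    have hn := mv_natural D g h hcd rfl rfl (hat p ≫ ω) hcb hb₃
    refine hn.trans ?_
    rw [h₂, mv_congr D hcd hcd rfl hb₃ (mv_base D hec _ he₀) h₁, mv_mv D hec hcd]

end GrothLib.ThetaGrp15
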