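import Groth.Agent.Lib.ThetaGrp15.Pullback

/-!
# Commutators are preserved by pullback along a homomorphism
-/

universe u

open CategoryTheory CategoryTheory.Limits MonoidalCategory CartesianMonoidalCategory AlgebraicGeometry Opposite
open scoped MonObj

set_option backward.isDefEq.respectTransparency false
set_option maxHeartbeats 400000

noncomputable section

namespace GrothLib.ThetaGrp15

open ThetaGrp

variable {k : Type u} [Field k] {A B : Over (Spec (CommRingCat.of k))} [GrpObj A] [GrpObj B]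
  [IsProper A.hom] [GeometricallyIntegral A.hom] [IsProper B.hom] [GeometricallyIntegral B.hom]
  [IsCommMonObj A] [IsCommMonObj B]
  {M : B.left.Modules} {T : Over (Spec (CommRingCat.of k))} {f : A ⟶ B} [IsMonHom f]

theorem isCommPts_pullback {x y : T ⟶ A} {c : Γ(T.left, ⊤)} (h : IsCommPts M (x ≫ f) (y ≫ f) c) :
    IsCommPts ((Scheme.Modules.pullback f.left).obj M) x y c := by
  obtain ⟨δ₁, δ₂, h₁, h₂, hc⟩ := h
  let e := Iso.refl ((Scheme.Modules.pullback f.left).obj M)
  obtain ⟨q, hqb, hq⟩ := exists_qArr e T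
  have hfib := isIso_qArr_fiber e hq
  obtain ⟨β₁, b₁, e₁⟩ := exists_pull e hqb hq δ₁ h₁
  obtain ⟨β₂, b₂, e₂⟩ := exists_pull e hqb hq δ₂ h₂
  refine ⟨β₁, β₂, b₁, b₂, lift_unique _ hfib _ _ ?_ ?_⟩
  · rw [act_base, Pseudofunctor.CoGrothendieck.categoryStruct_comp_base,
      Pseudofunctor.CoGrothendieck.categoryStruct_comp_base, b₁, b₂, ← Over.comp_left, ← Over.comp_left,
      ← transl_mul, ← transl_mul]
    congr 2
    exact Cube.hom_mul_comm y x
  · rw [act_comp, Category.assoc, e₁, ← Category.assoc, e₂, Category.assoc,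
      show δ₂.1.hom ≫ δ₁.1.hom = _ from hc, comp_act, Category.assoc β₁.1.hom, e₂, ← Category.assoc β₁.1.hom, e₁,
      Category.assoc]
    congr 1
    rw [hqb]
    show (f ▷ T).left.appTop ((snd B T).left.appTop c) = (snd A T).left.appTop c
    rw [← ConcreteCategory.comp_apply, ← Scheme.Hom.comp_appTop, ← Over.comp_left, whiskerRight_snd]

theorem isIsotropic_comp_iff (hM : PicF.IsInvertible M) {K : Over (Spec (CommRingCat.of k))} {iK : K ⟶ B}
    (hK : IsKL B M iK) {H : Over (Spec (CommRingCat.of k))} (iH : H ⟶ A) (hH : ∃ y : H ⟶ K, y ≫ iK = iH ≫ f) :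
    IsIsotropic M (iH ≫ f) ↔ IsIsotropic ((Scheme.Modules.pullback f.left).obj M) iH := by
  have hL : PicF.IsInvertible ((Scheme.Modules.pullback f.left).obj M) := Ample.isInvertible_pullback f.left hM
  constructor
  · intro hiso T x y β₁ β₂ h₁ h₂
    obtain ⟨c, hc⟩ := exists_isComm hL β₁ β₂
    refine (commute_iff hL hc).2 ?_
    obtain ⟨z, hz⟩ := hH
    have hloc : ∀ t : T.left, ∃ W : T.left.Opens, t ∈ W ∧ W.ι.appTop c = 1 := fun t => by
      obtain ⟨U, htU, u, hu⟩ := (factors_iff_locally_lift hM hK (x ≫ iH ≫ f)).1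
        ⟨x ≫ z, by rw [Category.assoc, hz]⟩ t
      obtain ⟨V, htV, v, hv⟩ := (factors_iff_locally_lift hM hK (y ≫ iH ≫ f)).1
        ⟨y ≫ z, by rw [Category.assoc, hz]⟩ t
      let W := U ⊓ V
      let gU : opn T W ⟶ opn T U := Over.homMk (T.left.homOfLE inf_le_left) (by simp [← Category.assoc])
      let gV : opn T W ⟶ opn T V := Over.homMk (T.left.homOfLE inf_le_right) (by simp [← Category.assoc])
      have hU : ∀ q : T ⟶ B, gU ≫ inc T U ≫ q = inc T W ≫ q := fun q =>
        Over.OverMorphism.ext (Scheme.homOfLE_ι_assoc T.left (inf_le_left : U ⊓ V ≤ U) q.left)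
      have hV : ∀ q : T ⟶ B, gV ≫ inc T V ≫ q = inc T W ≫ q := fun q =>
        Over.OverMorphism.ext (Scheme.homOfLE_ι_assoc T.left (inf_le_right : U ⊓ V ≤ V) q.left)
      obtain ⟨δ₁, g₁, -⟩ := exists_baseChange gU u hu
      obtain ⟨δ₂, g₂, -⟩ := exists_baseChange gV v hv
      rw [hU] at g₁
      rw [hV] at g₂
      obtain ⟨d, hd⟩ := exists_isComm hM δ₁ δ₂
      have hd1 : d = 1 := (commute_iff hM hd).1 (hiso _ (inc T W ≫ x) (inc T W ≫ y) δ₁ δ₂
        (by rw [Category.assoc]; exact g₁) (by rw [Category.assoc]; exact g₂))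
      subst hd1
      have h3 : IsCommPts M ((inc T W ≫ x ≫ iH) ≫ f) ((inc T W ≫ y ≫ iH) ≫ f) 1 :=
        ⟨δ₁, δ₂, by simpa [Category.assoc] using g₁, by simpa [Category.assoc] using g₂, hd⟩
      exact ⟨W, ⟨htU, htV⟩, isCommPts_unique hL
        (isCommPts_pull ⟨β₁, β₂, h₁, h₂, hc⟩ (inc T W)) (isCommPts_pullback h3)⟩
    choose W htW hW using hloc
    refine T.left.sheaf.eq_of_locally_eq' W ⊤ (fun t => homOfLE le_top)
      (fun t _ => TopologicalSpace.Opens.mem_iSup.2 ⟨t, htW t⟩) c 1 fun t => ?_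
    show T.left.presheaf.map (homOfLE le_top).op c = T.left.presheaf.map (homOfLE le_top).op 1
    have h1 := congrArg (W t).topIso.hom (hW t)
    rw [map_one] at h1
    rw [map_one, ← h1, ← ConcreteCategory.comp_apply]
    refine congrArg (fun φ : Γ(T.left, ⊤) ⟶ Γ(T.left, W t) => φ c) ?_
    simp only [Scheme.Opens.ι_appTop, Scheme.Opens.topIso_hom, ← Functor.map_comp]
    rfl
  · intro hiso T x y δ₁ δ₂ h₁ h₂
    obtain ⟨c, hc⟩ := exists_isComm hM δ₁ δ₂
    refine (commute_iff hM hc).2 ?_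
    rw [← Category.assoc] at h₁ h₂
    obtain ⟨β₁, β₂, b₁, b₂, hβ⟩ := isCommPts_pullback (f := f) ⟨δ₁, δ₂, h₁, h₂, hc⟩
    exact (commute_iff hL hβ).1 (hiso T x y β₁ β₂ b₁ b₂)

end GrothLib.ThetaGrp15
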