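import Groth.Agent.Lib.ThetaGrp15.Lifts

/-!
# Factoring through `K(L)` is local, and equivalent to local lifts to the theta group
-/

universe u

open CategoryTheory CategoryTheory.Limits MonoidalCategory CartesianMonoidalCategory AlgebraicGeometry
open scoped MonObj
open GrothLib.Cube

set_option backward.isDefEq.respectTransparency false

noncomputable section

namespace GrothLib.ThetaGrp15

open ThetaGrp

variable {k : Type u} [Field k] {A : Over (Spec (CommRingCat.of k))} [GrpObj A]

theorem exists_lift_iff_pull_eq {L : A.left.Modules} {c : Pic A.left} (hc : HasCls L c)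
    {T : Over (Spec (CommRingCat.of k))} (x : T ⟶ A) :
    (∃ β : thetaPts A L T, IsOverPt β x) ↔
      pull (fst A T).left c = pull (fst A T * (snd A T ≫ x)).left c := by
  have ht : (transl A x).left ≫ (fst A T).left = (fst A T * (snd A T ≫ x)).left := by
    rw [← Over.comp_left, transl_fst]
  rw [exists_isOverPt_iff]
  have h1 := hc.pullback (fst A T).left
  have h2 : HasCls ((Scheme.Modules.pullback (fst A T * (snd A T ≫ x)).left).obj L) _ := hc.pullback _
  let e : (Scheme.Modules.pullback (transl A x).left).obj ((Scheme.Modules.pullback (fst A T).left).obj L) ≅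
      (Scheme.Modules.pullback (fst A T * (snd A T ≫ x)).left).obj L :=
    (Scheme.Modules.pullbackComp _ _).app L ≪≫ (Scheme.Modules.pullbackCongr ht).app L
  exact ⟨fun ⟨i⟩ => h1.eq h2 ⟨i ≪≫ e⟩, fun h => (h1.iso h2 h).map (fun i => i ≪≫ e.symm)⟩

theorem exists_open_pull_eq_one {T : Scheme.{u}} {M : T.Modules} {m : Pic T} (hm : HasCls M m) (t : T) :
    ∃ U : T.Opens, t ∈ U ∧ pull U.ι m = 1 := by
  obtain ⟨h, -⟩ := id hm
  obtain ⟨U, htU, ⟨e⟩⟩ := h t
  exact ⟨U, htU, (hm.pullback U.ι).eq (hasCls_structureModule _)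
    ⟨((Scheme.Modules.restrictFunctorIsoPullback U.ι).app M).symm ≪≫ e⟩⟩

theorem factors_of_locally {T K : Over (Spec (CommRingCat.of k))} (i : K ⟶ A) [Mono i.left] (x : T ⟶ A)
    (h : ∀ t : T.left, ∃ U : T.left.Opens, t ∈ U ∧
      ∃ y : Over.mk (U.ι ≫ T.hom) ⟶ K, y ≫ i = Over.homMk U.ι rfl ≫ x) :
    ∃ y : T ⟶ K, y ≫ i = x := by
  choose U htU y hy using h
  have hcov : ⨆ t, U t = ⊤ := TopologicalSpace.Opens.ext (Set.eq_univ_of_forall fun t => by
    simpa [TopologicalSpace.Opens.coe_iSup] using ⟨t, htU t⟩)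
  let 𝒰 := T.left.openCoverOfIsOpenCover U hcov
  have hyl : ∀ t, (y t).left ≫ i.left = (U t).ι ≫ x.left := fun t => by
    simpa using congrArg Over.Hom.left (hy t)
  let g : T.left ⟶ K.left := 𝒰.glueMorphisms (fun t => (y t).left) fun a b => by
    rw [← cancel_mono i.left, Category.assoc, Category.assoc, hyl, hyl, ← Category.assoc, ← Category.assoc]
    exact congrArg (· ≫ x.left) pullback.condition
  have hg : g ≫ i.left = x.left := 𝒰.hom_ext _ _ fun t => by
    rw [← Category.assoc, Scheme.Cover.ι_glueMorphisms]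
    exact hyl t
  refine ⟨Over.homMk g ?_, Over.OverMorphism.ext hg⟩
  rw [← Over.w i, ← Category.assoc, hg, Over.w x]

theorem factors_iff_locally_lift [IsProper A.hom] [GeometricallyIntegral A.hom] {L : A.left.Modules}
    (hL : PicF.IsInvertible L) {K : Over (Spec (CommRingCat.of k))} {i : K ⟶ A} (hK : IsKL A L i)
    {T : Over (Spec (CommRingCat.of k))} (x : T ⟶ A) :
    (∃ y : T ⟶ K, y ≫ i = x) ↔
      ∀ t : ↥T.left, ∃ U : T.left.Opens, t ∈ U ∧
        ∃ β : thetaPts A L (Over.mk (U.ι ≫ T.hom)),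
          IsOverPt β ((Over.homMk U.ι rfl : Over.mk (U.ι ≫ T.hom) ⟶ T) ≫ x) := by
  have hc := hasCls_clsMod hL
  constructor
  · intro hy t
    obtain ⟨U, htU, hU⟩ := exists_open_pull_eq_one (hc.pullback x.left) t
    refine ⟨U, htU, (exists_lift_iff_pull_eq hc _).2 ?_⟩
    let σ : Over.mk (U.ι ≫ T.hom) ⟶ T := Over.homMk U.ι rfl
    have h := KL.translate_of_eq (clsMod hL) (σ ≫ x)
      ((KL.factors_iff hc hK _).1 (hy.elim fun y e => ⟨σ ≫ y, by rw [Category.assoc, e]⟩))
    have h1 : pull (σ ≫ x).left (clsMod hL) = 1 := by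
      rw [← pull_pull_over]; exact hU
    rwa [h1, map_one, _root_.mul_one] at h
  · intro h
    haveI := hK.closed
    refine factors_of_locally i x fun t => ?_
    obtain ⟨U, htU, hβ⟩ := h t
    refine ⟨U, htU, (KL.factors_iff hc hK _).2 (KL.eq_of_translate _ _ 1 ?_).2⟩
    rw [map_one, _root_.mul_one]
    exact (exists_lift_iff_pull_eq hc _).1 hβ

end GrothLib.ThetaGrp15
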