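import Groth.Agent.S7817
import Groth.Agent.Lib.ThetaGrp15.Local
import Groth.Agent.Lib.Cube.SeesawPic

/-!
# The locus of `K(L)` as an immersed subscheme
-/

universe u

open CategoryTheory CategoryTheory.Limits MonoidalCategory CartesianMonoidalCategory AlgebraicGeometry
open scoped MonObj
open GrothLib.Cube

set_option backward.isDefEq.respectTransparency false
set_option maxHeartbeats 400000

noncomputable section

namespace GrothLib.ThetaGrp15

open ThetaGrp

variable {k : Type u} [Field k] {A : Over (Spec (CommRingCat.of k))} [GrpObj A] [IsProper A.hom]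
  [GeometricallyIntegral A.hom]

/-- The points along which the Mumford class vanishes are those of an immersed subscheme. -/
theorem exists_mcLocus (c : Pic A.left) :
    ∃ (K : Over (Spec (CommRingCat.of k))) (i : K ⟶ A), IsImmersion i.left ∧
      ∀ (T : Over (Spec (CommRingCat.of k))) (z : T ⟶ A), (∃ y : T ⟶ K, y ≫ i = z) ↔ KL.mc c z = 1 := by
  obtain ⟨c₀, hc₀⟩ := Quotient.exists_rep (addClass (fst A A) (snd A A) c)
  have hE : HasCls (c₀.twist 1) (addClass (fst A A) (snd A A) c) :=
    ⟨c₀.isInvertible_twist 1, (clsMod_eq (c₀.isInvertible_twist 1) (Iso.refl _)).trans hc₀⟩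
  haveI := isProper_snd_left A A
  haveI := flat_snd_left A A
  haveI : IsNoetherianRing (CommRingCat.of k) := inferInstanceAs (IsNoetherianRing k)
  haveI : LocallyOfFinitePresentation (snd A A).left :=
    inferInstanceAs (LocallyOfFinitePresentation (pullback.snd A.hom A.hom))
  haveI : GeometricallyIntegral (snd A A).left :=
    inferInstanceAs (GeometricallyIntegral (pullback.snd A.hom A.hom))
  haveI : GeometricallyConnected (snd A A).left :=
    ⟨fun K _ y Z a b h =>
      haveI : IrreducibleSpace Z := GeometricallyIrreducible.geometrically_irreducibleSpace _ _ _ h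
      inferInstance⟩
  obtain ⟨Z, j0, hj0, -, -, huniv, -⟩ := Groth.Agent.S7817.result (snd A A).left (c₀.twist 1)
    (Euler.isFinLocFree_of_isInvertible (c₀.isInvertible_twist 1))
  refine ⟨Over.mk (j0 ≫ A.hom), Over.homMk j0 rfl, hj0, fun T z => ?_⟩
  let e := (isPullback_whiskerLeft_left A z).isoPullback
  have he1 : e.hom ≫ pullback.fst (snd A A).left z.left = (A ◁ z).left := IsPullback.isoPullback_hom_fst _
  have he2 : e.hom ≫ pullback.snd (snd A A).left z.left = (snd A T).left := IsPullback.isoPullback_hom_snd _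
  have hmc : pull (A ◁ z).left (addClass (fst A A) (snd A A) c) = KL.mc c z := by
    rw [KL.mc, pull_addClass, whiskerLeft_fst, whiskerLeft_snd]
  have hf : (∃ y : T ⟶ Over.mk (j0 ≫ A.hom), y ≫ (Over.homMk j0 rfl : Over.mk (j0 ≫ A.hom) ⟶ A) = z) ↔
      ∃ u' : T.left ⟶ Z, u' ≫ j0 = z.left :=
    ⟨fun ⟨y, hy⟩ => ⟨y.left, congrArg Over.Hom.left hy⟩, fun ⟨v, hv⟩ =>
      ⟨Over.homMk v (by show v ≫ j0 ≫ A.hom = T.hom; rw [← Category.assoc, hv, Over.w z]), Over.OverMorphism.ext hv⟩⟩
  rw [hf, huniv T.left z.left]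
  constructor
  · rintro ⟨M, -, ⟨φ⟩⟩
    let a : (Scheme.Modules.pullback (A ◁ z).left).obj (c₀.twist 1) ≅
        (Scheme.Modules.pullback (snd A T).left).obj M :=
      (Scheme.Modules.pullbackCongr he1.symm).app _ ≪≫ (Scheme.Modules.pullbackComp _ _).symm.app _ ≪≫
        (Scheme.Modules.pullback e.hom).mapIso φ ≪≫ (Scheme.Modules.pullbackComp _ _).app _ ≪≫
        (Scheme.Modules.pullbackCongr he2).app _
    let sec : T.left ⟶ (A ⊗ T).left := (lift (1 : T ⟶ A) (𝟙 T)).left
    have hsec : sec ≫ (snd A T).left = 𝟙 T.left := by rw [← Over.comp_left, lift_snd, Over.id_left]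
    let b : (Scheme.Modules.pullback sec).obj ((Scheme.Modules.pullback (A ◁ z).left).obj (c₀.twist 1)) ≅ M :=
      (Scheme.Modules.pullback sec).mapIso a ≪≫ (Scheme.Modules.pullbackComp _ _).app _ ≪≫
        (Scheme.Modules.pullbackCongr hsec).app _ ≪≫ (Scheme.Modules.pullbackId _).app _
    have h1 := (hE.pullback (A ◁ z).left).pullback sec
    rw [hmc, KL.pull_sec_mc] at h1
    obtain ⟨hM', -⟩ := id h1
    have hM : PicF.IsInvertible M := ParaPair.isInvertible_of_iso b.symm hM'
    have hM1 : HasCls M 1 := by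
      have h2 := h1.eq (hasCls_clsMod hM) ⟨b⟩
      rw [h2]
      exact hasCls_clsMod hM
    have h3 := (hE.pullback (A ◁ z).left).eq (hM1.pullback (snd A T).left) ⟨a⟩
    rwa [hmc, map_one] at h3
  · intro h
    refine ⟨Coh.structureModule T.left, Euler.isFinLocFree_of_isInvertible Euler.isInvertible_structure, ?_⟩
    refine (hE.pullback _).iso ((hasCls_structureModule T.left).pullback _) ?_
    rw [map_one, ← (Iso.inv_comp_eq e).2 he1.symm, ← pull_comp, hmc, h, map_one]

omit [IsProper A.hom] [GeometricallyIntegral A.hom] in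
/-- Factoring through the locus is local, and equivalent to local lifts to the theta group. -/
theorem mcLocus_iff_locally_lift {L : A.left.Modules} (hL : PicF.IsInvertible L)
    {K : Over (Spec (CommRingCat.of k))} {i : K ⟶ A} [Mono i.left]
    (hK : ∀ (T : Over (Spec (CommRingCat.of k))) (z : T ⟶ A),
      (∃ y : T ⟶ K, y ≫ i = z) ↔ KL.mc (clsMod hL) z = 1)
    {T : Over (Spec (CommRingCat.of k))} (x : T ⟶ A) :
    (∃ y : T ⟶ K, y ≫ i = x) ↔
      ∀ t : ↥T.left, ∃ U : T.left.Opens, t ∈ U ∧
        ∃ β : thetaPts A L (Over.mk (U.ι ≫ T.hom)),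
          IsOverPt β ((Over.homMk U.ι rfl : Over.mk (U.ι ≫ T.hom) ⟶ T) ≫ x) := by
  have hc := hasCls_clsMod hL
  constructor
  · intro hy t
    obtain ⟨U, htU, hU⟩ := exists_open_pull_eq_one (hc.pullback x.left) t
    refine ⟨U, htU, (exists_lift_iff_pull_eq hc _).2 ?_⟩
    let σ : Over.mk (U.ι ≫ T.hom) ⟶ T := Over.homMk U.ι rfl
    have h := KL.translate_of_eq (clsMod hL) (σ ≫ x)
      ((hK _ _).1 (hy.elim fun y e => ⟨σ ≫ y, by rw [Category.assoc, e]⟩))
    have h1 : pull (σ ≫ x).left (clsMod hL) = 1 := by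
      rw [← pull_pull_over]; exact hU
    rwa [h1, map_one, _root_.mul_one] at h
  · intro h
    refine factors_of_locally i x fun t => ?_
    obtain ⟨U, htU, hβ⟩ := h t
    refine ⟨U, htU, (hK _ _).2 (KL.eq_of_translate _ _ 1 ?_).2⟩
    rw [map_one, _root_.mul_one]
    exact (exists_lift_iff_pull_eq hc _).1 hβ

end GrothLib.ThetaGrp15
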