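import Groth.Agent.Lib.ThetaGrp15.Split
import Groth.Agent.Lib.ThetaGrp15.Isotropic
import Groth.Agent.Lib.ThetaGrp15.Descent

/-!
# Descent along an isogeny and isotropy of its kernel
-/

universe u

open CategoryTheory CategoryTheory.Limits MonoidalCategory CartesianMonoidalCategory AlgebraicGeometry Opposite
open scoped MonObj

set_option backward.isDefEq.respectTransparency false
set_option maxHeartbeats 800000

noncomputable section

namespace GrothLib.ThetaGrp15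

open ThetaGrp

variable {k : Type u} [Field k] {A B N K : Over (Spec (CommRingCat.of k))} [GrpObj A] [GrpObj B] [GrpObj N]
  [IsProper A.hom] [GeometricallyIntegral A.hom] [IsCommMonObj A] {L : A.left.Modules} {M : B.left.Modules}
  {f : A ⟶ B} [IsMonHom f] {i : N ⟶ A} {iK : K ⟶ A}

theorem kernel_of_descent (e : (Scheme.Modules.pullback f.left).obj M ≅ L) (hN : AlgGrp.IsKernel i f)
    (hL : PicF.IsInvertible L) (hK : IsKL A L iK) : (∃ y : N ⟶ K, y ≫ iK = i) ∧ IsIsotropic L i := by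
  have hker : ∀ {T : Over (Spec (CommRingCat.of k))} (n : T ⟶ N), (n ≫ i) ≫ f = 1 := fun n => by
    rw [Category.assoc, show i ≫ f = toUnit N ≫ η[B] from hN.w, ← Category.assoc, comp_toUnit]
    rfl
  refine ⟨(factors_iff_locally_lift hL hK i).2 fun t => ⟨⊤, trivial, ?_⟩, fun T x y β₁ β₂ h₁ h₂ => ?_⟩
  · obtain ⟨β, hβ⟩ := exists_isCanon e (hker (Over.homMk (Scheme.Opens.ι (⊤ : N.left.Opens)) rfl :
      Over.mk (Scheme.Opens.ι (⊤ : N.left.Opens) ≫ N.hom) ⟶ N))
    exact ⟨β, hβ.1⟩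
  · obtain ⟨b₁, hb₁⟩ := exists_isCanon e (hker x)
    obtain ⟨b₂, hb₂⟩ := exists_isCanon e (hker y)
    obtain ⟨c, hc⟩ := exists_isComm hL β₁ β₂
    obtain ⟨d, hd⟩ := exists_isComm hL b₁ b₂
    have hd1 : d = 1 := (commute_iff hL hd).1 (isCanon_unique e
      (Cube.hom_mul_comm (x ≫ i) (y ≫ i) ▸ isCanon_mul e hb₁ hb₂) (isCanon_mul e hb₂ hb₁))
    subst hd1
    exact (commute_iff hL hc).2
      (isCommPts_unique hL ⟨β₁, β₂, h₁, h₂, hc⟩ ⟨b₁, b₂, hb₁.1, hb₂.1, hd⟩)

end GrothLib.ThetaGrp15
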