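import Groth.Agent.Lib.ThetaGrp15.Repr
import Groth.Agent.Lib.ThetaGrp15.Descent
import Groth.Agent.Lib.AlgGrp14.Core
import Groth.Agent.Lib.TateThm.QuotFin

/-!
# The quotient by a level subgroup, and descent to it
-/

universe u

open CategoryTheory CategoryTheory.Limits MonoidalCategory CartesianMonoidalCategory AlgebraicGeometry Opposite
open scoped MonObj

set_option backward.isDefEq.respectTransparency false
set_option maxHeartbeats 800000

noncomputable section

namespace GrothLib.ThetaGrp15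

open ThetaGrp

variable {k : Type u} [Field k] {A G : Over (Spec (CommRingCat.of k))} [GrpObj A] [IsProper A.hom]
  [GeometricallyIntegral A.hom] [GrpObj G] {L : A.left.Modules} {u : thetaPts A L G}

theorem isBaseChange_refl_comp {G' : Over (Spec (CommRingCat.of k))} {u' : thetaPts A L G'} {φ : G ⟶ G'} {ψ : G' ⟶ G}
    (hφ : IsBaseChange u φ u') (hψ : IsBaseChange u' ψ u) : IsBaseChange u (φ ≫ ψ) u :=
  isBaseChange_comp hφ hψ

theorem finite_of_rep (hL : PicF.IsInvertible L) (hG : IsThetaGrpSch A L G u) :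
    LocallyOfFiniteType G.hom ∧ CompactSpace G.left := by
  obtain ⟨e0, he, hei⟩ := exists_e0 (A := A) hL
  obtain ⟨G', u', ⟨hl, hc⟩, huniv, -⟩ := exists_representing he hL hei
  obtain ⟨φ, hφ, -⟩ := huniv G u
  obtain ⟨ψ, hψ, -⟩ := hG.univ G' u'
  have h1 : φ ≫ ψ = 𝟙 G := (hG.univ G u).unique (isBaseChange_comp hφ hψ) (isBaseChange_id u)
  have h2 : ψ ≫ φ = 𝟙 G' := (huniv G' u').unique (isBaseChange_comp hψ hφ) (isBaseChange_id u')
  haveI : IsIso φ.left := ⟨ψ.left, congrArg Over.Hom.left h1, congrArg Over.Hom.left h2⟩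
  haveI := hl
  haveI := hc
  refine ⟨?_, (φ.left.homeomorph).symm.compactSpace⟩
  rw [← Over.w φ]
  infer_instance

theorem exists_levelQuot (hL : PicF.IsInvertible L) (hG : IsThetaGrpSch A L G u)
    {H : Over (Spec (CommRingCat.of k))} [GrpObj H] (j : H ⟶ G) (hj : IsLevelSubgrp u j) (iH : H ⟶ A)
    (hover : ∀ (T : Over (Spec (CommRingCat.of k))) (h : T ⟶ H) (β : thetaPts A L T),
      IsBaseChange β (h ≫ j) u → IsOverPt β (h ≫ iH)) :
    ∃ (B : Over (Spec (CommRingCat.of k))) (_ : GrpObj B) (f : A ⟶ B),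
      IsProper B.hom ∧ GeometricallyIntegral B.hom ∧ IsMonHom f ∧ Surjective f.left ∧
      AlgGrp.IsKernel iH f ∧
      ∃ M : B.left.Modules, PicF.IsInvertible M ∧ Nonempty ((Scheme.Modules.pullback f.left).obj M ≅ L) := by
  haveI : IsCommMonObj A := GrothLib.Cube.isCommMonObj_abVar
  obtain ⟨hji, hjh, hjl⟩ := hj
  haveI := hjh
  have hmul : ∀ {T : Over (Spec (CommRingCat.of k))} (n m : T ⟶ H), (n * m) ≫ iH = (n ≫ iH) * (m ≫ iH) := by
    intro T n m
    obtain ⟨β₁, h₁, -⟩ := hG.exists_bc T (n ≫ j)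
    obtain ⟨β₂, h₂, -⟩ := hG.exists_bc T (m ≫ j)
    have h3 : IsBaseChange (β₁ * β₂) ((n * m) ≫ j) u := by
      rw [MonObj.mul_comp]; exact hG.mul T _ _ _ _ h₁ h₂
    have h4 : IsOverPt (β₁ * β₂) ((m ≫ iH) * (n ≫ iH)) := by
      show (β₂.1.hom ≫ β₁.1.hom).base = _
      rw [Pseudofunctor.CoGrothendieck.categoryStruct_comp_base, hover T n β₁ h₁, hover T m β₂ h₂, transl_mul,
        Over.comp_left]
    exact (eq_of_transl_eq ((hover T _ _ h3).symm.trans h4)).trans (Cube.hom_mul_comm _ _)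
  have hone : (1 : 𝟙_ _ ⟶ H) ≫ iH = 1 :=
    left_eq_mul.1 (by rw [← hmul, _root_.one_mul] :
      (1 : 𝟙_ _ ⟶ H) ≫ iH = ((1 : 𝟙_ _ ⟶ H) ≫ iH) * ((1 : 𝟙_ _ ⟶ H) ≫ iH))
  haveI : IsMonHom iH := by
    constructor
    · simpa [Hom.one_def] using hone
    · rw [show μ[H] = fst H H * snd H H by rw [Hom.mul_def]; simp, hmul, Hom.mul_def]
      congr 1
  haveI : Mono iH := AlgGrp14.mono_of_trivial_kernel iH fun T h h1 => by
    obtain ⟨β, hβ, -⟩ := hG.exists_bc T (h ≫ j)
    refine hjl T h β hβ ?_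
    rw [← h1]; exact hover T h β hβ
  obtain ⟨hGl, hGc⟩ := finite_of_rep hL hG
  haveI := hGl
  haveI := hGc
  haveI := hji
  haveI : LocallyOfFiniteType H.hom := by rw [← Over.w j]; infer_instance
  haveI : IsNoetherianRing (CommRingCat.of k) := inferInstanceAs (IsNoetherianRing k)
  haveI : IsLocallyNoetherian G.left := LocallyOfFiniteType.isLocallyNoetherian G.hom
  haveI : IsNoetherian G.left := ⟨⟩
  haveI : CompactSpace H.left :=
    j.left.isEmbedding.isCompact_iff.mpr (TopologicalSpace.NoetherianSpace.isCompact _) |> isCompact_univ_iff.mp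
  haveI : QuasiCompact H.hom := quasiCompact_of_compactSpace H.hom
  haveI : IsClosedImmersion iH.left := AlgGrp14.isClosedImmersion_of_mono iH
  obtain ⟨Q, _, _, q, hq, hQ, hfl, hsu, hlfp, hmem⟩ := AlgGrp14.exists_quot (A := A) (AlgGrp14.good_of A) iH
  haveI := hq
  haveI := hfl
  haveI := hsu
  obtain ⟨hQl, hQc⟩ := hQ
  haveI := hQl
  haveI := hQc
  have hw : q.left ≫ Q.hom = A.hom := Over.w q
  haveI : IsReduced A.left := by
    haveI : IsIntegral A.left := GeometricallyIntegral.isIntegral_of_subsingleton A.hom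
    infer_instance
  haveI : IsReduced Q.left := GrothLib.FlatFactor.isReduced_of_flat_surjective q.left
  haveI : IsSeparated Q.hom := GrpSchField.isSeparated Q
  haveI : UniversallyClosed Q.hom := by
    haveI : UniversallyClosed (q.left ≫ Q.hom) := by rw [hw]; infer_instance
    exact UniversallyClosed.of_comp_surjective q.left Q.hom
  haveI : IsProper Q.hom := {}
  haveI : QuasiCompact q.left := by
    haveI : QuasiCompact (q.left ≫ Q.hom) := by rw [hw]; infer_instance
    exact QuasiCompact.of_comp q.left Q.hom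
  haveI : GeometricallyIntegral (q.left ≫ Q.hom) := by rw [hw]; infer_instance
  have hgi : GeometricallyIntegral Q.hom := GrothLib.Rigidity.geometricallyIntegral_of_surjective q.left Q.hom
  have hker : AlgGrp.IsKernel iH q := TateThm.isKernel_of_iff iH q fun x => (hmem _ x).symm
  exact ⟨Q, inferInstance, q, inferInstance, hgi, hq, hsu, hker,
    exists_descent (f := q) (i := iH) (j := j) (u := u) ⟨hq, inferInstance, hjh, hker, hG, hover⟩ hL⟩

end GrothLib.ThetaGrp15
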