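import Groth.Agent.Lib.Poincare.KL
import Groth.Prelude.Def_ThetaGrp

/-!
# Points of the theta group over a translation

An arrow of the Grothendieck construction with invertible components is invertible; points of `G(L)` over a
translation `t_x` are the isomorphisms `L_T ≅ t_x^* L_T`.
-/

universe u

open CategoryTheory CategoryTheory.Limits MonoidalCategory CartesianMonoidalCategory AlgebraicGeometry
open scoped MonObj

set_option backward.isDefEq.respectTransparency false
set_option maxHeartbeats 400000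

noncomputable section

namespace GrothLib.ThetaGrp15

open ThetaGrp

theorem isEquivalence_pullback {Z X : Scheme.{u}} (e : Z ⟶ X) [IsIso e] :
    (Scheme.Modules.pullback e).IsEquivalence :=
  (CategoryTheory.Equivalence.mk (Scheme.Modules.pullback e) (Scheme.Modules.pullback (inv e))
    (Scheme.Modules.pullbackComp (inv e) e ≪≫ Scheme.Modules.pullbackCongr (IsIso.inv_hom_id e) ≪≫
      Scheme.Modules.pullbackId _).symm
    (Scheme.Modules.pullbackComp e (inv e) ≪≫ Scheme.Modules.pullbackCongr (IsIso.hom_inv_id e) ≪≫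
      Scheme.Modules.pullbackId _)).isEquivalence_functor

/-- An arrow with invertible components has a right inverse with invertible components. -/
theorem exists_right_inv {X Y : Pseudofunctor.CoGrothendieck (modPF.{u})} (f : X ⟶ Y) [IsIso f.base]
    (hφ : IsIso f.fiber) : ∃ g : Y ⟶ X, f ≫ g = 𝟙 X ∧ IsIso g.base ∧ IsIso g.fiber := by
  let G := (modPF.{u}.map f.base.op.toLoc).toFunctor
  haveI : G.IsEquivalence := isEquivalence_pullback f.base
  let ψ : G.obj Y.fiber ⟶ G.obj ((modPF.{u}.map (inv f.base).op.toLoc).toFunctor.obj X.fiber) :=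
    inv f.fiber ≫ (modPF.{u}.mapId ⟨.op X.base⟩).inv.toNatTrans.app X.fiber ≫
      eqToHom (congrArg (fun b : X.base ⟶ X.base => (modPF.{u}.map b.op.toLoc).toFunctor.obj X.fiber)
        (IsIso.hom_inv_id f.base).symm) ≫
      (modPF.{u}.mapComp (inv f.base).op.toLoc f.base.op.toLoc).hom.toNatTrans.app X.fiber
  refine ⟨⟨inv f.base, G.preimage ψ⟩, ?_, inferInstance, ?_⟩
  · refine Pseudofunctor.CoGrothendieck.Hom.ext _ _ (IsIso.hom_inv_id f.base) ?_
    simp only [Pseudofunctor.CoGrothendieck.categoryStruct_comp_fiber,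
      Pseudofunctor.CoGrothendieck.categoryStruct_id_fiber]
    erw [G.map_preimage]
    simp [ψ]
    erw [Category.id_comp, Category.id_comp, Iso.inv_hom_id_app, Category.comp_id]
  · haveI : IsIso (G.map (G.preimage ψ)) := by rw [G.map_preimage]; infer_instance
    exact isIso_of_fully_faithful G _

theorem isIso_of_isIso_base_fiber {X Y : Pseudofunctor.CoGrothendieck (modPF.{u})} (f : X ⟶ Y) [IsIso f.base]
    (hφ : IsIso f.fiber) : IsIso f := by
  obtain ⟨g, h1, hb, hg⟩ := exists_right_inv f hφ
  obtain ⟨g', h2, -, -⟩ := exists_right_inv g hg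
  refine ⟨g, h1, ?_⟩
  have hf : f = g' := by
    calc f = f ≫ (g ≫ g') := by rw [h2, Category.comp_id]
      _ = g' := by rw [← Category.assoc, h1, Category.id_comp]
  rw [hf]; exact h2

theorem isIso_fiber {X Y : Pseudofunctor.CoGrothendieck (modPF.{u})} (f : X ≅ Y) :
    IsIso f.hom.fiber := by
  haveI hb : IsIso f.hom.base := ⟨f.inv.base, congrArg (·.base) f.hom_inv_id, congrArg (·.base) f.inv_hom_id⟩
  haveI hb' : IsIso f.inv.base := ⟨f.hom.base, congrArg (·.base) f.inv_hom_id, congrArg (·.base) f.hom_inv_id⟩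
  let G := (modPF.{u}.map f.inv.base.op.toLoc).toFunctor
  haveI : G.IsEquivalence := isEquivalence_pullback f.inv.base
  have h1 := Pseudofunctor.CoGrothendieck.Hom.congr f.hom_inv_id
  have h2 := Pseudofunctor.CoGrothendieck.Hom.congr f.inv_hom_id
  simp only [Pseudofunctor.CoGrothendieck.categoryStruct_comp_fiber,
    Pseudofunctor.CoGrothendieck.categoryStruct_id_fiber] at h1 h2
  haveI : IsSplitMono f.hom.fiber := by
    let a := (modPF.{u}.map f.hom.base.op.toLoc).toFunctor.map f.inv.fiber ≫
      (modPF.{u}.mapComp f.inv.base.op.toLoc f.hom.base.op.toLoc).inv.toNatTrans.app X.fiber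
    haveI : IsIso (f.hom.fiber ≫ a) := by
      rw [show f.hom.fiber ≫ a = _ from h1]; infer_instance
    exact IsSplitMono.mk' ⟨a ≫ inv (f.hom.fiber ≫ a), by rw [← Category.assoc, IsIso.hom_inv_id]⟩
  haveI : IsSplitEpi (G.map f.hom.fiber) := by
    let i := (modPF.{u}.mapComp f.hom.base.op.toLoc f.inv.base.op.toLoc).inv.toNatTrans.app Y.fiber
    haveI : IsIso ((f.inv.fiber ≫ G.map f.hom.fiber) ≫ i) := by
      rw [Category.assoc, show f.inv.fiber ≫ G.map f.hom.fiber ≫ i = _ from h2]; infer_instance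
    haveI : IsIso (f.inv.fiber ≫ G.map f.hom.fiber) := IsIso.of_isIso_comp_right _ i
    exact IsSplitEpi.mk' ⟨inv (f.inv.fiber ≫ G.map f.hom.fiber) ≫ f.inv.fiber,
      by rw [Category.assoc, IsIso.inv_hom_id]⟩
  haveI : IsSplitMono (G.map f.hom.fiber) := inferInstance
  haveI : IsIso (G.map f.hom.fiber) := isIso_of_epi_of_isSplitMono _
  exact isIso_of_fully_faithful G _

section

variable {S : Scheme.{u}} {A : Over S} [GrpObj A] {L : A.left.Modules}

theorem isIso_transl {T : Over S} (x : T ⟶ A) : IsIso (transl A x).left := by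
  refine ⟨(transl A x⁻¹).left, ?_, ?_⟩ <;>
    rw [← Over.comp_left, ← transl_mul]
  · rw [mul_inv_cancel, transl_one]; rfl
  · rw [inv_mul_cancel, transl_one]; rfl

/-- Points of `G(L)` over `t_x` are isomorphisms `L_T ≅ t_x^*L_T`. -/
theorem exists_isOverPt_iff {T : Over S} (x : T ⟶ A) :
    (∃ β : thetaPts A L T, IsOverPt β x) ↔
      Nonempty ((Scheme.Modules.pullback (fst A T).left).obj L ≅
        (Scheme.Modules.pullback (transl A x).left).obj ((Scheme.Modules.pullback (fst A T).left).obj L)) := by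
  constructor
  · rintro ⟨β, hβ⟩
    haveI := isIso_fiber β.1
    exact ⟨asIso β.1.hom.fiber ≪≫ eqToIso (congrArg (fun b : (A ⊗ T).left ⟶ (A ⊗ T).left =>
      (Scheme.Modules.pullback b).obj ((Scheme.Modules.pullback (fst A T).left).obj L)) hβ)⟩
  · rintro ⟨e⟩
    let f : thetaObj A L T ⟶ thetaObj A L T := ⟨(transl A x).left, e.hom⟩
    haveI : IsIso f.base := isIso_transl x
    haveI := isIso_of_isIso_base_fiber f (inferInstanceAs (IsIso e.hom))
    exact ⟨⟨asIso f, x, rfl⟩, rfl⟩

end

end GrothLib.ThetaGrp15
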