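import Groth.Agent.Lib.ThetaGrp15.Level
import Groth.Agent.Lib.Poincare.KL
import Groth.Agent.Lib.Poincare.Regular

/-!
# `K(L) × {e}` acts on the Mumford bundle

The lifts are normalised along `A × {e}`, where the Mumford bundle is trivial.
-/

universe u

open CategoryTheory CategoryTheory.Limits MonoidalCategory CartesianMonoidalCategory AlgebraicGeometry Opposite
open scoped MonObj
open GrothLib.Cube

set_option backward.isDefEq.respectTransparency false
set_option maxHeartbeats 800000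

noncomputable section

namespace GrothLib.ThetaGrp15

open ThetaGrp

variable {k : Type u} [Field k] {A : Over (Spec (CommRingCat.of k))} [GrpObj A] [IsProper A.hom]
  [GeometricallyIntegral A.hom] [IsCommMonObj A]

theorem addClass_mul_left {P : Over (Spec (CommRingCat.of k))} (c : Pic A.left) (a z b : P ⟶ A) :
    addClass (a * z) b c = addClass a b c * addClass z b c := by
  have h := cubeClass_eq_one a z b c
  rw [cubeClass, mul_inv_eq_one] at h
  simp only [addClass]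
  generalize pull (a * z * b).left c = p at h ⊢
  generalize pull (a * z).left c = q at h ⊢
  generalize pull (a * b).left c = r at h ⊢
  generalize pull (z * b).left c = s at h ⊢
  generalize pull a.left c = a' at h ⊢
  generalize pull z.left c = z' at h ⊢
  generalize pull b.left c = b' at h ⊢
  obtain rfl : p = q * r * s * (a' * z' * b')⁻¹ := by rw [← h]; group
  simp only [mul_inv]
  calc q * r * s * (a'⁻¹ * z'⁻¹ * b'⁻¹) * (q⁻¹ * b'⁻¹) = r * (a'⁻¹ * b'⁻¹) * (s * (z'⁻¹ * b'⁻¹)) * (q * q⁻¹) := by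
        ac_rfl
    _ = _ := by rw [mul_inv_cancel, _root_.mul_one]

/-- The homomorphism `a ↦ (a, e)`. -/
abbrev axisHom (A : Over (Spec (CommRingCat.of k))) [GrpObj A] : A ⟶ A ⊗ A := lift (𝟙 A) (1 : A ⟶ A)

variable {L : A.left.Modules} {Λ : (A ⊗ A).left.Modules} {c : Pic A.left}

theorem exists_trivialisation (hΛ : HasCls Λ (addClass (fst A A) (snd A A) c)) :
    Nonempty ((Scheme.Modules.pullback (toUnit A).left).obj
      (Coh.structureModule (𝟙_ (Over (Spec (CommRingCat.of k)))).left) ≅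
        (Scheme.Modules.pullback (axisHom A).left).obj Λ) := by
  refine ((hasCls_structureModule _).pullback (toUnit A).left).iso (hΛ.pullback (axisHom A).left) ?_
  rw [map_one, pull_addClass, lift_fst, lift_snd, addClass, _root_.mul_one, pull_one_hom, _root_.mul_one,
    mul_inv_cancel]

variable (e₀ : (Scheme.Modules.pullback (toUnit A).left).obj
      (Coh.structureModule (𝟙_ (Over (Spec (CommRingCat.of k)))).left) ≅
        (Scheme.Modules.pullback (axisHom A).left).obj Λ)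
  {T T' : Over (Spec (CommRingCat.of k))}

/-- `β` lifts the translation by `(x, e)` and restricts on `A × {e}` to the canonical lift. -/
def IsNorm (β : thetaPts (A ⊗ A) Λ T) (x : T ⟶ A) : Prop :=
  IsOverPt β (x ≫ axisHom A) ∧
    ∃ q : thetaObj A ((Scheme.Modules.pullback (axisHom A).left).obj Λ) T ⟶ thetaObj (A ⊗ A) Λ T,
      q.base = (axisHom A ▷ T).left ∧ q ≫ eps (A ⊗ A) Λ T = pArr (axisHom A) (Iso.refl _) T ∧
      ∃ β₀ : thetaPts A ((Scheme.Modules.pullback (axisHom A).left).obj Λ) T,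
        IsCanon e₀ β₀ x ∧ β₀.1.hom ≫ q = q ≫ β.1.hom

theorem qArr_unique {f : A ⟶ A ⊗ A} {M : A.left.Modules} {e : (Scheme.Modules.pullback f.left).obj Λ ≅ M}
    {q q' : thetaObj A M T ⟶ thetaObj (A ⊗ A) Λ T} (hb : q.base = q'.base)
    (h : q ≫ eps (A ⊗ A) Λ T = pArr f e T) (h' : q' ≫ eps (A ⊗ A) Λ T = pArr f e T) : q = q' :=
  lift_unique _ (isIso_eps_fiber T) _ _ hb (h.trans h'.symm)

theorem whisker_right_appTop {A' B' : Over (Spec (CommRingCat.of k))} (f : A' ⟶ B') (d : Γ(T.left, ⊤)) :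
    (f ▷ T).left.appTop ((snd B' T).left.appTop d) = (snd A' T).left.appTop d := by
  rw [← ConcreteCategory.comp_apply, ← Scheme.Hom.comp_appTop, ← Over.comp_left, whiskerRight_snd]

theorem comp_toUnit_eq_one (x : T ⟶ A) : x ≫ toUnit A = 1 := Subsingleton.elim _ _

theorem exists_isNorm (hΛ : HasCls Λ (addClass (fst A A) (snd A A) c)) {x : T ⟶ A} (hx : KL.mc c x = 1) :
    ∃ β : thetaPts (A ⊗ A) Λ T, IsNorm e₀ β x := by
  haveI : IsProper (A ⊗ A).hom := inferInstanceAs (IsProper (pullback.fst A.hom A.hom ≫ A.hom))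
  haveI : GeometricallyIntegral (A ⊗ A).hom := Poincare.geometricallyIntegral_tensor A A
  obtain ⟨hΛi, -⟩ := id hΛ
  have hgΛ : PicF.IsInvertible ((Scheme.Modules.pullback (axisHom A).left).obj Λ) :=
    Ample.isInvertible_pullback _ hΛi
  have h2 : addClass (snd (A ⊗ A) T ≫ x) (fst (A ⊗ A) T ≫ snd A A) c = 1 := by
    have h1 := congrArg (pull (lift (fst (A ⊗ A) T ≫ snd A A) (snd (A ⊗ A) T)).left) hx
    rw [map_one, KL.mc, pull_addClass, lift_fst, lift_snd_assoc] at h1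
    rw [← h1, addClass, addClass, hom_mul_comm (snd (A ⊗ A) T ≫ x), mul_comm (pull (snd (A ⊗ A) T ≫ x).left c)]
  obtain ⟨β, hβ⟩ := (exists_lift_iff_pull_eq hΛ (x ≫ axisHom A)).2 (by
    rw [pull_addClass, pull_addClass, MonObj.mul_comp, MonObj.mul_comp]
    simp only [Category.assoc, lift_fst, lift_snd, Category.comp_id, MonObj.comp_one, _root_.mul_one]
    rw [addClass_mul_left, h2, _root_.mul_one])
  obtain ⟨q, hqb, hq⟩ := exists_qArr (f := axisHom A) (Iso.refl _) T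
  obtain ⟨β', hβ', hβ'q⟩ := exists_pull (Iso.refl _) hqb hq β hβ
  obtain ⟨β₀, hβ₀⟩ := exists_isCanon e₀ (comp_toUnit_eq_one x)
  obtain ⟨d, hd⟩ := exists_eq_act_pr hgΛ β'.1.hom β₀.1.hom (hβ₀.1.trans hβ'.symm) (isIso_fiber β'.1)
  obtain ⟨d', hd'⟩ := exists_eq_act_pr hgΛ β₀.1.hom β'.1.hom (hβ'.trans hβ₀.1.symm) (isIso_fiber β₀.1)
  have hu : d' * d = 1 := act_pr_injective hgΛ (isIso_fiber β₀.1) (by
    rw [map_mul, ← act_act, ← hd', ← hd])
  haveI : IsIso (β.1.hom.base) := by rw [hβ]; exact isIso_transl _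
  let a := (snd (A ⊗ A) T).left.appTop d
  let a' := (snd (A ⊗ A) T).left.appTop d'
  have haa : a' * a = 1 := by rw [← map_mul, hu, map_one]
  let f := act a β.1.hom
  haveI : IsIso f.base := inferInstanceAs (IsIso β.1.hom.base)
  haveI : IsIso f.fiber := by
    haveI : IsIso (Formal.smulModΓ (X := ((A ⊗ A) ⊗ T).left) (thetaObj (A ⊗ A) Λ T).fiber a) :=
      ⟨Formal.smulModΓ (X := ((A ⊗ A) ⊗ T).left) (thetaObj (A ⊗ A) Λ T).fiber a',
        by rw [smulModΓ_mul, haa, smulModΓ_one], by rw [smulModΓ_mul, mul_comm, haa, smulModΓ_one]⟩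
    haveI := isIso_fiber β.1
    exact inferInstanceAs (IsIso (Formal.smulModΓ (X := ((A ⊗ A) ⊗ T).left) (thetaObj (A ⊗ A) Λ T).fiber a ≫ β.1.hom.fiber))
  haveI := isIso_of_isIso_base_fiber f ‹_›
  refine ⟨⟨asIso f, x ≫ axisHom A, hβ⟩, hβ, q, hqb, hq, β₀, hβ₀, ?_⟩
  show β₀.1.hom ≫ q = q ≫ act a β.1.hom
  rw [comp_act, hd, act_comp, hβ'q, hqb]
  congr 1
  exact (whisker_right_appTop (axisHom A) d).symm

theorem isNorm_unique (hΛ : HasCls Λ (addClass (fst A A) (snd A A) c)) {β γ' : thetaPts (A ⊗ A) Λ T}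
    {x : T ⟶ A} (h : IsNorm e₀ β x) (h' : IsNorm e₀ γ' x) : β = γ' := by
  haveI : IsProper (A ⊗ A).hom := inferInstanceAs (IsProper (pullback.fst A.hom A.hom ≫ A.hom))
  haveI : GeometricallyIntegral (A ⊗ A).hom := Poincare.geometricallyIntegral_tensor A A
  obtain ⟨hΛi, -⟩ := id hΛ
  obtain ⟨hb, q, hqb, hq, β₀, hβ₀, e⟩ := h
  obtain ⟨hg, q', hqb', hq', γ₀, hγ₀, e'⟩ := h'
  obtain rfl := qArr_unique (hqb.trans hqb'.symm) hq hq'
  obtain rfl := isCanon_unique e₀ hβ₀ hγ₀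
  obtain ⟨d, hd⟩ := exists_eq_act_pr hΛi β.1.hom γ'.1.hom (hg.trans hb.symm) (isIso_fiber β.1)
  rw [hd, comp_act, ← e, hqb, whisker_right_appTop] at e'
  have hd1 : (snd A T).left.appTop d = 1 := isIso_fiber_act_iff
    (isIso_comp_fiber _ _ (isIso_fiber β₀.1) (isIso_qArr_fiber _ hq))
    (isInvertible_fiber (Ample.isInvertible_pullback _ hΛi) T) e'.symm
  obtain rfl : d = 1 := (bijective_appTop_snd A T).1 (hd1.trans (map_one _).symm)
  rw [map_one, act_one] at hd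
  exact (Subtype.ext (Iso.ext hd)).symm

theorem isNorm_mul {β γ' : thetaPts (A ⊗ A) Λ T} {x y : T ⟶ A} (h : IsNorm e₀ β x) (h' : IsNorm e₀ γ' y) :
    IsNorm e₀ (β * γ') (y * x) := by
  obtain ⟨hb, q, hqb, hq, β₀, hβ₀, e⟩ := h
  obtain ⟨hg, q', hqb', hq', γ₀, hγ₀, e'⟩ := h'
  obtain rfl := qArr_unique (hqb.trans hqb'.symm) hq hq'
  refine ⟨?_, q, hqb, hq, β₀ * γ₀, isCanon_mul e₀ hβ₀ hγ₀, ?_⟩
  · show (γ'.1.hom ≫ β.1.hom).base = _
    rw [Pseudofunctor.CoGrothendieck.categoryStruct_comp_base, hg, hb, MonObj.mul_comp, transl_mul, Over.comp_left]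
  · show (γ₀.1.hom ≫ β₀.1.hom) ≫ q = q ≫ γ'.1.hom ≫ β.1.hom
    rw [Category.assoc, e, ← Category.assoc, e', Category.assoc]

theorem isNorm_baseChange {s : T' ⟶ T} {x : T ⟶ A} {β : thetaPts (A ⊗ A) Λ T}
    {β' : thetaPts (A ⊗ A) Λ T'} (hb' : IsOverPt β' ((s ≫ x) ≫ axisHom A)) (hbc : IsBaseChange β' s β)
    (h : IsNorm e₀ β x) : IsNorm e₀ β' (s ≫ x) := by
  obtain ⟨hb, q, hqb, hq, β₀, hβ₀, e⟩ := h
  obtain ⟨q', hqb', hq'⟩ := exists_qArr (f := axisHom A) (Iso.refl ((Scheme.Modules.pullback (axisHom A).left).obj Λ)) T'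
  obtain ⟨γ₀, hγ₀⟩ := exists_isCanon e₀ (comp_toUnit_eq_one (s ≫ x))
  have hbb := isBaseChange_isCanon e₀ s hγ₀ hβ₀
  have hsq : q' ≫ bcLift (A ⊗ A) Λ s = bcLift A _ s ≫ q := by
    refine lift_unique _ (isIso_eps_fiber T) _ _ ?_ ?_
    · rw [Pseudofunctor.CoGrothendieck.categoryStruct_comp_base, Pseudofunctor.CoGrothendieck.categoryStruct_comp_base,
        hqb, hqb']
      exact congrArg Over.Hom.left (whisker_exchange (axisHom A) s).symm
    · rw [Category.assoc, Category.assoc, bcLift_eps, hq', hq, bcLift_pArr]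
  refine ⟨hb', q', hqb', hq', γ₀, hγ₀, lift_unique _ (isIso_bcLift_fiber s) _ _ ?_ ?_⟩
  · rw [Pseudofunctor.CoGrothendieck.categoryStruct_comp_base, Pseudofunctor.CoGrothendieck.categoryStruct_comp_base,
      hγ₀.1, hb', hqb']
    exact congrArg Over.Hom.left (transl_whisker (f := axisHom A) (s ≫ x))
  · rw [Category.assoc, Category.assoc, hsq, hbc, ← Category.assoc, hbb, Category.assoc, e, ← Category.assoc,
      ← hsq, Category.assoc]

theorem exists_hom_mumford (hL : PicF.IsInvertible L) (hΛi : PicF.IsInvertible Λ)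
    (hΛ : AgPol.IsLambdaSheaf μ[A].left (fst A A).left (snd A A).left L Λ)
    {K : Over (Spec (CommRingCat.of k))} [GrpObj K] (iK : K ⟶ A) [IsMonHom iK] (hK : IsKL A L iK)
    {G : Over (Spec (CommRingCat.of k))} [GrpObj G] (u : thetaPts (A ⊗ A) Λ G)
    (hG : IsThetaGrpSch (A ⊗ A) Λ G u) :
    ∃ j : K ⟶ G, IsMonHom j ∧
      ∀ (T : Over (Spec (CommRingCat.of k))) (y : T ⟶ K) (β : thetaPts (A ⊗ A) Λ T),
        IsBaseChange β (y ≫ j) u → IsOverPt β (y ≫ lift iK (1 : K ⟶ A)) := by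
  have hc := hasCls_clsMod hL
  have hΛc : HasCls Λ (addClass (fst A A) (snd A A) (clsMod hL)) := by
    refine ⟨hΛi, ?_⟩
    have h := (((hasCls_clsMod hΛi).tensor (hc.pullback (fst A A).left)).tensor
      (hc.pullback (snd A A).left)).eq (hc.pullback μ[A].left) hΛ
    have hμ : μ[A] = fst A A * snd A A := by rw [Hom.mul_def]; simp
    rw [addClass, ← hμ, ← h]
    group
  obtain ⟨e₀⟩ := exists_trivialisation hΛc
  have hker : ∀ {T : Over (Spec (CommRingCat.of k))} (y : T ⟶ K), KL.mc (clsMod hL) (y ≫ iK) = 1 :=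
    fun y => (KL.factors_iff hc hK _).1 ⟨y, rfl⟩
  obtain ⟨bK, hbK⟩ := exists_isNorm e₀ hΛc (show KL.mc (clsMod hL) iK = 1 by simpa using hker (𝟙 K))
  obtain ⟨j, hj, -⟩ := hG.univ K bK
  have hnorm : ∀ {T : Over (Spec (CommRingCat.of k))} (y : T ⟶ K) (β : thetaPts (A ⊗ A) Λ T),
      IsNorm e₀ β (y ≫ iK) → IsBaseChange β (y ≫ j) u := fun y β hβ => by
    obtain ⟨β', hb, hbc⟩ := exists_baseChange y bK hbK.1
    rw [← Category.assoc] at hb
    rw [isNorm_unique e₀ hΛc hβ (isNorm_baseChange e₀ hb hbc hbK)]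
    exact isBaseChange_trans hbc hj
  have haxis : ∀ {T : Over (Spec (CommRingCat.of k))} (y : T ⟶ K),
      y ≫ lift iK (1 : K ⟶ A) = (y ≫ iK) ≫ axisHom A := fun y => by
    apply CartesianMonoidalCategory.hom_ext <;> simp [MonObj.comp_one]
  refine ⟨j, ?_, fun T y β hβ => ?_⟩
  · have hmul : ∀ {T : Over (Spec (CommRingCat.of k))} (n m : T ⟶ K), (n * m) ≫ j = (n ≫ j) * (m ≫ j) := by
      intro T n m
      obtain ⟨β, hβ⟩ := exists_isNorm e₀ hΛc (hker n)
      obtain ⟨γ', hγ⟩ := exists_isNorm e₀ hΛc (hker m)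
      have h1 := hG.mul T _ _ β γ' (hnorm n β hβ) (hnorm m γ' hγ)
      have h2 : IsNorm e₀ (β * γ') ((n * m) ≫ iK) := by
        rw [MonObj.mul_comp, hom_mul_comm (n ≫ iK)]; exact isNorm_mul e₀ hβ hγ
      exact (hG.univ T (β * γ')).unique (hnorm _ _ h2) h1
    have hone : (1 : 𝟙_ _ ⟶ K) ≫ j = 1 := left_eq_mul.1
      (by rw [← hmul, _root_.one_mul] : (1 : 𝟙_ _ ⟶ K) ≫ j = ((1 : 𝟙_ _ ⟶ K) ≫ j) * ((1 : 𝟙_ _ ⟶ K) ≫ j))
    constructor
    · simpa [Hom.one_def] using hone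
    · rw [show μ[K] = fst K K * snd K K by rw [Hom.mul_def]; simp, hmul, Hom.mul_def]
      congr 1
  · obtain ⟨β', hβ'⟩ := exists_isNorm e₀ hΛc (hker y)
    rw [(hG.exists_bc T (y ≫ j)).unique hβ (hnorm y β' hβ'), haxis]
    exact hβ'.1

end GrothLib.ThetaGrp15
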