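import Groth.Agent.Lib.ThetaGrp15.ArrowDesc
import Groth.Agent.Lib.ThetaGrp15.Level
import Groth.Agent.Lib.ThetaGrp15.Isotropic
import Groth.Agent.Lib.GrpSchField.HomFlat

/-!
# A point lies over `K(M)` iff its lifts commute with the canonical lifts of the kernel
-/

universe u

open CategoryTheory CategoryTheory.Limits MonoidalCategory CartesianMonoidalCategory AlgebraicGeometry Opposite
open scoped MonObj

set_option backward.isDefEq.respectTransparency false
set_option maxHeartbeats 800000

noncomputable section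

namespace GrothLib.ThetaGrp15

open ThetaGrp

variable {k : Type u} [Field k] {A B : Over (Spec (CommRingCat.of k))} [GrpObj A] [GrpObj B]
  {L : A.left.Modules} {M : B.left.Modules} {T U : Over (Spec (CommRingCat.of k))}
  {f : A ⟶ B}

omit [GrpObj A] [GrpObj B] in
theorem isPullback_whiskerRight (f : A ⟶ B) (T : Over (Spec (CommRingCat.of k))) :
    IsPullback (fst A T).left (f ▷ T).left f.left (fst B T).left := by
  refine IsPullback.of_bot ?_ ?_ (IsPullback.of_hasPullback B.hom T.hom)
  · have h1 : (f ▷ T).left ≫ pullback.snd B.hom T.hom = pullback.snd A.hom T.hom := by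
      show (f ▷ T).left ≫ (snd B T).left = (snd A T).left
      rw [← Over.comp_left, whiskerRight_snd]
    rw [h1, Over.w f]
    exact IsPullback.of_hasPullback A.hom T.hom
  · rw [← Over.comp_left, ← Over.comp_left, whiskerRight_fst]

variable [IsMonHom f] (e : (Scheme.Modules.pullback f.left).obj M ≅ L)

theorem isCanon_qArr {q : thetaObj A L T ⟶ thetaObj B M T} (hqb : q.base = (f ▷ T).left)
    (hq : q ≫ eps B M T = pArr f e T) {β : thetaPts A L T} {n : T ⟶ A} (hn : n ≫ f = 1) (h : IsCanon e β n) :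
    β.1.hom ≫ q = q := by
  refine lift_unique _ (isIso_eps_fiber T) _ _ ?_ (by rw [Category.assoc, hq, h.2])
  rw [Pseudofunctor.CoGrothendieck.categoryStruct_comp_base, h.1, hqb, ← Over.comp_left, transl_whisker, hn,
    transl_one, Category.comp_id]

/-- A lift commuting with all canonical lifts descends. -/
theorem exists_arrow_below [Flat f.left] [Surjective f.left] [QuasiCompact f.left]
    (hM : PicF.IsInvertible M) {x : U ⟶ A} {β : thetaPts A L U} (hβ : IsOverPt β x)
    (hcomm : ∀ (T' : Over (Spec (CommRingCat.of k))) (t : T' ⟶ U) (n : T' ⟶ A), n ≫ f = 1 →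
      ∀ (β₁ β₂ : thetaPts A L T'), IsOverPt β₁ (t ≫ x) → IsCanon e β₂ n → β₁ * β₂ = β₂ * β₁)
    {q : thetaObj A L U ⟶ thetaObj B M U} (hqb : q.base = (f ▷ U).left) (hq : q ≫ eps B M U = pArr f e U) :
    ∃ δ : thetaObj B M U ⟶ thetaObj B M U, δ.base = (transl B (x ≫ f)).left ∧ q ≫ δ = β.1.hom ≫ q := by
  haveI : Flat q.base := by
    rw [hqb]; exact MorphismProperty.of_isPullback (P := @Flat) (isPullback_whiskerRight f U) inferInstance
  haveI : Surjective q.base := by
    rw [hqb]; exact MorphismProperty.of_isPullback (P := @Surjective) (isPullback_whiskerRight f U) inferInstance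
  haveI : QuasiCompact q.base := by
    rw [hqb]; exact MorphismProperty.of_isPullback (P := @QuasiCompact) (isPullback_whiskerRight f U) inferInstance
  have hqf := isIso_qArr_fiber e hq
  refine exists_arrow_descend (Z := thetaObj B M U) q hqf (Ample.isInvertible_pullback _ hM) (β.1.hom ≫ q)
    (transl B (x ≫ f)).left ?_ ?_
  · rw [Pseudofunctor.CoGrothendieck.categoryStruct_comp_base, hβ, hqb]
    exact congrArg Over.Hom.left (transl_whisker x).symm
  intro W a b _ _ hab
  let Wo : Over (Spec (CommRingCat.of k)) := Over.mk (a.base ≫ (A ⊗ U).hom)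
  have heq : a.base ≫ (f ▷ U).left = b.base ≫ (f ▷ U).left := by
    rw [← hqb]; exact congrArg (·.base) hab
  have hbw : b.base ≫ (A ⊗ U).hom = a.base ≫ (A ⊗ U).hom := by
    rw [← Over.w (f ▷ U), ← Category.assoc, ← heq, Category.assoc]
  let α : Wo ⟶ A ⊗ U := Over.homMk a.base rfl
  let γ' : Wo ⟶ A ⊗ U := Over.homMk b.base hbw
  have hαγ : α ≫ (f ▷ U) = γ' ≫ (f ▷ U) := Over.OverMorphism.ext heq
  let t : Wo ⟶ U := α ≫ snd A U
  have ht : γ' ≫ snd A U = t := by
    have := congrArg (· ≫ snd B U) hαγ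
    simpa [t] using this.symm
  have hf' : (α ≫ fst A U) ≫ f = (γ' ≫ fst A U) ≫ f := by
    have := congrArg (· ≫ fst B U) hαγ
    simpa using this
  let n : Wo ⟶ A := (α ≫ fst A U)⁻¹ * (γ' ≫ fst A U)
  have hn : n ≫ f = 1 := by
    rw [MonObj.mul_comp, GrpObj.inv_comp, hf', inv_mul_cancel]
  have hσ : lift (α ≫ fst A U) (𝟙 Wo) ≫ (A ◁ t) = α := by
    apply CartesianMonoidalCategory.hom_ext <;> simp [t]
  have hτ : lift (α ≫ fst A U) (𝟙 Wo) ≫ transl A n ≫ (A ◁ t) = γ' := by
    apply CartesianMonoidalCategory.hom_ext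
    · simp [transl, n, MonObj.comp_mul]
    · simpa [transl] using ht.symm
  obtain ⟨a', ha'b, ha'⟩ := exists_lift (bcLift A L t) (isIso_bcLift_fiber t) a
    (lift (α ≫ fst A U) (𝟙 Wo)).left (congrArg Over.Hom.left hσ)
  obtain ⟨βn, hβn⟩ := exists_isCanon e (f := f) (T := Wo) hn
  obtain ⟨βW, hβW, hbc⟩ := exists_baseChange t β hβ
  have hbcq : βn.1.hom ≫ bcLift A L t ≫ q = bcLift A L t ≫ q := by
    refine lift_unique _ (isIso_eps_fiber U) _ _ ?_ (by rw [Category.assoc, Category.assoc, hq, bcLift_pArr, hβn.2])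
    rw [Pseudofunctor.CoGrothendieck.categoryStruct_comp_base, Pseudofunctor.CoGrothendieck.categoryStruct_comp_base,
      hβn.1, hqb]
    show (transl A n).left ≫ (A ◁ t).left ≫ (f ▷ U).left = (A ◁ t).left ≫ (f ▷ U).left
    rw [← Over.comp_left, ← Over.comp_left]
    congr 1
    apply CartesianMonoidalCategory.hom_ext <;> simp [transl, MonObj.mul_comp, hn]
  have hb : b = a' ≫ βn.1.hom ≫ bcLift A L t := by
    refine lift_unique q hqf _ _ ?_ ?_
    · rw [Pseudofunctor.CoGrothendieck.categoryStruct_comp_base, Pseudofunctor.CoGrothendieck.categoryStruct_comp_base,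
        hβn.1, ha'b]
      exact (congrArg Over.Hom.left hτ).symm
    · rw [Category.assoc, Category.assoc, hbcq, ← Category.assoc a', ha', hab]
  have hc : βn.1.hom ≫ βW.1.hom = βW.1.hom ≫ βn.1.hom :=
    congrArg (fun z : thetaPts A L Wo => z.1.hom) (hcomm Wo t n hn βW βn hβW hβn)
  calc a ≫ β.1.hom ≫ q = a' ≫ βW.1.hom ≫ bcLift A L t ≫ q := by
        rw [← ha', Category.assoc, ← Category.assoc (bcLift A L t), ← hbc, Category.assoc]
    _ = a' ≫ βW.1.hom ≫ βn.1.hom ≫ bcLift A L t ≫ q := by rw [hbcq]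
    _ = a' ≫ (βn.1.hom ≫ βW.1.hom) ≫ bcLift A L t ≫ q := by rw [hc, Category.assoc]
    _ = b ≫ β.1.hom ≫ q := by
        rw [hb, Category.assoc, Category.assoc, Category.assoc, ← Category.assoc (bcLift A L t) β.1.hom, ← hbc,
          Category.assoc]

/-- A lift commuting with all canonical lifts comes from a point of `G(M)`. -/
theorem exists_thetaPt_below [Flat f.left] [Surjective f.left] [QuasiCompact f.left]
    (hM : PicF.IsInvertible M) {x : U ⟶ A} {β : thetaPts A L U} (hβ : IsOverPt β x)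
    (hcomm : ∀ (T' : Over (Spec (CommRingCat.of k))) (t : T' ⟶ U) (n : T' ⟶ A), n ≫ f = 1 →
      ∀ (β₁ β₂ : thetaPts A L T'), IsOverPt β₁ (t ≫ x) → IsCanon e β₂ n → β₁ * β₂ = β₂ * β₁) :
    ∃ δ : thetaPts B M U, IsOverPt δ (x ≫ f) := by
  obtain ⟨q, hqb, hq⟩ := exists_qArr e U
  have hinv : IsOverPt β⁻¹ x⁻¹ := by
    show β.1.inv.base = (transl A x⁻¹).left
    haveI := isIso_transl (A := A) x
    rw [← cancel_epi (transl A x).left, ← Over.comp_left, ← transl_mul, mul_inv_cancel, transl_one, ← hβ]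
    exact congrArg (·.base) β.1.hom_inv_id
  obtain ⟨d, hd, hd'⟩ := exists_arrow_below e hM hβ hcomm hqb hq
  obtain ⟨d', hdi, hdi'⟩ := exists_arrow_below e hM hinv (fun T' t n hn β₁ β₂ h₁ h₂ => by
    have h1' : IsOverPt β₁⁻¹ (t ≫ x) := by
      show β₁.1.inv.base = (transl A (t ≫ x)).left
      haveI := isIso_transl (A := A) (t ≫ x⁻¹)
      rw [← cancel_epi (transl A (t ≫ x⁻¹)).left, ← Over.comp_left, ← transl_mul, ← MonObj.comp_mul, inv_mul_cancel,
        MonObj.comp_one, transl_one, ← h₁]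
      exact congrArg (·.base) β₁.1.hom_inv_id
    exact (Commute.inv_left_iff).1 (hcomm T' t n hn _ _ h1' h₂)) hqb hq
  haveI : Flat q.base := by
    rw [hqb]; exact MorphismProperty.of_isPullback (P := @Flat) (isPullback_whiskerRight f U) inferInstance
  haveI : Surjective q.base := by
    rw [hqb]; exact MorphismProperty.of_isPullback (P := @Surjective) (isPullback_whiskerRight f U) inferInstance
  haveI : QuasiCompact q.base := by
    rw [hqb]; exact MorphismProperty.of_isPullback (P := @QuasiCompact) (isPullback_whiskerRight f U) inferInstance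
  have hb1 : ∀ (z : U ⟶ A), (transl B (z ≫ f)).left ≫ (transl B (z⁻¹ ≫ f)).left = 𝟙 _ := fun z => by
    rw [← Over.comp_left, ← transl_mul, GrpObj.inv_comp, mul_inv_cancel, transl_one]; rfl
  let i : Aut (thetaObj B M U) :=
    ⟨d, d', arrow_epi q (isIso_qArr_fiber e hq) (Ample.isInvertible_pullback _ hM) _ _ (by
        rw [Pseudofunctor.CoGrothendieck.categoryStruct_comp_base, hd, hdi]
        exact hb1 x) (by
        rw [← Category.assoc, hd', Category.assoc, hdi', Category.comp_id, ← Category.assoc]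
        show (β.1.hom ≫ β.1.inv) ≫ q = q
        rw [Iso.hom_inv_id, Category.id_comp]),
      arrow_epi q (isIso_qArr_fiber e hq) (Ample.isInvertible_pullback _ hM) _ _ (by
        rw [Pseudofunctor.CoGrothendieck.categoryStruct_comp_base, hd, hdi]
        simpa using hb1 x⁻¹) (by
        rw [← Category.assoc, hdi', Category.assoc, hd', Category.comp_id, ← Category.assoc]
        show (β.1.inv ≫ β.1.hom) ≫ q = q
        rw [Iso.inv_hom_id, Category.id_comp])⟩
  exact ⟨⟨i, x ≫ f, hd⟩, hd⟩

/-- Pulled back points commute with canonical lifts. -/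
theorem pull_commute [IsProper A.hom] [GeometricallyIntegral A.hom] [IsCommMonObj A]
    {q : thetaObj A L T ⟶ thetaObj B M T} (hqb : q.base = (f ▷ T).left) (hq : q ≫ eps B M T = pArr f e T)
    {β β' : thetaPts A L T} {δ : thetaPts B M T} {x n : T ⟶ A} (hβ : IsOverPt β x) (hn : n ≫ f = 1)
    (hβ' : IsCanon e β' n) (hd : β.1.hom ≫ q = q ≫ δ.1.hom) : β * β' = β' * β := by
  have h := isCanon_qArr e hqb hq hn hβ'
  refine Subtype.ext (Iso.ext (lift_unique q (isIso_qArr_fiber e hq) (β'.1.hom ≫ β.1.hom) (β.1.hom ≫ β'.1.hom) ?_ ?_))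
  · rw [Pseudofunctor.CoGrothendieck.categoryStruct_comp_base, Pseudofunctor.CoGrothendieck.categoryStruct_comp_base,
      hβ, hβ'.1, ← Over.comp_left, ← Over.comp_left, ← transl_mul, ← transl_mul]
    congr 2
    exact Cube.hom_mul_comm n x
  · rw [Category.assoc, hd, ← Category.assoc, h, Category.assoc, h, hd]

end GrothLib.ThetaGrp15
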