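import Groth.Agent.Lib.ThetaGrp15.UnivArrow
import Groth.Agent.Lib.ThetaGrp15.KLImm
import Groth.Agent.Lib.ThetaGrp15.Level
import Groth.Agent.Lib.Cube.AbVar
import Mathlib.CategoryTheory.Monoidal.Cartesian.Grp

/-!
# The theta group is representable

A point of the theta group is determined by its value along the unit section, an arrow from the trivial module on
`T` to `(A, L)`; these arrows over points of `K(L)` are the points of the frame bundle of `L` restricted to `K(L)`.
-/

universe u

open CategoryTheory CategoryTheory.Limits MonoidalCategory CartesianMonoidalCategory AlgebraicGeometry Opposite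
open scoped MonObj
open GrothLib.Cube

set_option backward.isDefEq.respectTransparency false
set_option maxHeartbeats 400000

noncomputable section

namespace GrothLib.ThetaGrp15

open ThetaGrp
open Formal (smulModΓ)

theorem isIso_fiber_of_comp {X Y Z : ModSch.{u}} {q : X ⟶ Y} {f : Y ⟶ Z} {h : X ⟶ Z} (e : q ≫ f = h)
    (hf : IsIso f.fiber) (hh : IsIso h.fiber) : IsIso q.fiber := by
  obtain ⟨e', he'⟩ := (Pseudofunctor.CoGrothendieck.Hom.ext_iff _ _).1 e
  rw [Pseudofunctor.CoGrothendieck.categoryStruct_comp_fiber] at he'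
  haveI : IsIso (q.fiber ≫ (modPF.{u}.map q.base.op.toLoc).toFunctor.map f.fiber ≫
      (modPF.{u}.mapComp f.base.op.toLoc q.base.op.toLoc).inv.toNatTrans.app Z.fiber) := by
    rw [show q.fiber ≫ _ = _ from he']; infer_instance
  exact IsIso.of_isIso_comp_right q.fiber ((modPF.{u}.map q.base.op.toLoc).toFunctor.map f.fiber ≫
      (modPF.{u}.mapComp f.base.op.toLoc q.base.op.toLoc).inv.toNatTrans.app Z.fiber)

variable {k : Type u} [Field k] {A : Over (Spec (CommRingCat.of k))} [GrpObj A] {L : A.left.Modules}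

/-- The unit section of `A × T`. -/
abbrev secb (A : Over (Spec (CommRingCat.of k))) [GrpObj A] (T : Over (Spec (CommRingCat.of k))) :
    T.left ⟶ (A ⊗ T).left :=
  (lift (1 : T ⟶ A) (𝟙 T)).left

theorem exists_e0 (hL : PicF.IsInvertible L) :
    ∃ e0 : triv (𝟙_ (Over (Spec (CommRingCat.of k)))).left ⟶ (⟨A.left, L⟩ : ModSch.{u}),
      e0.base = η[A].left ∧ IsIso e0.fiber := by
  obtain ⟨φ⟩ := ((hasCls_clsMod hL).pullback η[A].left).iso
    (hasCls_structureModule (𝟙_ (Over (Spec (CommRingCat.of k)))).left) (pic_spec_field_eq_one _)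
  exact ⟨⟨η[A].left, φ.inv⟩, rfl, inferInstanceAs (IsIso φ.inv)⟩

section

variable {e0 : triv (𝟙_ (Over (Spec (CommRingCat.of k)))).left ⟶ (⟨A.left, L⟩ : ModSch.{u})}

/-- The structure of `jT`. -/
def jT (e0 : triv (𝟙_ (Over (Spec (CommRingCat.of k)))).left ⟶ (⟨A.left, L⟩ : ModSch.{u}))
    (T : Over (Spec (CommRingCat.of k))) : triv T.left ⟶ (⟨A.left, L⟩ : ModSch.{u}) :=
  hat (toUnit T).left ≫ e0

theorem exists_secArr (he : e0.base = η[A].left) (T : Over (Spec (CommRingCat.of k))) :
    ∃ s : triv T.left ⟶ thetaObj A L T, s.base = secb A T ∧ s ≫ eps A L T = jT e0 T :=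
  exists_lift _ (isIso_eps_fiber T) _ _ (by
    show secb A T ≫ (fst A T).left = (toUnit T).left ≫ e0.base
    rw [he, ← Over.comp_left, ← Over.comp_left, lift_fst, Hom.one_def])

/-- The unit section, with the canonical trivialisation. -/
def secArr (he : e0.base = η[A].left) (T : Over (Spec (CommRingCat.of k))) : triv T.left ⟶ thetaObj A L T :=
  (exists_secArr he T).choose

variable (he : e0.base = η[A].left)

theorem secArr_base (T : Over (Spec (CommRingCat.of k))) : (secArr he T).base = secb A T :=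
  (exists_secArr he T).choose_spec.1

theorem secArr_eps (T : Over (Spec (CommRingCat.of k))) : secArr he T ≫ eps A L T = jT e0 T :=
  (exists_secArr he T).choose_spec.2

theorem secArr_natural {T G : Over (Spec (CommRingCat.of k))} (g : T ⟶ G) :
    hat g.left ≫ secArr he G = secArr he T ≫ bcLift A L g := by
  refine lift_unique _ (isIso_eps_fiber G) _ _ ?_ ?_
  · rw [Pseudofunctor.CoGrothendieck.categoryStruct_comp_base, Pseudofunctor.CoGrothendieck.categoryStruct_comp_base,
      secArr_base, secArr_base]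
    show g.left ≫ (lift (1 : G ⟶ A) (𝟙 G)).left = (lift (1 : T ⟶ A) (𝟙 T)).left ≫ (A ◁ g).left
    rw [← Over.comp_left, ← Over.comp_left]
    congr 1
    apply CartesianMonoidalCategory.hom_ext <;> simp
  · rw [Category.assoc, Category.assoc, bcLift_eps, secArr_eps, secArr_eps, jT, jT, ← Category.assoc, hat_comp,
      ← Over.comp_left, comp_toUnit]

theorem isIso_jT_fiber (hei : IsIso e0.fiber) (T : Over (Spec (CommRingCat.of k))) : IsIso (jT e0 T).fiber :=
  isIso_comp_fiber _ _ (isIso_hat _) hei

theorem isIso_secArr_fiber (hei : IsIso e0.fiber) (T : Over (Spec (CommRingCat.of k))) :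
    IsIso (secArr he T).fiber :=
  isIso_fiber_of_comp (secArr_eps he T) (isIso_eps_fiber T) (isIso_jT_fiber hei T)

/-- The value of a point of the theta group along the unit section. -/
def ev {T : Over (Spec (CommRingCat.of k))} (β : thetaPts A L T) : triv T.left ⟶ (⟨A.left, L⟩ : ModSch.{u}) :=
  secArr he T ≫ β.1.hom ≫ eps A L T

theorem ev_base {T : Over (Spec (CommRingCat.of k))} {β : thetaPts A L T} {x : T ⟶ A} (h : IsOverPt β x) :
    (ev he β).base = x.left := by
  rw [ev, Pseudofunctor.CoGrothendieck.categoryStruct_comp_base,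
    Pseudofunctor.CoGrothendieck.categoryStruct_comp_base, secArr_base, h]
  show (lift (1 : T ⟶ A) (𝟙 T)).left ≫ (transl A x).left ≫ (fst A T).left = x.left
  rw [← Over.comp_left, ← Over.comp_left, transl_fst, MonObj.comp_mul, lift_fst, lift_snd_assoc, Category.id_comp,
    _root_.one_mul]

theorem isIso_ev_fiber (hei : IsIso e0.fiber) {T : Over (Spec (CommRingCat.of k))} (β : thetaPts A L T) :
    IsIso (ev he β).fiber :=
  isIso_comp_fiber _ _ (isIso_secArr_fiber he hei T) (isIso_comp_fiber _ _ (isIso_fiber β.1) (isIso_eps_fiber T))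

theorem ev_baseChange {T G : Over (Spec (CommRingCat.of k))} {g : T ⟶ G} {β : thetaPts A L T}
    {u : thetaPts A L G} (h : IsBaseChange β g u) : ev he β = hat g.left ≫ ev he u := by
  rw [ev, ev, ← Category.assoc (hat g.left), secArr_natural, ← bcLift_eps g]
  simp only [Category.assoc]
  rw [← Category.assoc β.1.hom, h, Category.assoc]

theorem ev_act {T : Over (Spec (CommRingCat.of k))} {β β' : thetaPts A L T}
    (a : Γ(T.left, ⊤)) (h : β'.1.hom = act (X := thetaObj A L T) ((snd A T).left.appTop a) β.1.hom) :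
    ev he β' = act (X := triv T.left) a (ev he β) := by
  have ha : (secArr he T).base.appTop ((snd A T).left.appTop a) = a := by
    rw [secArr_base, ← ConcreteCategory.comp_apply, ← Scheme.Hom.comp_appTop, ← Over.comp_left, lift_snd,
      Over.id_left]
    simp
  rw [ev, h, act_comp, comp_act]
  exact congrArg (fun z => act (X := triv T.left) z (ev he β)) ha

variable [IsProper A.hom] [GeometricallyIntegral A.hom]

theorem ev_injective (hL : PicF.IsInvertible L) (hei : IsIso e0.fiber) {T : Over (Spec (CommRingCat.of k))}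
    {β β' : thetaPts A L T} (h : ev he β = ev he β') : β = β' := by
  obtain ⟨x, hx⟩ := β.2
  obtain ⟨x', hx'⟩ := β'.2
  have hxx : x = x' := Over.OverMorphism.ext ((ev_base he hx).symm.trans
    ((congrArg (·.base) h).trans (ev_base he hx')))
  subst hxx
  obtain ⟨a, ha⟩ := exists_eq_act β.1.hom β'.1.hom (hx'.trans hx.symm) (isIso_fiber β.1)
    ((hasCls_clsMod hL).pullback (fst A T).left).1
  obtain ⟨a0, rfl⟩ := (bijective_appTop_snd (A := A) T).2 a
  have h1 := ev_act he a0 ha
  rw [← h] at h1
  have h2 : a0 = 1 := isIso_fiber_act_iff (X := triv T.left) (isIso_ev_fiber he hei β)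
    Euler.isInvertible_structure h1.symm
  refine Subtype.ext (Iso.ext ?_)
  rw [ha, h2, map_one, act_one]

include he in
theorem exists_representing (hL : PicF.IsInvertible L) (hei : IsIso e0.fiber) :
    ∃ (G : Over (Spec (CommRingCat.of k))) (u : thetaPts A L G),
      (LocallyOfFiniteType G.hom ∧ CompactSpace G.left) ∧
      (∀ (T : Over (Spec (CommRingCat.of k))) (β : thetaPts A L T), ∃! g : T ⟶ G, IsBaseChange β g u) ∧
      ∀ (T : Over (Spec (CommRingCat.of k))) (g : T ⟶ G), ∃! β : thetaPts A L T, IsBaseChange β g u := by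
  have hc := hasCls_clsMod hL
  obtain ⟨K, iK, hiK, hK⟩ := exists_mcLocus (A := A) (clsMod hL)
  haveI := hiK
  haveI : IsNoetherianRing (CommRingCat.of k) := inferInstanceAs (IsNoetherianRing k)
  haveI : LocallyOfFiniteType K.hom := by rw [← Over.w iK]; infer_instance
  haveI : IsLocallyNoetherian K.left := LocallyOfFiniteType.isLocallyNoetherian K.hom
  obtain ⟨V, υ, hυ, hlft, hcpt, huniv⟩ := exists_univArrow (X := K.left) (E := (Scheme.Modules.pullback iK.left).obj L)
    (hc.pullback iK.left).1
  let eK : (⟨K.left, (Scheme.Modules.pullback iK.left).obj L⟩ : ModSch.{u}) ⟶ (⟨A.left, L⟩ : ModSch.{u}) :=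
    ⟨iK.left, 𝟙 _⟩
  have heK : IsIso eK.fiber := inferInstanceAs (IsIso (𝟙 _))
  let G : Over (Spec (CommRingCat.of k)) := Over.mk (υ.base ≫ K.hom)
  let q : G ⟶ K := Over.homMk υ.base rfl
  let x0 : G ⟶ A := q ≫ iK
  let w : triv G.left ⟶ (⟨A.left, L⟩ : ModSch.{u}) := υ ≫ eK
  have hw : IsIso w.fiber := isIso_comp_fiber _ _ hυ heK
  have hw0 : pull x0.left (clsMod hL) = 1 := by
    haveI := hυ
    exact ((hc.pullback x0.left).eq (hasCls_structureModule G.left)
      ⟨((asIso υ.fiber).trans ((Scheme.Modules.pullbackComp υ.base iK.left).app L)).symm⟩)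
  obtain ⟨b, hb⟩ := (exists_lift_iff_pull_eq hc x0).2 (by
    have h := KL.translate_of_eq (clsMod hL) x0 ((hK G x0).1 ⟨q, rfl⟩)
    rwa [hw0, map_one, _root_.mul_one] at h)
  have hbi := isIso_ev_fiber he hei b
  have hwb : w.base = (ev he b).base := (ev_base he hb).symm
  obtain ⟨d0, hd0⟩ := exists_eq_act (X := triv G.left) (ev he b) w hwb hbi Euler.isInvertible_structure
  obtain ⟨d1, hd1⟩ := exists_eq_act (X := triv G.left) w (ev he b) hwb.symm hw Euler.isInvertible_structure
  have hdd : d0 * d1 = 1 := by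
    refine isIso_fiber_act_iff (X := triv G.left) hw Euler.isInvertible_structure ?_
    rw [mul_comm, ← act_act, ← hd1, ← hd0]
  let d := (snd A G).left.appTop d0
  let f : thetaObj A L G ⟶ thetaObj A L G := act (X := thetaObj A L G) d b.1.hom
  haveI : IsIso f.base := by
    show IsIso b.1.hom.base
    rw [hb]; exact isIso_transl x0
  haveI : IsIso f := by
    refine isIso_of_isIso_base_fiber f ?_
    haveI := isIso_fiber b.1
    haveI : IsIso (smulModΓ (X := (thetaObj A L G).base) (thetaObj A L G).fiber d) := by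
      refine ⟨smulModΓ (X := (thetaObj A L G).base) (thetaObj A L G).fiber ((snd A G).left.appTop d1), ?_, ?_⟩ <;>
        rw [smulModΓ_mul, ← map_mul]
      · rw [mul_comm, hdd, map_one, smulModΓ_one]
      · rw [hdd, map_one, smulModΓ_one]
    show IsIso (smulModΓ (X := (thetaObj A L G).base) (thetaObj A L G).fiber d ≫ b.1.hom.fiber)
    infer_instance
  let u : thetaPts A L G := ⟨asIso f, x0, hb⟩
  have hu : IsOverPt u x0 := hb
  have hevu : ev he u = w := (ev_act he d0 rfl).trans hd0.symm
  have hfin : LocallyOfFiniteType G.hom ∧ CompactSpace G.left := by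
    haveI := hlft
    haveI : IsLocallyNoetherian A.left := LocallyOfFiniteType.isLocallyNoetherian A.hom
    haveI : CompactSpace A.left := QuasiCompact.compactSpace_of_compactSpace A.hom
    haveI : IsNoetherian A.left := ⟨⟩
    haveI : CompactSpace K.left :=
      iK.left.isEmbedding.isCompact_iff.mpr (TopologicalSpace.NoetherianSpace.isCompact _) |> isCompact_univ_iff.mp
    exact ⟨inferInstanceAs (LocallyOfFiniteType (υ.base ≫ K.hom)), hcpt inferInstance inferInstance⟩
  refine ⟨G, u, hfin, fun T β => ?_, fun T g => ?_⟩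
  · obtain ⟨x, hx⟩ := β.2
    haveI : Mono iK.left := inferInstance
    obtain ⟨y, hy⟩ := (mcLocus_iff_locally_lift hL hK x).2 fun t => by
      obtain ⟨U, htU, -⟩ := exists_open_pull_eq_one (hc.pullback x.left) t
      let σ : Over.mk (U.ι ≫ T.hom) ⟶ T := Over.homMk U.ι rfl
      obtain ⟨β', hβ', -⟩ := exists_baseChange σ β hx
      exact ⟨U, htU, β', hβ'⟩
    obtain ⟨α, hαb, hα⟩ := exists_lift eK heK (ev he β) y.left
      (by rw [ev_base he hx, ← hy]; rfl)
    have hαi : IsIso α.fiber := isIso_fiber_of_comp hα heK (isIso_ev_fiber he hei β)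
    obtain ⟨g0, hg0, hg0u⟩ := huniv T.left α hαi
    have hg0b : g0 ≫ υ.base = y.left := (congrArg (·.base) hg0).trans hαb
    let g : T ⟶ G := Over.homMk g0 (by
      show g0 ≫ υ.base ≫ K.hom = T.hom
      rw [← Category.assoc, hg0b, Over.w y])
    have hg : hat g.left ≫ w = ev he β := by
      show hat g0 ≫ υ ≫ eK = _
      rw [← Category.assoc, hg0, hα]
    obtain ⟨β', -, hβ'⟩ := exists_baseChange g u hu
    have hββ : β' = β := ev_injective he hL hei (by rw [ev_baseChange he hβ', hevu, hg])
    refine ⟨g, hββ ▸ hβ', fun g' hg' => ?_⟩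
    have h1 : hat g'.left ≫ w = ev he β := by rw [ev_baseChange he hg', hevu]
    refine Over.OverMorphism.ext (hg0u g'.left ?_)
    refine lift_unique eK heK _ _ ?_ ?_
    · have h2 := (congrArg (·.base) h1).trans (ev_base he hx)
      rw [← cancel_mono iK.left]
      show (g'.left ≫ υ.base) ≫ iK.left = α.base ≫ iK.left
      rw [hαb, Category.assoc]
      exact h2.trans (congrArg Over.Hom.left hy).symm
    · rw [Category.assoc, hα]; exact h1
  · obtain ⟨β, -, hβ⟩ := exists_baseChange g u hu
    exact ⟨β, hβ, fun β' hβ' => ev_injective he hL hei (by rw [ev_baseChange he hβ', ev_baseChange he hβ])⟩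

end

theorem isBaseChange_mul {T G : Over (Spec (CommRingCat.of k))} {g : T ⟶ G} {β₁ β₂ : thetaPts A L T}
    {u₁ u₂ : thetaPts A L G} (h₁ : IsBaseChange β₁ g u₁) (h₂ : IsBaseChange β₂ g u₂) :
    IsBaseChange (β₁ * β₂) g (u₁ * u₂) := by
  show (β₂.1.hom ≫ β₁.1.hom) ≫ bcLift A L g = bcLift A L g ≫ u₂.1.hom ≫ u₁.1.hom
  rw [Category.assoc, h₁, ← Category.assoc, h₂, Category.assoc]

omit [GrpObj A] in
theorem bcLift_id (T : Over (Spec (CommRingCat.of k))) : bcLift A L (𝟙 T) = 𝟙 (thetaObj A L T) :=
  lift_unique _ (isIso_eps_fiber T) _ _ (congrArg Over.Hom.left (MonoidalCategory.whiskerLeft_id A T))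
    (by rw [bcLift_eps, Category.id_comp])

theorem isBaseChange_id {T : Over (Spec (CommRingCat.of k))} (u : thetaPts A L T) : IsBaseChange u (𝟙 T) u := by
  show u.1.hom ≫ bcLift A L (𝟙 T) = bcLift A L (𝟙 T) ≫ u.1.hom
  rw [bcLift_id, Category.id_comp, Category.comp_id]

theorem isBaseChange_comp {T H G : Over (Spec (CommRingCat.of k))} {g : T ⟶ H} {j : H ⟶ G} {β : thetaPts A L T}
    {b : thetaPts A L H} {u : thetaPts A L G} (h : IsBaseChange β g b) (h' : IsBaseChange b j u) :
    IsBaseChange β (g ≫ j) u := by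
  have hc : bcLift A L g ≫ bcLift A L j = bcLift A L (g ≫ j) :=
    lift_unique _ (isIso_eps_fiber G) _ _ (congrArg Over.Hom.left (MonoidalCategory.whiskerLeft_comp A g j).symm)
      (by rw [Category.assoc, bcLift_eps, bcLift_eps, bcLift_eps])
  rw [ThetaGrp.IsBaseChange, ← hc, ← Category.assoc, h, Category.assoc, h', Category.assoc]

theorem exists_thetaGrpSch [IsProper A.hom] [GeometricallyIntegral A.hom] (hL : PicF.IsInvertible L) :
    ∃ (G : Over (Spec (CommRingCat.of k))) (_ : GrpObj G) (u : thetaPts A L G), IsThetaGrpSch A L G u := by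
  obtain ⟨e0, he, hei⟩ := exists_e0 (A := A) hL
  obtain ⟨G, u, -, huniv, hbc⟩ := exists_representing he hL hei
  have hex : ∀ {T H : Over (Spec (CommRingCat.of k))} (f : T ⟶ H) (b : thetaPts A L H),
      ∃ β : thetaPts A L T, IsBaseChange β f b := fun f b => by
    obtain ⟨β, -, hβ⟩ := exists_baseChange f b b.2.choose_spec
    exact ⟨β, hβ⟩
  choose bc hbcs using @hex
  have huniq : ∀ {T H : Over (Spec (CommRingCat.of k))} {f : T ⟶ H} {b : thetaPts A L H} {β β' : thetaPts A L T},
      IsBaseChange β f b → IsBaseChange β' f b → β = β' := fun h h' =>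
    ev_injective he hL hei (by rw [ev_baseChange he h, ev_baseChange he h'])
  let F : (Over (Spec (CommRingCat.of k)))ᵒᵖ ⥤ GrpCat.{u} :=
    { obj := fun T => GrpCat.of (thetaPts A L T.unop)
      map := fun f => GrpCat.ofHom (MonoidHom.mk' (bc f.unop) fun a b =>
        huniq (hbcs _ _) (isBaseChange_mul (hbcs _ _) (hbcs _ _)))
      map_id := fun T => GrpCat.hom_ext (MonoidHom.ext fun b => huniq (hbcs _ _) (isBaseChange_id b))
      map_comp := fun f g => GrpCat.hom_ext (MonoidHom.ext fun b =>
        huniq (hbcs _ _) (isBaseChange_comp (hbcs _ _) (hbcs _ _))) }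
  let eq : ∀ T : Over (Spec (CommRingCat.of k)), (T ⟶ G) ≃ thetaPts A L T := fun T =>
    Equiv.ofBijective (fun g => bc g u) ⟨fun g g' h => (huniv T (bc g u)).unique (hbcs g u) (by
      rw [show bc g u = bc g' u from h]; exact hbcs g' u),
      fun β => ⟨(huniv T β).choose, huniq (hbcs _ _) (huniv T β).choose_spec.1⟩⟩
  let α : (F ⋙ forget _).RepresentableBy G :=
    { homEquiv := fun {T} => eq T
      homEquiv_comp := fun f g => huniq (hbcs _ _) (isBaseChange_comp (hbcs f (bc g u)) (hbcs g u)) }
  letI : GrpObj G := GrpObj.ofRepresentableBy G F α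
  refine ⟨G, inferInstance, u, huniv, hbc, fun T g h β₁ β₂ h₁ h₂ => ?_⟩
  have hm : eq T (g * h) = eq T g * eq T h := by
    show α.homEquiv' (lift g h ≫ α.homEquiv'.symm (α.homEquiv' (fst G G) * α.homEquiv' (snd G G))) =
      α.homEquiv' g * α.homEquiv' h
    rw [α.homEquiv'_comp, Equiv.apply_symm_apply, map_mul, ← α.homEquiv'_comp, ← α.homEquiv'_comp, lift_fst,
      lift_snd]
  have e₁ : β₁ = eq T g := huniq h₁ (hbcs g u)
  have e₂ : β₂ = eq T h := huniq h₂ (hbcs h u)
  rw [e₁, e₂, ← hm]
  exact hbcs (g * h) u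

end GrothLib.ThetaGrp15
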