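import Groth.Agent.Lib.ThetaGrp15.Cocycle
import Groth.Agent.Lib.ThetaGrp15.HopfSplit
import Groth.Agent.Lib.ASBun21.FibreTwist
import Groth.Agent.Lib.GrpDeligne.Basic
import Mathlib.AlgebraicGeometry.Group.Affine
import Mathlib.RingTheory.Spectrum.Prime.Noetherian

/-!
# Isotropic finite subgroups of `K(L)` lift to the theta group over an algebraically closed field
-/

universe u

open CategoryTheory CategoryTheory.Limits MonoidalCategory CartesianMonoidalCategory AlgebraicGeometry Opposite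
open scoped MonObj TensorProduct
open WithConv

set_option backward.isDefEq.respectTransparency false
set_option maxHeartbeats 800000

noncomputable section

namespace GrothLib.ThetaGrp15

open ThetaGrp GrothLib.Cube

variable {k : Type u} [Field k]

/-- The spectrum of an algebra. -/
abbrev specK (k : Type u) [Field k] (T : Type u) [CommRing T] [Algebra k T] : Over (Spec (CommRingCat.of k)) :=
  (Spec (CommRingCat.of T)).asOver (Spec (CommRingCat.of k))

/-- The functions on the spectrum of an algebra. -/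
def ev0 (k : Type u) [Field k] (T : Type u) [CommRing T] [Algebra k T] : Γ((specK k T).left, ⊤) ≃+* T :=
  (Scheme.ΓSpecIso (CommRingCat.of T)).commRingCatIsoToRingEquiv

theorem ev0_natural {S T : Type u} [CommRing S] [CommRing T] [Algebra k S] [Algebra k T] (φ : S →ₐ[k] T)
    (g : specK k T ⟶ specK k S) (hg : g.left = Spec.map (CommRingCat.ofHom φ.toRingHom))
    (r : Γ((specK k S).left, ⊤)) : ev0 k T (g.left.appTop r) = φ (ev0 k S r) := by
  rw [hg]
  exact ConcreteCategory.congr_hom (Scheme.ΓSpecIso_naturality (CommRingCat.ofHom φ.toRingHom)) r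

theorem kap_mk {T : Type u} [CommRing T] [Algebra k T] {H : Type u} [CommRing H] [HopfAlgebra k H]
    (a b : WithConv (H →ₐ[k] T)) :
    let φ := Algebra.TensorProduct.lift a.ofConv b.ofConv (fun _ _ => Commute.all _ _)
    let g : specK k T ⟶ specK k (H ⊗[k] H) := (Spec.map (CommRingCat.ofHom φ.toRingHom)).asOver _
    g ≫ Spec.mapMulEquiv (toConv (Algebra.TensorProduct.includeLeft : H →ₐ[k] H ⊗[k] H)) = Spec.mapMulEquiv a ∧
      g ≫ Spec.mapMulEquiv (toConv (Algebra.TensorProduct.includeRight : H →ₐ[k] H ⊗[k] H)) = Spec.mapMulEquiv b := by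
  constructor <;>
  · ext1
    show Spec.map _ ≫ Spec.map _ = Spec.map _
    rw [← Spec.map_comp, ← CommRingCat.ofHom_comp]
    congr 2
    ext x
    simp

variable {A G : Over (Spec (CommRingCat.of k))} [GrpObj A] [IsCommMonObj A] [IsProper A.hom]
  [GeometricallyIntegral A.hom] [GrpObj G] {L : A.left.Modules}

theorem exists_actPt {T : Over (Spec (CommRingCat.of k))} (β : thetaPts A L T) {x : T ⟶ A} (hβ : IsOverPt β x)
    {a : Γ(T.left, ⊤)} (ha : IsUnit a) :
    ∃ β' : thetaPts A L T, IsOverPt β' x ∧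
      β'.1.hom = act (X := thetaObj A L T) ((snd A T).left.appTop a) β.1.hom := by
  let f : thetaObj A L T ⟶ thetaObj A L T := act (X := thetaObj A L T) ((snd A T).left.appTop a) β.1.hom
  haveI : IsIso f.base := by
    show IsIso β.1.hom.base
    rw [hβ]; exact isIso_transl x
  haveI : IsIso f := isIso_of_isIso_base_fiber f (isIso_fiber_act (ha.map _) (isIso_fiber β.1))
  exact ⟨⟨asIso f, x, hβ⟩, hβ, rfl⟩

theorem exists_lift_spec [IsAlgClosed k] {H : Type u} [CommRing H] [HopfAlgebra k H] [Coalgebra.IsCocomm k H]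
    [FiniteDimensional k H] (iP : specK k H ⟶ A) [IsMonHom iP] (hL : PicF.IsInvertible L)
    {K : Over (Spec (CommRingCat.of k))} {iK : K ⟶ A} (hK : IsKL A L iK) (hPK : ∃ y, y ≫ iK = iP)
    (hiso : IsIsotropic L iP) {u : thetaPts A L G} (hG : IsThetaGrpSch A L G u) :
    ∃ j : specK k H ⟶ G, IsMonHom j ∧
      ∀ (T : Over (Spec (CommRingCat.of k))) (n : T ⟶ specK k H) (β : thetaPts A L T),
        IsBaseChange β (n ≫ j) u → IsOverPt β (n ≫ iP) := by
  let P := specK k H
  haveI : IsArtinianRing H := IsArtinianRing.of_finite k H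
  haveI : DiscreteTopology P.left := inferInstanceAs (DiscreteTopology (PrimeSpectrum H))
  have hc := hasCls_clsMod hL
  -- a family of lifts
  have h0 : pull iP.left (clsMod hL) = 1 :=
    (hc.pullback iP.left).eq (hasCls_structureModule P.left)
      (ASBun21.nonempty_iso_unit_of_discrete (hc.pullback iP.left).1)
  obtain ⟨b₀, hb₀⟩ := (exists_lift_iff_pull_eq hc iP).2 (by
    have h := KL.translate_of_eq (clsMod hL) iP ((KL.factors_iff hc hK _).1 hPK)
    rwa [h0, map_one, _root_.mul_one] at h)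
  -- the cocycle
  let pt : ∀ {T : Type u} [CommRing T] [Algebra k T], WithConv (H →ₐ[k] T) ≃* (specK k T ⟶ P) :=
    fun {T} _ _ => Spec.mapMulEquiv
  let a : specK k (H ⊗[k] H) ⟶ P := pt (toConv (Algebra.TensorProduct.includeLeft : H →ₐ[k] H ⊗[k] H))
  let b : specK k (H ⊗[k] H) ⟶ P := pt (toConv (Algebra.TensorProduct.includeRight : H →ₐ[k] H ⊗[k] H))
  let c : H ⊗[k] H := ev0 k (H ⊗[k] H) (Kc b₀ hb₀ hL a b)
  have hkap : ∀ {T : Type u} [CommRing T] [Algebra k T] (f g : WithConv (H →ₐ[k] T)),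
      kap c f g = ev0 k T (Kc b₀ hb₀ hL (pt f) (pt g)) := by
    intro T _ _ f g
    obtain ⟨h1, h2⟩ := kap_mk f g
    show _ = ev0 k T (Kc b₀ hb₀ hL (Spec.mapMulEquiv f) (Spec.mapMulEquiv g))
    rw [← h1, ← h2, Kc_natural b₀ hb₀ hL]
    exact (ev0_natural (Algebra.TensorProduct.lift f.ofConv g.ofConv (fun _ _ => Commute.all _ _)) _ rfl _).symm
  obtain ⟨y, hy, hyeq⟩ := exists_coboundary_of_cocycle c ((Kc_unit b₀ hb₀ hL a b).map _)
    (fun f g => by rw [hkap f g, hkap g f, Kc_symm b₀ hb₀ hL hiso])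
    (fun f g h => by
      have e1 : pt (f * g) = pt f * pt g := map_mul _ _ _
      have e2 : pt (g * h) = pt g * pt h := map_mul _ _ _
      rw [hkap f g, hkap (f * g) h, hkap g h, hkap f (g * h), e1, e2]
      refine ((map_mul _ _ _).symm.trans (congrArg _ ?_)).trans (map_mul _ _ _)
      exact Kc_assoc b₀ hb₀ hL _ _ _)
  obtain ⟨Y, rfl⟩ := (ev0 k H).surjective y
  replace hy : IsUnit Y := by simpa using hy.map (ev0 k H).symm
  -- the coboundary equation on all points
  have huniv : Kc b₀ hb₀ hL a b * (a * b).left.appTop Y = a.left.appTop Y * b.left.appTop Y := by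
    have hval : ∀ f : WithConv (H →ₐ[k] H ⊗[k] H), ev0 k (H ⊗[k] H) ((pt f).left.appTop Y) = f.ofConv (ev0 k H Y) :=
      fun f => ev0_natural f.ofConv _ rfl _
    refine (ev0 k (H ⊗[k] H)).injective ?_
    rw [map_mul, map_mul, show (a * b) = pt (_ * _) from (map_mul pt _ _).symm, hval, hval, hval, ← hyeq, hkap]
  haveI : IsIso (lift a b).left := by
    have e : (lift a b).left = (pullbackSpecIso k H H).inv := by
      apply pullback.hom_ext
      · exact (congrArg Over.Hom.left (lift_fst a b)).trans (pullbackSpecIso_inv_fst k H H).symm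
      · exact (congrArg Over.Hom.left (lift_snd a b)).trans (pullbackSpecIso_inv_snd k H H).symm
    rw [e]; infer_instance
  haveI : IsIso (lift a b) := by
    haveI : IsIso ((Over.forget _).map (lift a b)) := ‹_›
    exact isIso_of_reflects_iso _ (Over.forget _)
  have hcob : ∀ {T : Over (Spec (CommRingCat.of k))} (x z : T ⟶ P),
      Kc b₀ hb₀ hL x z * (x * z).left.appTop Y = x.left.appTop Y * z.left.appTop Y := by
    intro T x z
    let g := lift x z ≫ inv (lift a b)
    have hx : g ≫ a = x := by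
      calc g ≫ a = g ≫ lift a b ≫ fst P P := by rw [lift_fst]
        _ = x := by rw [Category.assoc, IsIso.inv_hom_id_assoc, lift_fst]
    have hz : g ≫ b = z := by
      calc g ≫ b = g ≫ lift a b ≫ snd P P := by rw [lift_snd]
        _ = z := by rw [Category.assoc, IsIso.inv_hom_id_assoc, lift_snd]
    clear_value g
    subst hx; subst hz
    rw [Kc_natural b₀ hb₀ hL, ← MonObj.comp_mul]
    simp only [Over.comp_left, Scheme.Hom.comp_appTop, ConcreteCategory.comp_apply]
    have h := congrArg (fun r => g.left.appTop r) huniv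
    simp only [map_mul] at h
    exact h
  -- the corrected family
  obtain ⟨d, hd⟩ := hy.exists_right_inv
  have hdu : IsUnit d := IsUnit.of_mul_eq_one Y (by rw [mul_comm]; exact hd)
  choose D hDo hDe using fun (T : Over (Spec (CommRingCat.of k))) (x : T ⟶ P) =>
    exists_actPt (Bc b₀ hb₀ x) (Bc_over b₀ hb₀ x) (hdu.map x.left.appTop.hom)
  obtain ⟨b₁, hb₁o, hb₁⟩ := exists_actPt b₀ hb₀ hdu
  have hbc : ∀ {T : Over (Spec (CommRingCat.of k))} (x : T ⟶ P), IsBaseChange (D T x) x b₁ := by
    intro T x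
    rw [ThetaGrp.IsBaseChange, hDe, hb₁, act_comp, comp_act,
      show (Bc b₀ hb₀ x).1.hom ≫ bcLift A L x = _ from Bc_spec b₀ hb₀ x]
    congr 1
    show (snd A T).left.appTop (x.left.appTop d) = (A ◁ x).left.appTop ((snd A P).left.appTop d)
    rw [← ConcreteCategory.comp_apply, ← ConcreteCategory.comp_apply, ← Scheme.Hom.comp_appTop,
      ← Scheme.Hom.comp_appTop, ← Over.comp_left, ← Over.comp_left, whiskerLeft_snd]
  have hmul : ∀ {T : Over (Spec (CommRingCat.of k))} (x z : T ⟶ P), D T x * D T z = D T (x * z) := by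
    intro T x z
    refine Subtype.ext (Iso.ext ?_)
    show (D T z).1.hom ≫ (D T x).1.hom = (D T (x * z)).1.hom
    rw [hDe, hDe, hDe, act_comp, comp_act, transl_snd_appTop (Bc_over b₀ hb₀ z),
      show (Bc b₀ hb₀ z).1.hom ≫ (Bc b₀ hb₀ x).1.hom = _ from Kc_spec b₀ hb₀ hL x z, act_act, act_act,
      ← map_mul, ← map_mul]
    congr 2
    rw [← _root_.mul_assoc]
    have h := hcob x z
    have h1 : ∀ w : T ⟶ P, w.left.appTop Y * w.left.appTop d = 1 := fun w => by rw [← map_mul, hd, map_one]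
    calc Kc b₀ hb₀ hL x z * x.left.appTop d * z.left.appTop d
        = ((x * z).left.appTop Y * (x * z).left.appTop d) *
            (Kc b₀ hb₀ hL x z * x.left.appTop d * z.left.appTop d) := by rw [h1, _root_.one_mul]
      _ = (Kc b₀ hb₀ hL x z * (x * z).left.appTop Y) *
            ((x * z).left.appTop d * x.left.appTop d * z.left.appTop d) := by ring
      _ = (x.left.appTop Y * x.left.appTop d) * (z.left.appTop Y * z.left.appTop d) *
            (x * z).left.appTop d := by rw [h]; ring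
      _ = (x * z).left.appTop d := by rw [h1, h1, _root_.one_mul, _root_.one_mul]
  obtain ⟨j, hj, -⟩ := hG.univ P b₁
  have hju : ∀ {T : Over (Spec (CommRingCat.of k))} (x : T ⟶ P), IsBaseChange (D T x) (x ≫ j) u :=
    fun x => isBaseChange_comp (hbc x) hj
  have hjm : ∀ {T : Over (Spec (CommRingCat.of k))} (x z : T ⟶ P), (x * z) ≫ j = (x ≫ j) * (z ≫ j) :=
    fun x z => (hG.univ _ (D _ (x * z))).unique (hju _) (hmul x z ▸ hG.mul _ _ _ _ _ (hju x) (hju z))
  have hone : (1 : 𝟙_ _ ⟶ P) ≫ j = 1 := left_eq_mul.1 (by rw [← hjm, _root_.one_mul] :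
    (1 : 𝟙_ _ ⟶ P) ≫ j = ((1 : 𝟙_ _ ⟶ P) ≫ j) * ((1 : 𝟙_ _ ⟶ P) ≫ j))
  refine ⟨j, ?_, fun T n β hβ => ?_⟩
  · constructor
    · simpa [Hom.one_def] using hone
    · rw [show μ[P] = fst P P * snd P P by rw [Hom.mul_def]; simp, hjm, Hom.mul_def]
      congr 1
  · rw [(hG.exists_bc T (n ≫ j)).unique hβ (hju n)]
    exact hDo T n

theorem exists_lift_kernel [IsAlgClosed k] {N : Over (Spec (CommRingCat.of k))} [GrpObj N] [IsCommMonObj N]
    [IsFinite N.hom] (i : N ⟶ A) [IsMonHom i] (hL : PicF.IsInvertible L)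
    {K : Over (Spec (CommRingCat.of k))} {iK : K ⟶ A} (hK : IsKL A L iK) (hNK : ∃ y, y ≫ iK = i)
    (hiso : IsIsotropic L i) {u : thetaPts A L G} (hG : IsThetaGrpSch A L G u) :
    ∃ j : N ⟶ G, IsMonHom j ∧
      ∀ (T : Over (Spec (CommRingCat.of k))) (n : T ⟶ N) (β : thetaPts A L T),
        IsBaseChange β (n ≫ j) u → IsOverPt β (n ≫ i) := by
  have haff : IsAffine N.left := isAffine_of_isAffineHom N.hom
  obtain ⟨H', ⟨e⟩⟩ := (essImage_hopfSpec (R := CommRingCat.of k) (G := Grp.mk N)).2 haff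
  obtain ⟨H, rfl⟩ : ∃ H, Opposite.op H = H' := ⟨H'.unop, rfl⟩
  let e₀ : specK k (H : Type u) ≅ N := (Grp.forget _).mapIso e
  haveI : IsMonHom e₀.hom := e.hom.hom.isMonHom_hom
  haveI : Coalgebra.IsCocomm k (H : Type u) := GrpDeligne.isCocomm_of_commGroup fun T _ _ a b => by
    apply Spec.mapMulEquiv.injective
    rw [map_mul, map_mul]
    apply (cancel_mono e₀.hom).1
    simp only [MonObj.mul_comp]
    exact mul_comm _ _
  haveI : IsFinite (Spec.map (CommRingCat.ofHom (algebraMap k H))) := by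
    have : IsFinite (specK k (H : Type u)).hom := by rw [← Over.w e₀.hom]; infer_instance
    exact this
  haveI : Module.Finite k H := RingHom.finite_algebraMap.1 ((IsFinite.SpecMap_iff _).1 ‹_›)
  obtain ⟨y, hy⟩ := hNK
  obtain ⟨j, hjh, hjl⟩ := exists_lift_spec (H := (H : Type u)) (e₀.hom ≫ i) hL hK
    ⟨e₀.hom ≫ y, by rw [Category.assoc, hy]⟩
    (fun T x z β₁ β₂ h₁ h₂ => hiso T (x ≫ e₀.hom) (z ≫ e₀.hom) β₁ β₂ (by rwa [Category.assoc])
      (by rwa [Category.assoc])) hG
  refine ⟨e₀.inv ≫ j, inferInstance, fun T n β hβ => ?_⟩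
  have h := hjl T (n ≫ e₀.inv) β (by rwa [Category.assoc])
  rwa [Category.assoc, e₀.inv_hom_id_assoc] at h

end GrothLib.ThetaGrp15
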