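import Groth.Agent.Lib.ThetaGrp15.Commutator

/-!
# When `K(L)` is everything the theta group is commutative
-/

universe u

open CategoryTheory CategoryTheory.Limits MonoidalCategory CartesianMonoidalCategory AlgebraicGeometry Opposite
open scoped MonObj

set_option backward.isDefEq.respectTransparency false
set_option maxHeartbeats 400000

noncomputable section

namespace GrothLib.ThetaGrp15

open ThetaGrp

variable {k : Type u} [Field k] {A : Over (Spec (CommRingCat.of k))} [GrpObj A] [IsProper A.hom]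
  [GeometricallyIntegral A.hom] [IsCommMonObj A] {L : A.left.Modules} {T : Over (Spec (CommRingCat.of k))}

/-- An open subscheme over the base. -/
abbrev opn (T : Over (Spec (CommRingCat.of k))) (U : T.left.Opens) : Over (Spec (CommRingCat.of k)) :=
  Over.mk (U.ι ≫ T.hom)

/-- Its inclusion. -/
abbrev inc (T : Over (Spec (CommRingCat.of k))) (U : T.left.Opens) : opn T U ⟶ T := Over.homMk U.ι rfl

/-- `c` is the commutator of some lifts of `x` and `y`. -/
def IsCommPts (L : A.left.Modules) (x y : T ⟶ A) (c : Γ(T.left, ⊤)) : Prop :=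
  ∃ β₁ β₂ : thetaPts A L T, IsOverPt β₁ x ∧ IsOverPt β₂ y ∧ IsComm β₁ β₂ c

theorem isCommPts_pull {x y : T ⟶ A} {c : Γ(T.left, ⊤)} (h : IsCommPts L x y c)
    {W : Over (Spec (CommRingCat.of k))} (g : W ⟶ T) : IsCommPts L (g ≫ x) (g ≫ y) (g.left.appTop c) := by
  obtain ⟨u₁, u₂, h₁, h₂, hc⟩ := h
  obtain ⟨β₁, h₁', b₁⟩ := exists_baseChange g u₁ h₁
  obtain ⟨β₂, h₂', b₂⟩ := exists_baseChange g u₂ h₂
  exact ⟨β₁, β₂, h₁', h₂', isComm_baseChange b₁ b₂ hc⟩

theorem isCommPts_unique (hL : PicF.IsInvertible L) {x y : T ⟶ A} {c c' : Γ(T.left, ⊤)}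
    (h : IsCommPts L x y c) (h' : IsCommPts L x y c') : c = c' := by
  obtain ⟨β₁, β₂, h₁, h₂, hc⟩ := h
  obtain ⟨γ₁, γ₂, g₁, g₂, hc'⟩ := h'
  exact isComm_unique hL (isComm_congr hL h₁ h₂ g₁ g₂ hc) hc'

theorem isCommPts_one (hL : PicF.IsInvertible L) : IsCommPts L (1 : T ⟶ A) 1 1 := by
  refine ⟨1, 1, ?_, ?_, ?_⟩
  · show (1 : thetaPts A L T).1.hom.base = _
    rw [transl_one]; rfl
  · show (1 : thetaPts A L T).1.hom.base = _
    rw [transl_one]; rfl
  · obtain ⟨c, hc⟩ := exists_isComm hL (1 : thetaPts A L T) 1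
    rwa [(commute_iff hL hc).1 rfl] at hc

/-- On an open piece of `A × A` there are lifts of the two projections. -/
theorem exists_isCommPts (hL : PicF.IsInvertible L) (hK : IsKL A L (𝟙 A)) (x y : T ⟶ A) (t : T.left) :
    ∃ U : T.left.Opens, t ∈ U ∧ ∃ c, IsCommPts L (inc T U ≫ x) (inc T U ≫ y) c := by
  obtain ⟨U, htU, u, hu⟩ := (factors_iff_locally_lift hL hK x).1 ⟨x, Category.comp_id x⟩ t
  obtain ⟨V, htV, v, hv⟩ := (factors_iff_locally_lift hL hK y).1 ⟨y, Category.comp_id y⟩ t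
  let gU : opn T (U ⊓ V) ⟶ opn T U :=
    Over.homMk (T.left.homOfLE inf_le_left) (by simp [← Category.assoc])
  let gV : opn T (U ⊓ V) ⟶ opn T V :=
    Over.homMk (T.left.homOfLE inf_le_right) (by simp [← Category.assoc])
  obtain ⟨β₁, h₁, -⟩ := exists_baseChange gU u hu
  obtain ⟨β₂, h₂, -⟩ := exists_baseChange gV v hv
  obtain ⟨c, hc⟩ := exists_isComm hL β₁ β₂
  refine ⟨U ⊓ V, ⟨htU, htV⟩, c, β₁, β₂, ?_, ?_, hc⟩
  · convert h₁ using 1
    rw [← Category.assoc]; congr 1
    exact Over.OverMorphism.ext (Scheme.homOfLE_ι T.left (inf_le_left : U ⊓ V ≤ U)).symm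
  · convert h₂ using 1
    rw [← Category.assoc]; congr 1
    exact Over.OverMorphism.ext (Scheme.homOfLE_ι T.left (inf_le_right : U ⊓ V ≤ V)).symm

theorem topIso_homOfLE {X : Scheme.{u}} {U V : X.Opens} (e : V ≤ U) (c : Γ(U, ⊤)) :
    V.topIso.hom ((X.homOfLE e).appTop c) = X.presheaf.map (homOfLE e).op (U.topIso.hom c) := by
  rw [Scheme.homOfLE_appTop, ← ConcreteCategory.comp_apply, ← ConcreteCategory.comp_apply]
  refine congrArg (fun φ : Γ(U, ⊤) ⟶ Γ(X, V) => φ c) ?_
  simp only [Scheme.Opens.topIso_hom, Scheme.Opens.toScheme_presheaf_map, ← Functor.map_comp]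
  rfl

/-- The commutator of the projections of `A × A` glues to a function, necessarily `1`. -/
theorem isCommPts_proj_eq_one (hL : PicF.IsInvertible L) (hK : IsKL A L (𝟙 A)) {U : (A ⊗ A).left.Opens}
    {c : Γ(U, ⊤)} (h : IsCommPts L (inc _ U ≫ fst A A) (inc _ U ≫ snd A A) c) : c = 1 := by
  let P : Over (Spec (CommRingCat.of k)) := A ⊗ A
  let I := Σ U : P.left.Opens, {c : Γ(U, ⊤) // IsCommPts L (inc P U ≫ fst A A) (inc P U ≫ snd A A) c}
  have hcov : (⊤ : P.left.Opens) ≤ ⨆ i : I, i.1 := fun t _ => by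
    obtain ⟨U, htU, d, hd⟩ := exists_isCommPts hL hK (fst A A) (snd A A) t
    exact TopologicalSpace.Opens.mem_iSup.2 ⟨⟨U, d, hd⟩, htU⟩
  have hincl : ∀ {U V : P.left.Opens} (e : V ≤ U) (z : P ⟶ A),
      (Over.homMk (P.left.homOfLE e) (by simp [← Category.assoc]) : opn P V ⟶ opn P U) ≫ inc P U ≫ z = inc P V ≫ z :=
    fun e z => Over.OverMorphism.ext (Scheme.homOfLE_ι_assoc P.left e z.left)
  have hres : ∀ (i : I) {V : P.left.Opens} (e : V ≤ i.1),
      IsCommPts L (inc P V ≫ fst A A) (inc P V ≫ snd A A) ((P.left.homOfLE e).appTop i.2.1) := fun i V e => by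
    rw [← hincl e (fst A A), ← hincl e (snd A A)]
    exact isCommPts_pull i.2.2
      (Over.homMk (P.left.homOfLE e) (by simp [← Category.assoc]) : opn P V ⟶ opn P i.1)
  obtain ⟨C, hC, -⟩ := P.left.sheaf.existsUnique_gluing' (fun i : I => i.1) ⊤ (fun i => homOfLE le_top) hcov
    (fun i => i.1.topIso.hom i.2.1) (fun i j => by
      show P.left.presheaf.map _ _ = P.left.presheaf.map _ _
      refine (topIso_homOfLE inf_le_left _).symm.trans (Eq.trans ?_ (topIso_homOfLE inf_le_right _))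
      exact congrArg _ (isCommPts_unique hL (hres i inf_le_left) (hres j inf_le_right)))
  haveI := Cube.smooth_abVar A
  haveI : GeometricallyConnected A.hom := Rigidity.geometricallyConnected_of_geometricallyIrreducible A.hom
  obtain ⟨c₀, hc₀⟩ := (GmExt15.bijective_appTop_prod A).2 C
  have hval : ∀ i : I, i.2.1 = i.1.ι.appTop (P.hom.appTop c₀) := fun i => by
    have h1 : i.1.topIso.hom (i.1.ι.appTop C) = P.left.presheaf.map (homOfLE le_top).op C := by
      rw [← ConcreteCategory.comp_apply]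
      refine congrArg (fun φ : Γ(P.left, ⊤) ⟶ Γ(P.left, i.1) => φ C) ?_
      simp only [Scheme.Opens.ι_appTop, Scheme.Opens.topIso_hom, ← Functor.map_comp]
      rfl
    refine ((ConcreteCategory.bijective_of_isIso i.1.topIso.hom).1 ?_)
    rw [hc₀, h1]
    exact (hC i).symm
  have hone : c₀ = 1 := by
    let o : 𝟙_ _ ⟶ P := lift 1 1
    haveI : Nonempty ↥(𝟙_ (Over (Spec (CommRingCat.of k)))).left :=
      inferInstanceAs (Nonempty (PrimeSpectrum k))
    obtain ⟨U₀, h₀, d, hd⟩ := exists_isCommPts hL hK (fst A A) (snd A A) (o.left (Classical.arbitrary _))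
    have hrange : Set.range o.left ⊆ Set.range U₀.ι := by
      rintro _ ⟨z, rfl⟩
      rw [Scheme.Opens.range_ι]
      haveI : Subsingleton ↥(𝟙_ (Over (Spec (CommRingCat.of k)))).left :=
        inferInstanceAs (Subsingleton (PrimeSpectrum k))
      exact Subsingleton.elim (Classical.arbitrary _) z ▸ h₀
    let g : 𝟙_ _ ⟶ opn P U₀ := Over.homMk (IsOpenImmersion.lift U₀.ι o.left hrange) (by
      rw [show (opn P U₀).hom = U₀.ι ≫ P.hom from rfl, IsOpenImmersion.lift_fac_assoc]; exact Over.w o)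
    have hg : g ≫ inc P U₀ = o := Over.OverMorphism.ext (IsOpenImmersion.lift_fac _ _ _)
    have h2 := isCommPts_pull hd g
    rw [← Category.assoc, ← Category.assoc, hg, lift_fst, lift_snd] at h2
    have h3 := isCommPts_unique hL h2 (isCommPts_one hL)
    have hw : g.left ≫ U₀.ι ≫ P.hom = 𝟙 _ := Over.w g
    have e := congrArg (fun q : Spec (CommRingCat.of k) ⟶ Spec (CommRingCat.of k) => q.appTop c₀) hw
    simp at e
    rw [show d = U₀.ι.appTop (P.hom.appTop c₀) from hval ⟨U₀, d, hd⟩] at h3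
    simp at h3
    exact e.symm.trans h3
  rw [show c = U.ι.appTop (P.hom.appTop c₀) from hval ⟨U, c, h⟩, hone, map_one, map_one]

theorem mul_comm_of_isKL_id (hL : PicF.IsInvertible L) (hK : IsKL A L (𝟙 A)) (β₁ β₂ : thetaPts A L T) :
    β₁ * β₂ = β₂ * β₁ := by
  obtain ⟨x, hx⟩ := β₁.2
  obtain ⟨y, hy⟩ := β₂.2
  obtain ⟨c, hc⟩ := exists_isComm hL β₁ β₂
  refine (commute_iff hL hc).2 ?_
  let h : T ⟶ A ⊗ A := lift x y
  have hloc : ∀ t : T.left, ∃ W : T.left.Opens, t ∈ W ∧ W.ι.appTop c = 1 := fun t => by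
    obtain ⟨U, htU, d, hd⟩ := exists_isCommPts hL hK (fst A A) (snd A A) (h.left t)
    let W := h.left ⁻¹ᵁ U
    have hle : Set.range (W.ι ≫ h.left) ⊆ Set.range U.ι := by
      rw [Scheme.Opens.range_ι]
      rintro _ ⟨w, rfl⟩
      exact w.2
    let g : opn T W ⟶ opn (A ⊗ A) U := Over.homMk (IsOpenImmersion.lift U.ι (W.ι ≫ h.left) hle) (by
      rw [show (opn (A ⊗ A) U).hom = U.ι ≫ (A ⊗ A).hom from rfl, IsOpenImmersion.lift_fac_assoc, Category.assoc,
        Over.w h]; rfl)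
    have hg : g ≫ inc (A ⊗ A) U = inc T W ≫ h := Over.OverMorphism.ext (IsOpenImmersion.lift_fac _ _ _)
    have h1 := isCommPts_pull hd g
    rw [isCommPts_proj_eq_one hL hK hd, map_one, ← Category.assoc, ← Category.assoc, hg, Category.assoc,
      Category.assoc, lift_fst, lift_snd] at h1
    exact ⟨W, htU, isCommPts_unique hL (isCommPts_pull ⟨β₁, β₂, hx, hy, hc⟩ (inc T W)) h1⟩
  choose W htW hW using hloc
  refine T.left.sheaf.eq_of_locally_eq' W ⊤ (fun t => homOfLE le_top)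
    (fun t _ => TopologicalSpace.Opens.mem_iSup.2 ⟨t, htW t⟩) c 1 fun t => ?_
  show T.left.presheaf.map (homOfLE le_top).op c = T.left.presheaf.map (homOfLE le_top).op 1
  have h1 := congrArg (W t).topIso.hom (hW t)
  rw [map_one] at h1
  rw [map_one, ← h1, ← ConcreteCategory.comp_apply]
  refine congrArg (fun φ : Γ(T.left, ⊤) ⟶ Γ(T.left, W t) => φ c) ?_
  simp only [Scheme.Opens.ι_appTop, Scheme.Opens.topIso_hom, ← Functor.map_comp]
  rfl

end GrothLib.ThetaGrp15
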