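import Groth.Agent.Lib.ThetaGrp15.GmTorsor
import Groth.Agent.Lib.ThetaGrp15.BaseChange
import Groth.Agent.Lib.ThetaGrp15.FunDesc

/-!
# The universal trivialising arrow
-/

universe u

open CategoryTheory CategoryTheory.Limits AlgebraicGeometry Opposite TopologicalSpace

set_option backward.isDefEq.respectTransparency false
set_option maxHeartbeats 800000

noncomputable section

namespace GrothLib.ThetaGrp15

open GrothLib.PBDeg (quotAlong unitI isIso_unitI unitI_comp)
open ThetaGrp

/-- A scheme with its structure module. -/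
abbrev triv (T : Scheme.{u}) : ModSch.{u} := ⟨T, Coh.structureModule T⟩

/-- The canonical arrow between structure modules. -/
def hat {T P : Scheme.{u}} (x : T ⟶ P) : triv T ⟶ triv P :=
  ⟨x, letI := isIso_unitI x; inv (unitI x)⟩

theorem isIso_hat {T P : Scheme.{u}} (x : T ⟶ P) : IsIso (hat x).fiber := by
  dsimp [hat]; infer_instance

theorem inv_comp_helper {C D : Type*} [Category C] [Category D] (F : C ⥤ D) {A B : C} {P O : D} (c : P ≅ F.obj A)
    (u : A ⟶ B) [IsIso u] (v : F.obj B ⟶ O) [IsIso v] (w : P ⟶ O) [IsIso w] (h : c.hom ≫ F.map u ≫ v = w) :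
    inv v ≫ F.map (inv u) ≫ c.inv = inv w := by
  subst h; simp

theorem hat_comp {T' T P : Scheme.{u}} (y : T' ⟶ T) (x : T ⟶ P) : hat y ≫ hat x = hat (y ≫ x) := by
  refine Pseudofunctor.CoGrothendieck.Hom.ext _ _ rfl ?_
  haveI := isIso_unitI x
  haveI := isIso_unitI y
  haveI := isIso_unitI (y ≫ x)
  simp only [Pseudofunctor.CoGrothendieck.categoryStruct_comp_fiber, eqToHom_refl, Category.comp_id]
  refine Eq.trans ?_ (inv_comp_helper (Scheme.Modules.pullback y) ((Scheme.Modules.pullbackComp y x).app _).symm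
    (unitI x) (unitI y) (unitI (y ≫ x)) ?_)
  · dsimp [hat]
    rfl
  · rw [← unitI_comp x y rfl]
    simp [quotAlong, Scheme.Modules.pullbackCongr]

theorem isIso_comp_fiber' {X Y Z : ModSch.{u}} (f : X ⟶ Y) (g : Y ⟶ Z) (hf : IsIso f.fiber) (hg : IsIso g.fiber) :
    IsIso (f ≫ g).fiber := by
  rw [Pseudofunctor.CoGrothendieck.categoryStruct_comp_fiber]
  infer_instance

theorem funMor_injective {T : Scheme.{u}} {a b : Γ(T, ⊤)} (h : funMor a = funMor b) : a = b := by
  rw [← morFun_funMor a, ← morFun_funMor b, h]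

theorem act_triv_injective {T : Scheme.{u}} {Y : ModSch.{u}} {f : triv T ⟶ Y} (hf : IsIso f.fiber) {c : Γ(T, ⊤)}
    (h : act (X := triv T) c f = f) : c = 1 :=
  isIso_fiber_act_iff (X := triv T) hf Euler.isInvertible_structure h

variable {X : Scheme.{u}} [QuasiSeparatedSpace X] {E : X.Modules}

/-- Every invertible module has a universal trivialising arrow. -/
theorem exists_univArrow (hE : PicF.IsInvertible E) :
    ∃ (V : Scheme.{u}) (υ : triv V ⟶ (⟨X, E⟩ : ModSch.{u})), IsIso υ.fiber ∧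
      LocallyOfFiniteType υ.base ∧ (IsLocallyNoetherian X → CompactSpace X → CompactSpace V) ∧
      ∀ (T : Scheme.{u}) (α : triv T ⟶ (⟨X, E⟩ : ModSch.{u})), IsIso α.fiber →
        ∃! x : T ⟶ V, hat x ≫ υ = α := by
  obtain ⟨V, π, τ, hτ, hlft, hcpt, huniv⟩ := exists_frameBundle hE
  let υ : triv V ⟶ (⟨X, E⟩ : ModSch.{u}) := ⟨π, inv τ⟩
  have hυ : IsIso υ.fiber := inferInstanceAs (IsIso (inv τ))
  have hlocal : ∀ (T : Scheme.{u}) [IsAffine T] (α : triv T ⟶ (⟨X, E⟩ : ModSch.{u})), IsIso α.fiber →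
      ∃! x : T ⟶ V, hat x ≫ υ = α := by
    intro T _ α hα
    obtain ⟨g, φ⟩ := α
    haveI : IsIso φ := hα
    haveI : QuasiCompact g := quasiCompact_of_compactSpace g
    obtain ⟨x, ⟨hx, hxt⟩, huniq⟩ := huniv T g (inv φ) inferInstance
    have key : ∀ (y : T ⟶ V) (hy : y ≫ π = g),
        hat y ≫ υ = (⟨g, φ⟩ : triv T ⟶ (⟨X, E⟩ : ModSch.{u})) ↔ quotAlong E τ y hy ≫ unitI y = inv φ := by
      intro y hy
      subst hy
      haveI := isIso_unitI y
      haveI : IsIso (quotAlong E τ y rfl) := by unfold quotAlong; infer_instance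
      have hf : (hat y ≫ υ).fiber = inv (quotAlong E τ y rfl ≫ unitI y) := by
        simp only [Pseudofunctor.CoGrothendieck.categoryStruct_comp_fiber]
        refine Eq.trans ?_ (inv_comp_helper (Scheme.Modules.pullback y)
          ((Scheme.Modules.pullbackComp y π).app E).symm τ (unitI y) _ ?_)
        · simp [hat, υ]
          erw [Category.id_comp, IsIso.hom_inv_id_assoc]
          rfl
        · simp [quotAlong, Scheme.Modules.pullbackCongr]
      constructor
      · intro h
        have h' := Pseudofunctor.CoGrothendieck.Hom.congr h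
        rw [hf, eqToHom_refl, Category.comp_id] at h'
        subst h'
        exact IsIso.inv_inv.symm
      · intro h
        refine Pseudofunctor.CoGrothendieck.Hom.ext _ _ rfl ?_
        rw [hf, eqToHom_refl, Category.comp_id]
        exact IsIso.inv_eq_of_hom_inv_id (by rw [h]; exact IsIso.inv_hom_id _)
    refine ⟨x, (key x hx).2 hxt, fun y hy => ?_⟩
    have hb : y ≫ π = g := congrArg (·.base) hy
    exact huniq y ⟨hb, (key y hb).1 hy⟩
  refine ⟨V, υ, hυ, hlft, hcpt, fun T α hα => ?_⟩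
  let 𝒰 := T.affineCover
  have hres : ∀ {W : Scheme.{u}} (i : W ⟶ T), IsIso (hat i ≫ α).fiber := fun i =>
    isIso_comp_fiber' _ _ (isIso_hat i) hα
  choose x hx hxu using fun i => hlocal (𝒰.X i) (hat (𝒰.f i) ≫ α) (hres _)
  have huniq : ∀ {W : Scheme.{u}} (w : W ⟶ T) (y y' : W ⟶ V),
      hat y ≫ υ = hat w ≫ α → hat y' ≫ υ = hat w ≫ α → y = y' := fun {W} w y y' h h' => by
    refine W.affineCover.hom_ext _ _ fun i => ?_
    have h1 : hat (W.affineCover.f i ≫ y) ≫ υ = hat (W.affineCover.f i ≫ w) ≫ α := by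
      rw [← hat_comp, ← hat_comp, Category.assoc, Category.assoc, h]
    have h2 : hat (W.affineCover.f i ≫ y') ≫ υ = hat (W.affineCover.f i ≫ w) ≫ α := by
      rw [← hat_comp, ← hat_comp, Category.assoc, Category.assoc, h']
    exact ExistsUnique.unique (hlocal _ _ (hres _)) h1 h2
  let g : T ⟶ V := 𝒰.glueMorphisms x fun i j => by
    refine huniq (pullback.fst (𝒰.f i) (𝒰.f j) ≫ 𝒰.f i) _ _ ?_ ?_
    · rw [← hat_comp, ← hat_comp, Category.assoc, Category.assoc, hx]
    · rw [pullback.condition, ← hat_comp, ← hat_comp, Category.assoc, Category.assoc, hx]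
  have hg : ∀ i, 𝒰.f i ≫ g = x i := fun i => Scheme.Cover.ι_glueMorphisms ..
  refine ⟨g, ?_, fun y hy => 𝒰.hom_ext _ _ fun i => ?_⟩
  · have hbase : g ≫ υ.base = α.base := 𝒰.hom_ext _ _ fun i => by
      rw [← Category.assoc, hg]
      exact congrArg (·.base) (hx i)
    obtain ⟨c, hc⟩ := exists_eq_act α (hat g ≫ υ) hbase hα (Euler.isInvertible_structure)
    suffices c = 1 by
      show hat g ≫ υ = α
      rw [hc, this, act_one]
    have hloc : ∀ i, (𝒰.f i).appTop c = 1 := fun i => by
      refine act_triv_injective (hres (𝒰.f i)) ?_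
      have h1 := congrArg (hat (𝒰.f i) ≫ ·) hc
      simp only [← Category.assoc, hat_comp, hg, hx, comp_act] at h1
      exact h1.symm
    refine (funMor_injective (𝒰.hom_ext _ _ fun i => morFun_injective ?_))
    rw [morFun_comp, morFun_comp, morFun_funMor, morFun_funMor, hloc i, map_one]
  · refine (hxu i (𝒰.f i ≫ y) ?_).trans (hg i).symm
    show hat (𝒰.f i ≫ y) ≫ υ = hat (𝒰.f i) ≫ α
    rw [← hat_comp, Category.assoc]; exact congrArg (hat (𝒰.f i) ≫ ·) hy

end GrothLib.ThetaGrp15
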